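import Cfsg.Agent.Lib.GLClass.Regular

/-!
# Regular unipotent elements of symplectic groups in odd characteristic: centralisers and classes
-/

set_option autoImplicit false
set_option linter.all false

namespace CfsgLib.RegUnip.Symp

open Matrix CfsgLib.GLClass

variable {F : Type*} [Field F] {n : ℕ}

/-- the Gram matrix of an alternating form, normalised to square to `-1` -/
structure IsJ (J : Matrix (Fin n) (Fin n) F) : Prop where
  sq : J * J = -1
  tr : Jᵀ = -J

/-- the adjoint for `J` -/
def adj (J M : Matrix (Fin n) (Fin n) F) : Matrix (Fin n) (Fin n) F := -(J * Mᵀ * J)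

variable {J : Matrix (Fin n) (Fin n) F}

section Adjoint

variable (hJ : IsJ J)
include hJ

theorem jj_mul (z : Matrix (Fin n) (Fin n) F) : J * (J * z) = -z := by rw [← mul_assoc, hJ.sq, neg_one_mul]

theorem adj_add (a b : Matrix (Fin n) (Fin n) F) : adj J (a + b) = adj J a + adj J b := by
  simp only [adj, Matrix.transpose_add, mul_add, add_mul, neg_add]

theorem adj_sub (a b : Matrix (Fin n) (Fin n) F) : adj J (a - b) = adj J a - adj J b := by
  simp only [adj, Matrix.transpose_sub, mul_sub, sub_mul, neg_sub]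
  abel

theorem adj_smul (c : F) (a : Matrix (Fin n) (Fin n) F) : adj J (c • a) = c • adj J a := by
  simp only [adj, Matrix.transpose_smul, mul_smul_comm, smul_mul_assoc, smul_neg]

theorem adj_one : adj J (1 : Matrix (Fin n) (Fin n) F) = 1 := by
  simp only [adj, Matrix.transpose_one, mul_one, hJ.sq, neg_neg]

theorem adj_mul (a b : Matrix (Fin n) (Fin n) F) : adj J (a * b) = adj J b * adj J a := by
  simp only [adj, Matrix.transpose_mul, neg_mul, mul_neg, neg_neg, mul_assoc, jj_mul hJ]

theorem adj_adj (a : Matrix (Fin n) (Fin n) F) : adj J (adj J a) = a := by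
  simp only [adj, Matrix.transpose_neg, Matrix.transpose_mul, Matrix.transpose_transpose, hJ.tr, neg_mul, mul_neg,
    neg_neg, mul_assoc, jj_mul hJ, hJ.sq, mul_one]

theorem adj_pow (a : Matrix (Fin n) (Fin n) F) : ∀ k, adj J (a ^ k) = adj J a ^ k
  | 0 => by rw [pow_zero, pow_zero, adj_one hJ]
  | k + 1 => by rw [pow_succ, adj_mul hJ, adj_pow a k, pow_succ']

theorem adj_sum {κ : Type*} (s : Finset κ) (f : κ → Matrix (Fin n) (Fin n) F) :
    adj J (∑ i ∈ s, f i) = ∑ i ∈ s, adj J (f i) :=
  map_sum (AddMonoidHom.mk' (adj J) (adj_add hJ)) f s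

theorem adj_scalar (c : F) : adj J (c • (1 : Matrix (Fin n) (Fin n) F)) = c • 1 := by
  rw [adj_smul hJ, adj_one hJ]

theorem adj_nilpotent {a : Matrix (Fin n) (Fin n) F} (h : IsNilpotent a) : IsNilpotent (adj J a) := by
  obtain ⟨k, hk⟩ := h
  exact ⟨k, by rw [← adj_pow hJ, hk, show (0 : Matrix (Fin n) (Fin n) F) = (0 : F) • 1 by simp, adj_smul hJ]; simp⟩

theorem adj_mul_self_adj (x : Matrix (Fin n) (Fin n) F) : adj J (adj J x * x) = adj J x * x := by
  rw [adj_mul hJ, adj_adj hJ]

end Adjoint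

theorem scalar_unique (hn : 1 ≤ n) {M : Matrix (Fin n) (Fin n) F} {a b : F} (ha : IsNilpotent (M - a • 1))
    (hb : IsNilpotent (M - b • 1)) : a = b := by
  haveI : Nonempty (Fin n) := ⟨⟨0, hn⟩⟩
  have h : IsNilpotent ((b - a) • (1 : Matrix (Fin n) (Fin n) F)) := by
    have e : (b - a) • (1 : Matrix (Fin n) (Fin n) F) = (M - a • 1) - (M - b • 1) := by rw [sub_smul]; abel
    rw [e]
    exact Commute.isNilpotent_sub (((Commute.refl M).sub_right ((Commute.one_right M).smul_right b)).sub_left
      (((Commute.one_left M).smul_left a).sub_right (((Commute.one_left _).smul_left a).smul_right b))) ha hb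
  obtain ⟨k, hk⟩ := h
  rw [smul_pow, one_pow, smul_eq_zero] at hk
  rcases hk with hk | hk
  · rcases k with _ | k
    · simp at hk
    · exact (sub_eq_zero.1 ((pow_eq_zero_iff (by omega)).1 hk)).symm
  · exact absurd hk one_ne_zero

theorem scalar_mul {M N : Matrix (Fin n) (Fin n) F} (hc : Commute M N) {a b : F} (ha : IsNilpotent (M - a • 1))
    (hb : IsNilpotent (N - b • 1)) : IsNilpotent (M * N - (a * b) • 1) := by
  have e : M * N - (a * b) • 1 = (M - a • 1) * N + a • (N - b • 1) := by
    rw [sub_mul, smul_mul_assoc, one_mul, smul_sub, smul_smul]; abel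
  rw [e]
  have h1 : Commute (M - a • 1) N := hc.sub_left ((Commute.one_left N).smul_left a)
  refine Commute.isNilpotent_add ?_ (h1.isNilpotent_mul_right ha) (hb.smul a)
  exact (((h1.sub_right ((Commute.one_right _).smul_right b)).mul_left
    ((Commute.refl N).sub_right ((Commute.one_right N).smul_right b))).smul_right a)

theorem isUnit_of_scalar {M : Matrix (Fin n) (Fin n) F} {a : F} (ha : IsNilpotent (M - a • 1)) (h0 : a ≠ 0) :
    IsUnit M := by
  have hu : IsUnit (a • (1 : Matrix (Fin n) (Fin n) F)) :=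
    ⟨⟨a • 1, a⁻¹ • 1, by simp [smul_smul, h0], by simp [smul_smul, h0]⟩, rfl⟩
  have := ha.isUnit_add_left_of_commute hu ((Commute.one_right _).smul_right a)
  simpa using this

section Skew

variable {t : Matrix (Fin n) (Fin n) F} (ht : IsBlock t) (hn : 1 ≤ n)
include ht hn

theorem blockPoly_scalar (a : Fin n → F) : IsNilpotent (blockPoly t a - a ⟨0, hn⟩ • 1) := by
  classical
  rw [blockPoly, ← Finset.add_sum_erase _ _ (Finset.mem_univ (⟨0, hn⟩ : Fin n))]
  rw [show ((⟨0, hn⟩ : Fin n) : ℕ) = 0 from rfl, pow_zero, add_sub_cancel_left]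
  refine Commute.isNilpotent_sum (fun i hi => ?_) fun i j _ _ =>
    (((Commute.refl t).pow_pow _ _).smul_right _).smul_left _
  obtain ⟨hne, -⟩ := Finset.mem_erase.1 hi
  refine IsNilpotent.smul ⟨n, ?_⟩ _
  rw [← pow_mul]
  refine pow_eq_zero_of_le (Nat.le_mul_of_pos_left n (Nat.pos_of_ne_zero fun h0 => hne ?_)) ht.nil
  exact Fin.ext h0

theorem exists_scalar {M : Matrix (Fin n) (Fin n) F} (hM : Commute t M) : ∃ c : F, IsNilpotent (M - c • 1) := by
  obtain ⟨a, rfl⟩ := exists_blockPoly_of_commute ht hn hM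
  exact ⟨_, blockPoly_scalar ht hn a⟩

theorem commute_of_commute {M N : Matrix (Fin n) (Fin n) F} (hM : Commute t M) (hN : Commute t N) : Commute M N := by
  obtain ⟨a, rfl⟩ := exists_blockPoly_of_commute ht hn hM
  exact Commute.sum_left _ _ _ fun i _ => ((hN.pow_left _).smul_left _)

variable (hJ : IsJ J) (hskew : adj J t = -t)
include hJ hskew

theorem adj_blockPoly (a : Fin n → F) : adj J (blockPoly t a) = blockPoly t (fun i => (-1) ^ (i : ℕ) * a i) := by
  rw [blockPoly, adj_sum hJ, blockPoly]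
  refine Finset.sum_congr rfl fun i _ => ?_
  rw [adj_smul hJ, adj_pow hJ, hskew, ← neg_one_smul F t, smul_pow, smul_smul, mul_comm]

theorem commute_adj {M : Matrix (Fin n) (Fin n) F} (hM : Commute t M) : Commute t (adj J M) := by
  obtain ⟨a, rfl⟩ := exists_blockPoly_of_commute ht hn hM
  rw [adj_blockPoly ht hn hJ hskew]
  exact commute_blockPoly _

variable [Fintype F] (h2 : (2 : F) ≠ 0)
include h2

/-- square roots of fixed units congruent to one -/
theorem exists_sqrt {a : Matrix (Fin n) (Fin n) F} (hc : Commute t a) (hfix : adj J a = a)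
    (hnil : IsNilpotent (a - 1)) :
    ∃ s, Commute t s ∧ adj J s = s ∧ IsNilpotent (s - 1) ∧ s * s = a := by
  classical
  let P := {M : Matrix (Fin n) (Fin n) F // Commute t M ∧ adj J M = M ∧ IsNilpotent (M - 1)}
  let sqr : P → P := fun M => ⟨M.1 * M.1, M.2.1.mul_right M.2.1, by rw [adj_mul hJ, M.2.2.1], by
    have := scalar_mul (Commute.refl M.1) (a := 1) (b := 1) (by simpa using M.2.2.2) (by simpa using M.2.2.2)
    simpa using this⟩
  have hinj : Function.Injective sqr := by
    intro M N h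
    have hMN : Commute M.1 N.1 := commute_of_commute ht hn M.2.1 N.2.1
    have hsq : M.1 * M.1 = N.1 * N.1 := congrArg Subtype.val h
    have hu : IsUnit (M.1 + N.1) := by
      refine isUnit_of_scalar (a := 2) ?_ h2
      have e : M.1 + N.1 - (2 : F) • (1 : Matrix (Fin n) (Fin n) F) = (M.1 - 1) + (N.1 - 1) := by
        rw [two_smul]; abel
      rw [e]
      exact Commute.isNilpotent_add (((hMN.sub_right (Commute.one_right _))).sub_left (Commute.one_left _))
        M.2.2.2 N.2.2.2
    have h0 : (M.1 + N.1) * (M.1 - N.1) = 0 := by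
      rw [add_mul, mul_sub, mul_sub, hMN.eq, hsq]; abel
    exact Subtype.ext (sub_eq_zero.1 (hu.mul_right_eq_zero.1 h0))
  obtain ⟨s, hs⟩ := (Finite.injective_iff_surjective.1 hinj) ⟨a, hc, hfix, hnil⟩
  exact ⟨s.1, s.2.1, s.2.2.1, s.2.2.2, congrArg Subtype.val hs⟩

/-- the isometries commuting with a skew block -/
theorem card_skew_centralizer {m : ℕ} (hm : n = 2 * m) :
    Nat.card {g : Matrix (Fin n) (Fin n) F // adj J g * g = 1 ∧ Commute t g} = 2 * Fintype.card F ^ m := by
  classical
  let od : (Fin m → F) → Fin n → F := fun d i => if h : (i : ℕ) % 2 = 1 then d ⟨(i : ℕ) / 2, by omega⟩ else 0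
  let Y : (Fin m → F) → Matrix (Fin n) (Fin n) F := fun d => blockPoly t (od d)
  have hYc : ∀ d, Commute t (Y d) := fun d => commute_blockPoly _
  have hYs : ∀ d, adj J (Y d) = -Y d := fun d => by
    show adj J (blockPoly t (od d)) = -blockPoly t (od d)
    rw [adj_blockPoly ht hn hJ hskew, blockPoly, blockPoly, ← Finset.sum_neg_distrib]
    refine Finset.sum_congr rfl fun i _ => ?_
    rw [← neg_smul]
    congr 1
    simp only [od]
    split_ifs with h
    · rw [(Nat.odd_iff.2 h).neg_one_pow, neg_one_mul]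
    · rw [mul_zero, neg_zero]
  have hYn : ∀ d, IsNilpotent (Y d) := fun d => by
    have := blockPoly_scalar ht hn (od d)
    simpa [Y, od] using this
  let A : (Fin m → F) → (Matrix (Fin n) (Fin n) F)ˣ := fun d => (hYn d).isUnit_one_add.unit
  have hA : ∀ d, (A d : Matrix (Fin n) (Fin n) F) = 1 + Y d := fun d => IsUnit.unit_spec _
  let g : (Fin m → F) → Matrix (Fin n) (Fin n) F := fun d => (1 - Y d) * ((A d)⁻¹ : (Matrix (Fin n) (Fin n) F)ˣ)
  have hg : ∀ d, adj J (g d) * g d = 1 ∧ Commute t (g d) ∧ IsNilpotent (g d - 1) := by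
    intro d
    have hcA : Commute t (A d : Matrix (Fin n) (Fin n) F) := hA d ▸ (Commute.one_right t).add_right (hYc d)
    have hcw : Commute t (((A d)⁻¹ : (Matrix (Fin n) (Fin n) F)ˣ) : Matrix (Fin n) (Fin n) F) := hcA.units_inv_right
    obtain ⟨w, hw⟩ : ∃ w, w = (((A d)⁻¹ : (Matrix (Fin n) (Fin n) F)ˣ) : Matrix (Fin n) (Fin n) F) := ⟨_, rfl⟩
    rw [← hw] at hcw
    have hwA : w * (1 + Y d) = 1 := by rw [hw, ← hA]; exact Units.inv_mul _
    have hgd : g d = (1 - Y d) * w := by rw [hw]
    have hgc : Commute t (g d) := hgd ▸ ((Commute.one_right t).sub_right (hYc d)).mul_right hcw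
    refine ⟨?_, hgc, ?_⟩
    · have hw2 : (1 - Y d) * adj J w = 1 := by
        have e := congrArg (adj J) hwA
        rwa [adj_mul hJ, adj_add hJ, adj_one hJ, hYs, ← sub_eq_add_neg] at e
      have hc1 : Commute (adj J (g d)) (g d) := commute_of_commute ht hn (commute_adj ht hn hJ hskew hgc) hgc
      have hc2 : Commute (1 - Y d) w :=
        commute_of_commute ht hn ((Commute.one_right t).sub_right (hYc d)) hcw
      rw [hc1.eq, hgd, adj_mul hJ, adj_sub hJ, adj_one hJ, hYs, sub_neg_eq_add, hc2.eq, mul_assoc,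
        ← mul_assoc (1 - Y d), hw2, one_mul, hwA]
    · have e : g d - 1 = -(((Y d) + Y d) * w) := by
        rw [hgd]
        nth_rewrite 2 [← show (1 + Y d) * w = 1 from by
          rw [(commute_of_commute ht hn ((Commute.one_right t).add_right (hYc d)) hcw).eq]; exact hwA]
        rw [← sub_mul, ← neg_mul]
        congr 1
        abel
      rw [e]
      refine (Commute.isNilpotent_mul_right ?_ ?_).neg
      · exact commute_of_commute ht hn ((hYc d).add_right (hYc d)) hcw
      · exact Commute.isNilpotent_add (Commute.refl _) (hYn d) (hYn d)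
  have hYi : Function.Injective Y := by
    intro d d' h
    have h' := blockPoly_injective ht hn h
    funext j
    have := congrFun h' ⟨2 * (j : ℕ) + 1, by omega⟩
    simp only [od] at this
    rw [dif_pos (show (2 * (j : ℕ) + 1) % 2 = 1 by omega), dif_pos (show (2 * (j : ℕ) + 1) % 2 = 1 by omega)] at this
    convert this using 2 <;> exact Fin.ext (by simp; omega)
  let f : Bool × (Fin m → F) → {g : Matrix (Fin n) (Fin n) F // adj J g * g = 1 ∧ Commute t g} := fun p =>
    ⟨(if p.1 then (1 : F) else -1) • g p.2, by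
      rw [adj_smul hJ, smul_mul_assoc, mul_smul_comm, smul_smul, (hg p.2).1]
      cases p.1 <;> simp, (hg p.2).2.1.smul_right _⟩
  have hbij : Function.Bijective f := by
    constructor
    · rintro ⟨b, d⟩ ⟨b', d'⟩ h
      have h' : (if b then (1 : F) else -1) • g d = (if b' then (1 : F) else -1) • g d' := congrArg Subtype.val h
      have hb : (if b then (1 : F) else -1) = if b' then (1 : F) else -1 := by
        refine scalar_unique hn (M := (if b then (1 : F) else -1) • g d) ?_ ?_
        · rw [← smul_sub]; exact (hg d).2.2.smul _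
        · rw [h', ← smul_sub]; exact (hg d').2.2.smul _
      have hbb : b = b' := by
        cases b <;> cases b' <;> simp at hb ⊢ <;>
          first | exact h2 (by linear_combination hb) | exact h2 (by linear_combination -hb)
      subst hbb
      have hgg : g d = g d' := by
        have := congrArg ((if b then (1 : F) else -1) • ·) h'
        simp only [smul_smul] at this
        cases b <;> simpa using this
      refine Prod.ext rfl (hYi ?_)
      have rec' : ∀ d, (1 + g d) * Y d = 1 - g d := fun d => by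
        have hc : Commute (g d) (Y d) := commute_of_commute ht hn (hg d).2.1 (hYc d)
        have e : g d * (1 + Y d) = 1 - Y d := by
          show (1 - Y d) * _ * _ = _
          rw [← hA, mul_assoc, Units.inv_mul, mul_one]
        rw [mul_add, mul_one] at e
        rw [add_mul, one_mul, eq_sub_iff_add_eq, show Y d + g d * Y d + g d = g d + g d * Y d + Y d by abel, e]
        abel
      have hu : IsUnit (1 + g d) := isUnit_of_scalar (a := 2) (by
        rw [show 1 + g d - (2 : F) • (1 : Matrix (Fin n) (Fin n) F) = g d - 1 by rw [two_smul]; abel]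
        exact (hg d).2.2) h2
      refine hu.mul_left_cancel ?_
      rw [rec', hgg, rec']
    · rintro ⟨G, hG, hGc⟩
      obtain ⟨c, hc⟩ := exists_scalar ht hn hGc
      have hc2 : c * c = 1 := by
        have hadjc : IsNilpotent (adj J G - c • 1) := by
          have := adj_nilpotent hJ hc
          rwa [adj_sub hJ, adj_scalar hJ] at this
        have := scalar_mul (commute_of_commute ht hn (commute_adj ht hn hJ hskew hGc) hGc) hadjc hc
        rw [hG] at this
        exact scalar_unique hn this (by simp)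
      obtain ⟨h, hh⟩ : ∃ h, h = c • G := ⟨_, rfl⟩
      have hhs : adj J h * h = 1 := by rw [hh, adj_smul hJ, smul_mul_assoc, mul_smul_comm, smul_smul, hG, hc2, one_smul]
      have hhc : Commute t h := hh ▸ hGc.smul_right _
      have hhn : IsNilpotent (h - 1) := by
        rw [hh, show (1 : Matrix (Fin n) (Fin n) F) = c • c • 1 by rw [smul_smul, hc2, one_smul], ← smul_sub]
        exact hc.smul _
      have hu : IsUnit (1 + h) := isUnit_of_scalar (a := 2) (by
        rw [show 1 + h - (2 : F) • (1 : Matrix (Fin n) (Fin n) F) = h - 1 by rw [two_smul]; abel]; exact hhn) h2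
      obtain ⟨W, hW⟩ := hu
      obtain ⟨w, hw⟩ : ∃ w, w = ((W⁻¹ : (Matrix (Fin n) (Fin n) F)ˣ) : Matrix (Fin n) (Fin n) F) := ⟨_, rfl⟩
      have hwh : w * (1 + h) = 1 := by rw [hw, ← hW]; exact Units.inv_mul _
      have hWc : Commute t (W : Matrix (Fin n) (Fin n) F) := hW ▸ (Commute.one_right t).add_right hhc
      have hwc : Commute t w := hw ▸ hWc.units_inv_right
      obtain ⟨y, hy⟩ : ∃ y, y = (1 - h) * w := ⟨_, rfl⟩
      have hyc : Commute t y := hy ▸ ((Commute.one_right t).sub_right hhc).mul_right hwc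
      have hye : y * (1 + h) = 1 - h := by rw [hy, mul_assoc, hwh, mul_one]
      have hys : adj J y = -y := by
        have e := congrArg (adj J) hye
        rw [adj_mul hJ, adj_add hJ, adj_sub hJ, adj_one hJ] at e
        -- multiply by `h`
        have e2 := congrArg (· * h) e
        rw [mul_assoc, (commute_of_commute ht hn (commute_adj ht hn hJ hskew hyc) hhc).eq, ← mul_assoc, add_mul, hhs,
          one_mul, sub_mul, hhs, one_mul, add_comm h] at e2
        have hu' : IsUnit (1 + h) := ⟨W, hW⟩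
        refine hu'.mul_left_cancel ?_
        rw [e2, mul_neg, (commute_of_commute ht hn ((Commute.one_right t).add_right hhc) hyc).eq, hye, neg_sub]
      obtain ⟨a, ha⟩ := exists_blockPoly_of_commute ht hn hyc
      have hpar : ∀ i : Fin n, (i : ℕ) % 2 = 0 → a i = 0 := by
        intro i hi
        have hna : -blockPoly t a = blockPoly t (fun i => -a i) := by
          simp [blockPoly, Finset.sum_neg_distrib]
        rw [← ha, adj_blockPoly ht hn hJ hskew, hna] at hys
        have := congrFun (blockPoly_injective ht hn hys) i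
        rw [(Nat.even_iff.2 hi).neg_one_pow, one_mul] at this
        exact (mul_eq_zero.1 (show (2 : F) * a i = 0 by linear_combination this)).resolve_left h2
      obtain ⟨d, hd⟩ : ∃ d : Fin m → F, Y d = y := ⟨fun j => a ⟨2 * (j : ℕ) + 1, by omega⟩, by
        rw [← ha]
        show blockPoly t _ = _
        congr 1
        funext i
        simp only [od]
        split_ifs with h
        · congr 1; exact Fin.ext (by simp; omega)
        · exact (hpar i (by omega)).symm⟩
      refine ⟨(if c = 1 then true else false, d), Subtype.ext ?_⟩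
      have hgd : g d = h := by
        show (1 - Y d) * _ = h
        rw [Units.mul_inv_eq_iff_eq_mul, hA, hd]
        have e : y + y * h = 1 - h := by rw [← hye, mul_add, mul_one]
        rw [mul_add, mul_one, ← (commute_of_commute ht hn hyc hhc).eq]
        rw [sub_eq_iff_eq_add, eq_sub_iff_add_eq] at *
        rw [← e]; abel
      show (if (if c = 1 then true else false) = true then (1 : F) else -1) • g d = G
      rw [hgd, hh, smul_smul]
      rcases mul_self_eq_one_iff.1 hc2 with rfl | rfl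
      · simp
      · simp [show (-1 : F) ≠ 1 from fun e => h2 (by linear_combination -e)]
  rw [← Nat.card_congr (Equiv.ofBijective f hbij), Nat.card_prod, Nat.card_fun]
  simp [Nat.card_eq_fintype_card]

end Skew

section Regular

variable [Fintype F] (hn : 1 ≤ n) (hJ : IsJ J) (h2 : (2 : F) ≠ 0)
include hn hJ h2

variable {u : Matrix (Fin n) (Fin n) F} (hu : adj J u * u = 1) (hb : IsBlock (u - 1))
include hu hb

theorem skew_block : IsBlock (u - adj J u) ∧ adj J (u - adj J u) = -(u - adj J u) := by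
  refine ⟨?_, by rw [adj_sub hJ, adj_adj hJ, neg_sub]⟩
  have hu' : u * adj J u = 1 := mul_eq_one_comm.1 hu
  obtain ⟨w, hw⟩ : ∃ w, w = (1 + u) * adj J u := ⟨_, rfl⟩
  have he : u - adj J u = (u - 1) * w := by
    rw [hw, ← mul_assoc, show (u - 1) * (1 + u) = u * u - 1 by rw [sub_mul, mul_add, mul_one, one_mul]; abel,
      sub_mul, mul_assoc, hu', mul_one, one_mul]
  have hc : Commute (u - 1) w := by
    rw [hw]
    refine Commute.mul_right ?_ ?_
    · exact (((Commute.one_right u).add_right (Commute.refl u))).sub_left (Commute.one_left _)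
    · exact (show Commute u (adj J u) from hu'.trans hu.symm).sub_left (Commute.one_left _)
  have hwu : IsUnit w := by
    rw [hw]
    refine IsUnit.mul (isUnit_of_scalar (a := 2) ?_ h2) (IsUnit.of_mul_eq_one _ hu)
    rw [show 1 + u - (2 : F) • (1 : Matrix (Fin n) (Fin n) F) = u - 1 by rw [two_smul]; abel]
    exact ⟨n, hb.nil⟩
  refine ⟨?_, ?_⟩
  · rw [he, hc.mul_pow, hb.nil, zero_mul]
  · rw [he, Matrix.rank_mul_eq_left_of_isUnit_det _ _ ((Matrix.isUnit_iff_isUnit_det _).1 hwu), hb.rank_eq]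

theorem commute_skew_iff (g : Matrix (Fin n) (Fin n) F) : Commute u g ↔ Commute (u - adj J u) g := by
  have hu' : u * adj J u = 1 := mul_eq_one_comm.1 hu
  constructor
  · intro h
    refine h.sub_left ?_
    exact (show Commute (↑(⟨u, adj J u, hu', hu⟩ : (Matrix (Fin n) (Fin n) F)ˣ)⁻¹ : Matrix (Fin n) (Fin n) F) g from
      (show Commute (↑(⟨u, adj J u, hu', hu⟩ : (Matrix (Fin n) (Fin n) F)ˣ) : Matrix (Fin n) (Fin n) F) g from h).units_inv_left)
  · intro h
    obtain ⟨hB, -⟩ := skew_block hn hJ h2 hu hb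
    exact commute_of_commute hB hn
      (show Commute (u - adj J u) u from (Commute.refl u).sub_left (show Commute (adj J u) u from hu.trans hu'.symm)) h

theorem card_centralizer {m : ℕ} (hm : n = 2 * m) :
    Nat.card {g : Matrix (Fin n) (Fin n) F // adj J g * g = 1 ∧ Commute u g} = 2 * Fintype.card F ^ m := by
  obtain ⟨hB, hs⟩ := skew_block hn hJ h2 hu hb
  rw [← card_skew_centralizer hB hn hJ hs h2 hm]
  exact Nat.card_congr (Equiv.subtypeEquivRight fun g => by rw [commute_skew_iff hn hJ h2 hu hb])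

omit hu hb in
/-- `v` is obtained from `u` by a map with discriminant `δ` -/
def Cls (J u v : Matrix (Fin n) (Fin n) F) (δ : F) : Prop :=
  ∃ x : (Matrix (Fin n) (Fin n) F)ˣ, (x : Matrix (Fin n) (Fin n) F) * u = v * x ∧
    IsNilpotent (adj J (x : Matrix (Fin n) (Fin n) F) * x - δ • 1)

theorem commute_gram {v : Matrix (Fin n) (Fin n) F} (hv : adj J v * v = 1) {x : Matrix (Fin n) (Fin n) F}
    (hx : x * u = v * x) : Commute (u - adj J u) (adj J x * x) := by
  rw [← commute_skew_iff hn hJ h2 hu hb]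
  show u * (adj J x * x) = adj J x * x * u
  have e := congrArg (adj J) hx
  rw [adj_mul hJ, adj_mul hJ] at e
  have e2 : adj J x * v = u * adj J x := by
    have := congrArg (fun z => u * z * v) e
    simp only [← mul_assoc, mul_eq_one_comm.1 hu, one_mul] at this
    rwa [mul_assoc (u * adj J x), hv, mul_one] at this
  rw [mul_assoc, hx, ← mul_assoc, ← mul_assoc, e2]

theorem exists_cls {v : Matrix (Fin n) (Fin n) F} (hv : adj J v * v = 1) (hvb : IsBlock (v - 1)) :
    ∃ δ : F, δ ≠ 0 ∧ Cls J u v δ := by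
  obtain ⟨x, hx⟩ := isConj_of_isBlock hb hvb
  obtain ⟨δ, hδ⟩ := exists_scalar (skew_block hn hJ h2 hu hb).1 hn (commute_gram hn hJ h2 hu hb hv hx.eq)
  refine ⟨δ, fun h0 => ?_, x, hx.eq, hδ⟩
  rw [h0, zero_smul, sub_zero] at hδ
  haveI : Nonempty (Fin n) := ⟨⟨0, hn⟩⟩
  have hux : IsUnit (adj J (x : Matrix (Fin n) (Fin n) F) * x) := by
    refine IsUnit.mul (IsUnit.of_mul_eq_one (adj J (↑x⁻¹ : Matrix (Fin n) (Fin n) F)) ?_) x.isUnit
    rw [← adj_mul hJ, Units.inv_mul, adj_one hJ]
  exact hδ.not_isUnit hux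

theorem isConj_of_cls {v : Matrix (Fin n) (Fin n) F} (hv : adj J v * v = 1) {r : F} (hr : r ≠ 0)
    (h : Cls J u v (r * r)) : ∃ y : Matrix (Fin n) (Fin n) F, adj J y * y = 1 ∧ y * u = v * y := by
  obtain ⟨x, hx, hδ⟩ := h
  obtain ⟨hB, hs⟩ := skew_block hn hJ h2 hu hb
  have hac : Commute (u - adj J u) (adj J (x : Matrix (Fin n) (Fin n) F) * x) := commute_gram hn hJ h2 hu hb hv hx
  obtain ⟨s, hsc, hsf, hsn, hss⟩ := exists_sqrt hB hn hJ hs h2
    (a := (r * r)⁻¹ • (adj J (x : Matrix (Fin n) (Fin n) F) * x)) (hac.smul_right _)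
    (by rw [adj_smul hJ, adj_mul_self_adj hJ]) (by
      rw [show (1 : Matrix (Fin n) (Fin n) F) = (r * r)⁻¹ • (r * r) • 1 by
        rw [smul_smul, inv_mul_cancel₀ (mul_ne_zero hr hr), one_smul], ← smul_sub]
      exact hδ.smul _)
  obtain ⟨S, hS⟩ := isUnit_of_scalar (M := s) (a := (1 : F)) (by simpa using hsn) one_ne_zero
  obtain ⟨si, hsi⟩ : ∃ si, si = ((S⁻¹ : (Matrix (Fin n) (Fin n) F)ˣ) : Matrix (Fin n) (Fin n) F) := ⟨_, rfl⟩
  have hsi1 : si * s = 1 := by rw [hsi, ← hS]; exact Units.inv_mul _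
  have hsia : adj J si * s = 1 := by
    have := congrArg (adj J) (mul_eq_one_comm.1 hsi1)
    rwa [adj_mul hJ, hsf, adj_one hJ] at this
  refine ⟨r⁻¹ • ((x : Matrix (Fin n) (Fin n) F) * si), ?_, ?_⟩
  · rw [adj_smul hJ, adj_mul hJ, smul_mul_assoc, mul_smul_comm, smul_smul, ← mul_inv, mul_assoc,
      ← mul_assoc (adj J (x : Matrix (Fin n) (Fin n) F)), ← mul_smul_comm, ← smul_mul_assoc, ← hss, mul_assoc s,
      mul_eq_one_comm.1 hsi1, mul_one, hsia]
  · have hsu : Commute u si := by
      rw [hsi]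
      exact Commute.units_inv_right (hS.symm ▸ (commute_skew_iff hn hJ h2 hu hb s).2 hsc)
    rw [smul_mul_assoc, mul_smul_comm, mul_assoc, ← hsu.eq, ← mul_assoc, hx, mul_assoc]

theorem cls_unique {v : Matrix (Fin n) (Fin n) F} (hv : adj J v * v = 1) {δ δ' : F} (h : Cls J u v δ)
    (h' : Cls J u v δ') : ∃ b : F, δ' = b * b * δ := by
  obtain ⟨x, hx, hδ⟩ := h
  obtain ⟨x', hx', hδ'⟩ := h'
  obtain ⟨hB, hs⟩ := skew_block hn hJ h2 hu hb
  obtain ⟨z, hz⟩ : ∃ z, z = ((x⁻¹ : (Matrix (Fin n) (Fin n) F)ˣ) : Matrix (Fin n) (Fin n) F) * x' := ⟨_, rfl⟩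
  have hxz : (x : Matrix (Fin n) (Fin n) F) * z = x' := by rw [hz, ← mul_assoc, Units.mul_inv, one_mul]
  have hzu : Commute u z := by
    refine x.isUnit.mul_left_cancel ?_
    rw [← mul_assoc, hx, mul_assoc, hxz, ← hx', ← hxz, mul_assoc]
  have hzc := (commute_skew_iff hn hJ h2 hu hb z).1 hzu
  obtain ⟨b, hb'⟩ := exists_scalar hB hn hzc
  refine ⟨b, scalar_unique hn hδ' ?_⟩
  have hac : Commute (u - adj J u) (adj J (x : Matrix (Fin n) (Fin n) F) * x) := commute_gram hn hJ h2 hu hb hv hx
  have hzb : IsNilpotent (adj J z - b • 1) := by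
    have := adj_nilpotent hJ hb'
    rwa [adj_sub hJ, adj_scalar hJ] at this
  have hzac := commute_adj hB hn hJ hs hzc
  have h1 := scalar_mul (commute_of_commute hB hn hzac hzc) hzb hb'
  have h3 := scalar_mul (commute_of_commute hB hn (hzac.mul_right hzc) hac) h1 hδ
  rw [← hxz, adj_mul hJ, mul_assoc, ← mul_assoc (adj J (x : Matrix (Fin n) (Fin n) F)),
    (commute_of_commute hB hn hac hzc).eq, ← mul_assoc]
  exact h3

omit hu hb in
theorem cls_trans_similitude {w v : Matrix (Fin n) (Fin n) F} {d : (Matrix (Fin n) (Fin n) F)ˣ} {μ δ : F}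
    (hμ : μ ≠ 0) (hd : adj J (d : Matrix (Fin n) (Fin n) F) * d = μ • 1)
    (hw : (d : Matrix (Fin n) (Fin n) F) * u = w * d) (h : Cls J u v δ) : Cls J w v (δ / μ) := by
  obtain ⟨x, hx, hδ⟩ := h
  refine ⟨x * d⁻¹, ?_, ?_⟩
  · rw [Units.val_mul, mul_assoc]
    have : ((d⁻¹ : (Matrix (Fin n) (Fin n) F)ˣ) : Matrix (Fin n) (Fin n) F) * w = u * (d⁻¹ : (Matrix (Fin n) (Fin n) F)ˣ) := by
      rw [Units.inv_mul_eq_iff_eq_mul, ← mul_assoc, hw, mul_assoc, Units.mul_inv, mul_one]
    rw [this, ← mul_assoc, hx, mul_assoc]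
  · have hdi : adj J ((d⁻¹ : (Matrix (Fin n) (Fin n) F)ˣ) : Matrix (Fin n) (Fin n) F) =
        μ⁻¹ • (d : Matrix (Fin n) (Fin n) F) := by
      have e : adj J (d : Matrix (Fin n) (Fin n) F) = μ • ((d⁻¹ : (Matrix (Fin n) (Fin n) F)ˣ) : Matrix (Fin n) (Fin n) F) := by
        rw [← mul_one (adj J (d : Matrix (Fin n) (Fin n) F)), ← Units.mul_inv d, ← mul_assoc, hd, smul_mul_assoc, one_mul]
      have e2 := congrArg (adj J) e
      rw [adj_adj hJ, adj_smul hJ] at e2
      conv_rhs => rw [e2]
      rw [smul_smul, inv_mul_cancel₀ hμ, one_smul]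
    rw [Units.val_mul, adj_mul hJ, hdi, smul_mul_assoc, smul_mul_assoc, mul_assoc (d : Matrix (Fin n) (Fin n) F),
      ← mul_assoc (adj J (x : Matrix (Fin n) (Fin n) F))]
    obtain ⟨k, hk⟩ := hδ
    refine ⟨k, ?_⟩
    have e : μ⁻¹ • ((d : Matrix (Fin n) (Fin n) F) * (adj J (x : Matrix (Fin n) (Fin n) F) * x *
        ((d⁻¹ : (Matrix (Fin n) (Fin n) F)ˣ) : Matrix (Fin n) (Fin n) F))) - (δ / μ) • 1 =
        μ⁻¹ • ((d : Matrix (Fin n) (Fin n) F) * (adj J (x : Matrix (Fin n) (Fin n) F) * x - δ • 1) *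
          ((d⁻¹ : (Matrix (Fin n) (Fin n) F)ˣ) : Matrix (Fin n) (Fin n) F)) := by
      rw [mul_sub, sub_mul, mul_smul_comm, mul_one, smul_mul_assoc, Units.mul_inv, smul_sub, smul_smul,
        div_eq_inv_mul]
      simp only [mul_assoc]
    rw [e, smul_pow, Units.conj_pow]
    simp [hk]

end Regular

end CfsgLib.RegUnip.Symp
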