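import Cfsg.Agent.Lib.RegUnip.Gen

/-!
`SL_4` over a field with a prime number of elements: the Jordan block and its conjugate under a
transvection, with the transvection recovered as a triple commutator.
-/

set_option autoImplicit false

namespace CfsgLib.RegUnip

open Matrix CfsgLib.Perm.Trans
open scoped commutatorElement

/-- integer matrices: the Jordan block -/
def fourU : Matrix (Fin 4) (Fin 4) ℤ := !![1, 1, 0, 0; 0, 1, 1, 0; 0, 0, 1, 1; 0, 0, 0, 1]

/-- its inverse -/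
def fourUi : Matrix (Fin 4) (Fin 4) ℤ := !![1, -1, 1, -1; 0, 1, -1, 1; 0, 0, 1, -1; 0, 0, 0, 1]

/-- the transvection -/
def fourT : Matrix (Fin 4) (Fin 4) ℤ := !![1, 0, 0, 0; 0, 1, 0, 0; 0, 0, 1, 0; 1, 0, 0, 1]

/-- its inverse -/
def fourTi : Matrix (Fin 4) (Fin 4) ℤ := !![1, 0, 0, 0; 0, 1, 0, 0; 0, 0, 1, 0; -1, 0, 0, 1]

/-- the resulting transvection -/
def fourR : Matrix (Fin 4) (Fin 4) ℤ := !![1, 0, 0, 0; -1, 1, 0, 0; -2, 0, 1, 0; -1, 0, 0, 1]

/-- the Jordan block as a unit -/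
def fourUU : (Matrix (Fin 4) (Fin 4) ℤ)ˣ := ⟨fourU, fourUi, by decide +kernel, by decide +kernel⟩

/-- the transvection as a unit -/
def fourTU : (Matrix (Fin 4) (Fin 4) ℤ)ˣ := ⟨fourT, fourTi, by decide +kernel, by decide +kernel⟩

/-- the first word -/
def fourW : (Matrix (Fin 4) (Fin 4) ℤ)ˣ := fourTU * fourUU * fourTU⁻¹ * fourUU⁻¹

theorem four_word :
    ((⁅⁅fourW, fourUU * fourW * fourUU⁻¹⁆, fourW⁆ : (Matrix (Fin 4) (Fin 4) ℤ)ˣ) :
      Matrix (Fin 4) (Fin 4) ℤ) = fourR := by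
  decide +kernel

variable {F : Type*} [Field F] [Fintype F]

theorem four_partner (hp : (Fintype.card F).Prime) :
    ∃ s : Matrix.SpecialLinearGroup (Fin 4) F,
      Subgroup.closure {jordanSL 4 F, s * jordanSL 4 F * s⁻¹} = ⊤ := by
  classical
  let ι := Units.map ((Int.castRingHom F).mapMatrix.toMonoidHom :
    Matrix (Fin 4) (Fin 4) ℤ →* Matrix (Fin 4) (Fin 4) F)
  have hU : ι fourUU = jordanGL 4 F := Units.ext (by
    show (fourU).map (Int.castRingHom F) = 1 + CfsgLib.SLGen.jN 4 F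
    ext i j
    fin_cases i <;> fin_cases j <;> simp [fourU, CfsgLib.SLGen.jN])
  let s : Matrix.SpecialLinearGroup (Fin 4) F := ⟨(ι fourTU).1, by
    show ((fourT).map (Int.castRingHom F)).det = 1
    rw [← RingHom.mapMatrix_apply, ← RingHom.map_det, show fourT.det = 1 by decide +kernel, map_one]⟩
  refine ⟨s, ?_⟩
  have hsT : Matrix.SpecialLinearGroup.toGL s = ι fourTU := Units.ext rfl
  rw [← conjJordan_of_sl, hsT, ← pairGroup]
  set M := (pairGroup (ι fourTU)).map Matrix.SpecialLinearGroup.toGL with hM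
  have hUM : jordanGL 4 F ∈ M := jordanGL_mem_map _
  set W := ι fourW with hW
  have hWM : W ∈ M := by
    rw [hW, fourW, map_mul, map_mul, map_mul, map_inv, map_inv, hU]
    exact Subgroup.mul_mem _ (conj_mem_map _) (Subgroup.inv_mem _ hUM)
  have hR : ι (⁅⁅fourW, fourUU * fourW * fourUU⁻¹⁆, fourW⁆) ∈ M := by
    rw [map_commutatorElement, map_commutatorElement, map_mul, map_mul, map_inv, hU, ← hW]
    have h1 := Subgroup.mul_mem _ (Subgroup.mul_mem _ hUM hWM) (Subgroup.inv_mem _ hUM)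
    rw [commutatorElement_def, commutatorElement_def]
    exact Subgroup.mul_mem _ (Subgroup.mul_mem _ (Subgroup.mul_mem _
      (Subgroup.mul_mem _ (Subgroup.mul_mem _ (Subgroup.mul_mem _ hWM h1) (Subgroup.inv_mem _ hWM))
        (Subgroup.inv_mem _ h1)) hWM)
      (Subgroup.inv_mem _ (Subgroup.mul_mem _ (Subgroup.mul_mem _ (Subgroup.mul_mem _ hWM h1)
        (Subgroup.inv_mem _ hWM)) (Subgroup.inv_mem _ h1)))) (Subgroup.inv_mem _ hWM)
  set U := jordanGL 4 F with hUd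
  set b := (U ^ (2 : ℤ) : GL (Fin 4) F).1 *ᵥ lastVec 4 F with hb
  set φ := topVec 4 (1 : F) 0 0 with hφ
  have hpair : ∀ k : ℤ, pairing U⁻¹ b φ k = pairing U (lastVec 4 F) φ (2 - k) := by
    intro k
    rw [pairing, pairing, hb, Matrix.mulVec_mulVec, ← Units.val_mul, _root_.inv_zpow', ← _root_.zpow_add,
      show -k + 2 = 2 - k by ring]
  have hnat : ∀ k : ℕ, pairing U (lastVec 4 F) φ k = (k.choose 3 : F) := fun k => by
    rw [hφ, hUd, pairing_top_nat 1 0 0 (by norm_num)]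
    simp
  have hm1 : pairing U (lastVec 4 F) φ (-1) = -1 := by
    rw [hφ, hUd, pairing_top_neg_one 1 0 0 (by norm_num)]
    norm_num
  have hbv : ∀ i : Fin 4, b i = (Nat.choose 2 (4 - 1 - i.val) : F) := fun i => by
    rw [hb, hUd, show (2 : ℤ) = ((2 : ℕ) : ℤ) from rfl, zpow_natCast, jordan_pow_lastVec]
  have hφb : ((-1 : F) • φ) ⬝ᵥ b = 0 := by
    rw [smul_dotProduct, hφ, dot_topVec (by norm_num), hbv]
    simp
  refine top_of_sl_le_map (fill (U := U⁻¹) (b := b) (φ := φ) (Subgroup.inv_mem _ hUM) 2 (by norm_num)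
    le_rfl (by norm_num) (fun i hi => ?_) ?_ ?_ (c := -1) (by norm_num) ?_ ⟨hφb, ?_⟩ ?_ ?_)
  · rw [hpair, show (2 : ℤ) - i = ((2 - i : ℕ) : ℤ) by omega, hnat,
      Nat.choose_eq_zero_of_lt (by omega), Nat.cast_zero]
  · rw [hpair, show (2 : ℤ) - -1 = ((3 : ℕ) : ℤ) from rfl, hnat]
    simp
  · rw [hpair, show (2 : ℤ) - (((2 : ℕ) : ℤ) + 1) = -1 from rfl, hm1]
    norm_num
  · exact natCast_closure_eq_top hp _
  · rwa [show CfsgLib.Perm.Asch.tv b ((-1 : F) • φ) hφb =
      ι (⁅⁅fourW, fourUU * fourW * fourUU⁻¹⁆, fourW⁆) from Units.ext (by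
        show 1 + vecMulVec b ((-1 : F) • φ) =
          ((⁅⁅fourW, fourUU * fourW * fourUU⁻¹⁆, fourW⁆ : (Matrix (Fin 4) (Fin 4) ℤ)ˣ) :
            Matrix (Fin 4) (Fin 4) ℤ).map (Int.castRingHom F)
        rw [four_word]
        ext i j
        rw [Matrix.add_apply, vecMulVec_apply, hbv]
        fin_cases i <;> fin_cases j <;> simp [hφ, topVec, fourR, Nat.choose])]
  · have hset : (Set.range fun i : Fin 4 => ((U⁻¹) ^ (i : ℕ) : GL (Fin 4) F).1 *ᵥ b) =
        (Matrix.mulVecLin (U⁻¹ : GL (Fin 4) F).1) '' (Set.range fun i : Fin 4 =>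
          (U ^ (i : ℕ) : GL (Fin 4) F).1 *ᵥ lastVec 4 F) := by
      rw [← Set.range_comp, ← (Fin.revPerm : Equiv.Perm (Fin 4)).surjective.range_comp]
      refine congrArg Set.range (funext fun i => ?_)
      simp only [Function.comp_apply, Matrix.mulVecLin_apply, hb, Matrix.mulVec_mulVec,
        ← Units.val_mul, Fin.revPerm_apply]
      congr 2
      rw [inv_pow, ← zpow_natCast, ← zpow_natCast, ← _root_.zpow_neg, ← _root_.zpow_neg_one,
        ← _root_.zpow_add, ← _root_.zpow_add]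
      congr 1
      rw [Fin.val_rev]
      omega
    rw [hset, ← Submodule.map_span, hUd, span_lastVec, Submodule.map_top, LinearMap.range_eq_top]
    exact fun x => ⟨U.1 *ᵥ x, by rw [Matrix.mulVecLin_apply, gl_inv_mulVec]⟩
  · have hset : (Set.range fun i : Fin 4 => φ ᵥ* ((U⁻¹) ^ (i : ℕ) : GL (Fin 4) F).1) =
        (Matrix.vecMulLinear (U ^ (-3 : ℤ) : GL (Fin 4) F).1) '' (Set.range fun i : Fin 4 =>
          φ ᵥ* (U ^ (i : ℕ) : GL (Fin 4) F).1) := by
      rw [← Set.range_comp, ← (Fin.revPerm : Equiv.Perm (Fin 4)).surjective.range_comp]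
      refine congrArg Set.range (funext fun i => ?_)
      simp only [Function.comp_apply, Matrix.vecMulLinear_apply, Matrix.vecMul_vecMul,
        ← Units.val_mul, Fin.revPerm_apply]
      congr 2
      rw [inv_pow, ← zpow_natCast, ← zpow_natCast, ← _root_.zpow_neg, ← _root_.zpow_add]
      congr 1
      rw [Fin.val_rev]
      omega
    rw [hset, ← Submodule.map_span, hUd, hφ, span_topVec 1 0 0 (by norm_num) one_ne_zero,
      Submodule.map_top, LinearMap.range_eq_top]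
    refine fun x => ⟨x ᵥ* (U ^ (3 : ℤ) : GL (Fin 4) F).1, ?_⟩
    rw [Matrix.vecMulLinear_apply, Matrix.vecMul_vecMul, ← Units.val_mul, ← hUd, ← _root_.zpow_add]
    norm_num

end CfsgLib.RegUnip
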