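import Cfsg.Agent.Lib.RegUnip.Double
import Cfsg.Agent.Lib.RegUnip.Four
import Cfsg.Agent.Lib.SLGen.RingPair

/-!
The choice of parameters for every finite field.
-/

set_option autoImplicit false

namespace CfsgLib.RegUnip

open Matrix CfsgLib.Perm.Trans

variable {F : Type*} [Field F] [Fintype F]

theorem exists_closure_eq_top : ∃ ω : F, ω ≠ 0 ∧ Subring.closure ({ω} : Set F) = ⊤ ∧
    orderOf ω = Fintype.card F - 1 := by
  classical
  obtain ⟨g, hg⟩ := IsCyclic.exists_ofOrder_eq_natCard (α := Fˣ)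
  refine ⟨(g : F), g.ne_zero, eq_top_iff.2 fun x _ => ?_, ?_⟩
  · by_cases hx : x = 0
    · rw [hx]; exact Subring.zero_mem _
    have hmem : Units.mk0 x hx ∈ Subgroup.zpowers g := by
      rw [(Subgroup.eq_top_of_card_eq _ (by rw [Nat.card_zpowers, hg]) : Subgroup.zpowers g = ⊤)]
      trivial
    obtain ⟨k, hk⟩ := mem_powers_iff_mem_zpowers.2 hmem
    have he : (g : F) ^ k = x := by
      rw [← Units.val_pow_eq_pow_val]
      exact congrArg Units.val hk
    rw [← he]
    exact Subring.pow_mem _ (Subring.subset_closure (Set.mem_singleton _)) k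
  · rw [orderOf_units, hg, Nat.card_units, Nat.card_eq_fintype_card (α := F)]

/-- multiplying a generator by a nonzero integer -/
theorem closure_mul_intCast {x : F} (hx : Subring.closure ({x} : Set F) = ⊤) {k : ℤ}
    (hk : (k : F) ≠ 0) : Subring.closure ({x * (k : F)} : Set F) = ⊤ := by
  refine eq_top_iff.2 ?_
  rw [← hx, Subring.closure_le]
  intro y hy
  rw [Set.mem_singleton_iff.1 hy]
  have h1 : (k : F) ^ (Fintype.card F - 1) = 1 := FiniteField.pow_card_sub_one_eq_one _ hk
  have h2 : 1 < Fintype.card F := Fintype.one_lt_card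
  have he : x * (k : F) * (k : F) ^ (Fintype.card F - 2) = x := by
    rw [mul_assoc, ← pow_succ', show Fintype.card F - 2 + 1 = Fintype.card F - 1 by omega, h1, mul_one]
  show x ∈ Subring.closure _
  have h3 := Subring.mul_mem _ (Subring.subset_closure (Set.mem_singleton (x * (k : F))))
    (Subring.pow_mem _ (intCast_mem (Subring.closure ({x * (k : F)} : Set F)) k) (Fintype.card F - 2))
  rwa [he] at h3

/-- an element of the prime field generates nothing more -/
theorem ne_intCast_of_closure {x : F} (hp : ¬ (Fintype.card F).Prime)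
    (hx : Subring.closure ({x} : Set F) = ⊤) (k : ℤ) : x ≠ (k : F) := by
  classical
  intro hxk
  obtain ⟨p, hpc⟩ := CharP.exists F
  haveI : Fact p.Prime := ⟨CharP.char_is_prime F p⟩
  haveI : NeZero p := ⟨(Fact.out : p.Prime).pos.ne'⟩
  have hle : (⊤ : Subring F) ≤ (ZMod.castHom (dvd_refl p) F).range := by
    rw [← hx, Subring.closure_le]
    rintro _ rfl
    exact ⟨(k : ZMod p), by rw [map_intCast, hxk]⟩
  have hsur : Function.Surjective (ZMod.castHom (dvd_refl p) F) := fun y => hle (Subring.mem_top y)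
  have h1 := Fintype.card_le_of_surjective _ hsur
  rw [ZMod.card] at h1
  obtain ⟨f, hpp, hf⟩ := FiniteField.card F p
  refine hp ?_
  have h2 : p ≤ p ^ (f : ℕ) := Nat.le_self_pow f.ne_zero p
  rw [show Fintype.card F = p by omega]
  exact hpp

section Counting

variable (p f : ℕ) [Fact p.Prime] (hF : Fintype.card F = p ^ f)

include hF in
theorem fixed_of_closure_ne {x : F} (hx : x ≠ 0) (h : Subring.closure ({x} : Set F) ≠ ⊤) :
    ∃ i, 1 ≤ i ∧ i ≤ f / 2 ∧ x ^ (p ^ i - 1) = 1 := by
  obtain ⟨i, hi0, hif, hi⟩ : ∃ i, 0 < i ∧ i < f ∧ x ^ (p ^ i - 1) = 1 := by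
    by_contra hc
    push Not at hc
    exact h (CfsgLib.SLGen.closure_eq_top hF hx hc)
  have hp1 : 1 ≤ p ^ i := Nat.one_le_pow _ _ (Fact.out : p.Prime).pos
  have hper : ∀ j, Function.IsPeriodicPt (fun y : F => y ^ p) j x ↔ x ^ (p ^ j) = x := fun j => by
    rw [Function.IsPeriodicPt, Function.IsFixedPt, pow_iterate]
  have h1 : x ^ (p ^ i) = x := by
    rw [show p ^ i = p ^ i - 1 + 1 by omega, pow_succ, hi, one_mul]
  have h2 : x ^ (p ^ f) = x := by rw [← hF]; exact FiniteField.pow_card x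
  have h3 := (hper _).1 (((hper i).2 h1).gcd ((hper f).2 h2))
  have hd : Nat.gcd i f ∣ f := Nat.gcd_dvd_right i f
  have hlt : Nat.gcd i f < f := lt_of_le_of_lt (Nat.le_of_dvd hi0 (Nat.gcd_dvd_left i f)) hif
  have hpos : 0 < Nat.gcd i f := Nat.gcd_pos_of_pos_left f hi0
  refine ⟨Nat.gcd i f, hpos, ?_, ?_⟩
  · obtain ⟨e, he⟩ := hd
    rw [Nat.le_div_iff_mul_le two_pos]
    have he2 : 2 ≤ e := by
      rcases e with _ | _ | e
      · rw [mul_zero] at he; omega
      · simp only [Nat.zero_add, Nat.mul_one] at he; omega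
      · omega
    calc Nat.gcd i f * 2 ≤ Nat.gcd i f * e := Nat.mul_le_mul_left _ he2
      _ = f := he.symm
  · have hp2 : 1 ≤ p ^ Nat.gcd i f := Nat.one_le_pow _ _ (Fact.out : p.Prime).pos
    rw [show p ^ Nat.gcd i f = p ^ Nat.gcd i f - 1 + 1 by omega, pow_succ] at h3
    exact mul_right_cancel₀ hx (h3.trans (one_mul x).symm)

include hF in
theorem exists_poly_generator (hp : 3 ≤ p) (hf : 2 ≤ f) (m : ℕ) (hm : m = 3 ∨ m = 4) (a : ℕ)
    (h34 : m = 3 → p = 3 → (a : F) ≠ 0) :
    ∃ c : F, Subring.closure ({c ^ m * (c + (a : F))} : Set F) = ⊤ := by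
  classical
  by_contra hcon
  push Not at hcon
  haveI : CharP F p := charP_of_card_eq_prime_pow hF
  by_cases h9 : p = 3 ∧ f = 2
  · obtain ⟨rfl, rfl⟩ := h9
    obtain ⟨c, hc0, hcgen, hord⟩ := exists_closure_eq_top (F := F)
    rw [hF] at hord
    norm_num at hord
    have hne : c ^ 2 ≠ 1 := fun h => by
      have := orderOf_dvd_of_pow_eq_one h
      rw [hord] at this
      norm_num at this
    have hc8 : c ^ 8 = 1 := by rw [← hord]; exact pow_orderOf_eq_one c
    have hc9 : c ^ 9 = c := by rw [pow_succ, hc8, one_mul]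
    have hfix : ∀ k : ℕ, ((k : F)) ^ 3 = (k : F) := fun k => by
      rw [← frobenius_def, map_natCast]
    have h3 : (c ^ m * (c + (a : F))) ^ 3 = c ^ m * (c + (a : F)) := by
      rcases eq_or_ne (c ^ m * (c + (a : F))) 0 with h | h
      · rw [h]; ring
      obtain ⟨i, hi1, hi2, hi⟩ := fixed_of_closure_ne 3 2 hF h (hcon c)
      obtain rfl : i = 1 := by omega
      rw [show (3 : ℕ) ^ 1 - 1 = 2 by norm_num] at hi
      rw [pow_succ, hi, one_mul]
    have hnc : c ^ 3 ≠ c := fun h => hne (mul_right_cancel₀ hc0 (by rw [one_mul, ← pow_succ]; exact h))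
    have h4 : c ^ 4 = 1 ∨ c ^ 4 = -1 := by
      refine sq_eq_one_iff.1 ?_
      rw [← pow_mul]; exact hc8
    rw [mul_pow, add_pow_char, hfix] at h3
    rcases hm with rfl | rfl
    · have h5 : c ^ 4 ^ 1 = c ^ 4 := rfl
      have h12 : (c ^ 4) ^ 3 = c ^ 4 := by rcases h4 with h | h <;> rw [h] <;> norm_num
      refine hnc (mul_left_cancel₀ (h34 rfl rfl) ?_)
      linear_combination h12 - h3 + (a : F) * hc9
    · rcases h4 with h | h
      · rw [h] at h3; exact hnc (by linear_combination h3)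
      · rw [h] at h3; exact hnc (by linear_combination -h3)
  -- counting
  let Bad : ℕ → Finset F := fun i =>
    Finset.univ.filter fun c : F => (c ^ m * (c + (a : F))) ^ (p ^ i - 1) = 1
  have hcover : (Finset.univ : Finset F) ⊆ {0, -(a : F)} ∪ (Finset.Icc 1 (f / 2)).biUnion Bad := by
    intro c _
    rcases eq_or_ne (c ^ m * (c + (a : F))) 0 with h | h
    · refine Finset.mem_union_left _ ?_
      rcases mul_eq_zero.1 h with h' | h'
      · simp [eq_zero_of_pow_eq_zero h']
      · simp [eq_neg_of_add_eq_zero_left h']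
    · obtain ⟨i, hi1, hi2, hi⟩ := fixed_of_closure_ne p f hF h (hcon c)
      exact Finset.mem_union_right _ (Finset.mem_biUnion.2 ⟨i, Finset.mem_Icc.2 ⟨hi1, hi2⟩,
        Finset.mem_filter.2 ⟨Finset.mem_univ _, hi⟩⟩)
  have hBad : ∀ i, 1 ≤ i → (Bad i).card ≤ 5 * (p ^ i - 1) := by
    intro i hi
    set N := p ^ i - 1 with hN
    set P : Polynomial F := (Polynomial.X ^ m * (Polynomial.X + Polynomial.C (a : F))) ^ N - 1 with hP
    have hN0 : 0 < N := by
      have : 3 ≤ p ^ i := hp.trans (Nat.le_self_pow (by omega) p)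
      omega
    have hmon : (Polynomial.X ^ m * (Polynomial.X + Polynomial.C (a : F))).Monic :=
      (Polynomial.monic_X_pow m).mul (Polynomial.monic_X_add_C _)
    have hdeg : ((Polynomial.X ^ m * (Polynomial.X + Polynomial.C (a : F))) ^ N).natDegree =
        (m + 1) * N := by
      rw [hmon.natDegree_pow, (Polynomial.monic_X_pow m).natDegree_mul (Polynomial.monic_X_add_C _),
        Polynomial.natDegree_X_pow, Polynomial.natDegree_X_add_C, mul_comm]
    have hne : P ≠ 0 := fun h => by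
      have h2 : (Polynomial.X ^ m * (Polynomial.X + Polynomial.C (a : F))) ^ N = 1 := sub_eq_zero.1 h
      rw [h2, Polynomial.natDegree_one] at hdeg
      rcases Nat.mul_eq_zero.1 hdeg.symm with h3 | h3 <;> omega
    calc (Bad i).card ≤ P.natDegree := Polynomial.card_le_degree_of_subset_roots fun c hc => by
            rw [Polynomial.mem_roots hne, Polynomial.IsRoot, hP]
            simp only [Bad, Finset.mem_val, Finset.mem_filter] at hc
            simp [hc.2, hN]
      _ ≤ (m + 1) * N := by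
            rw [hP]
            refine (Polynomial.natDegree_sub_le _ _).trans ?_
            rw [hdeg, Polynomial.natDegree_one]
            exact max_le le_rfl (Nat.zero_le _)
      _ ≤ 5 * N := Nat.mul_le_mul_right _ (by omega)
  have hsum : ∀ k, 1 ≤ k → 2 * ∑ i ∈ Finset.Icc 1 k, (p ^ i - 1) + 3 ≤ 3 * p ^ k := by
    intro k hk
    induction k, hk using Nat.le_induction with
    | base => rw [Finset.Icc_self, Finset.sum_singleton, pow_one]; omega
    | succ k hk ih =>
      rw [Finset.sum_Icc_succ_top (by omega), pow_succ]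
      have h3 : 3 * p ^ k ≤ p ^ k * p := by rw [mul_comm 3]; exact Nat.mul_le_mul_left _ hp
      have : 1 ≤ p ^ k := Nat.one_le_pow _ _ (by omega)
      omega
  have hcard := Finset.card_le_card hcover
  rw [Finset.card_univ, hF] at hcard
  have hU : ({0, -(a : F)} ∪ (Finset.Icc 1 (f / 2)).biUnion Bad).card ≤
      2 + 5 * ∑ i ∈ Finset.Icc 1 (f / 2), (p ^ i - 1) := by
    refine (Finset.card_union_le _ _).trans (Nat.add_le_add Finset.card_le_two ?_)
    rw [Finset.mul_sum]
    refine Finset.card_biUnion_le.trans (Finset.sum_le_sum fun i hi => hBad i (Finset.mem_Icc.1 hi).1)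
  have hk := hsum (f / 2) (by omega)
  set x := p ^ (f / 2) with hx
  have hxx : x * x ≤ p ^ f := by
    rw [hx, ← pow_add]; exact Nat.pow_le_pow_right (by omega) (by omega)
  rcases Nat.lt_or_ge x 8 with hsmall | hbig
  · have hf3 : f / 2 = 1 := by
      by_contra hne
      have h4 : p ^ 2 ≤ x := Nat.pow_le_pow_right (by omega) (by omega)
      nlinarith
    have hp7 : p ≤ 7 := by rw [hx, hf3, pow_one] at hsmall; omega
    have hS : ∑ i ∈ Finset.Icc 1 (f / 2), (p ^ i - 1) = p - 1 := by
      rw [hf3, Finset.Icc_self, Finset.sum_singleton, pow_one]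
    rcases (show f = 2 ∨ f = 3 by omega) with rfl | rfl
    · have h5 : 5 ≤ p := by
        have hne3 : p ≠ 3 := fun h => h9 ⟨h, rfl⟩
        have hne4 : p ≠ 4 := fun h => by
          have := (Fact.out : p.Prime); rw [h] at this; norm_num at this
        omega
      have h6 : 5 * p ≤ p ^ 2 := by rw [pow_two]; exact Nat.mul_le_mul_right _ h5
      omega
    · have h6 : 9 * p ≤ p ^ 3 := by
        rw [pow_succ, pow_two]; exact Nat.mul_le_mul_right _ (Nat.mul_le_mul hp hp)
      omega
  · have h8 : 8 * x ≤ x * x := Nat.mul_le_mul_right _ hbig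
    omega

end Counting

variable {n : ℕ}

/-- the conjugating element may be taken in `SL` over a prime field -/
theorem exists_sl_pair (hn : 4 ≤ n) (hp : (Fintype.card F).Prime) :
    ∃ s : Matrix.SpecialLinearGroup (Fin n) F,
      Subgroup.closure {jordanSL n F, s * jordanSL n F * s⁻¹} = ⊤ := by
  classical
  haveI := Fact.mk hp
  haveI : CharP F (Fintype.card F) := charP_of_card_eq_prime rfl
  rcases eq_or_ne (Fintype.card F) 2 with h2 | h2
  · haveI : CharP F 2 := h2 ▸ ‹CharP F (Fintype.card F)›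
    exact pair_top_char_two (n := n) (by omega) 1 0 one_ne_zero (sub_zero 1) (n - 2) (by omega)
      (by omega) (by omega) (fun i hi => by rw [Nat.choose_eq_zero_of_lt (by omega)]; simp) 1
      (by rw [show n - 2 + 1 = n - 1 by omega]; simp) one_ne_zero (natCast_closure_eq_top hp _)
  have hF2 : (2 : F) ≠ 0 := fun h => h2 ((Nat.prime_dvd_prime_iff_eq hp Nat.prime_two).1
    ((CharP.cast_eq_zero_iff F (Fintype.card F) 2).1 (by exact_mod_cast h)))
  have hσ : ((-1 : F) ^ (n - 1)) * (-1) ^ (n - 1) = 1 := by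
    rw [← mul_pow, neg_one_mul, neg_neg, one_pow]
  have hσ0 : ((-1 : F) ^ (n - 1)) ≠ 0 := pow_ne_zero _ (neg_ne_zero.2 one_ne_zero)
  rcases eq_or_ne n 4 with rfl | h4
  · exact four_partner hp
  by_cases hn0 : (n : F) = 0
  · refine exists_sl_partner (by omega) (-((-1) ^ (n - 1))) ((-1) ^ (n - 1)) (neg_ne_zero.2 hσ0)
      (n - 3) (by omega) (by omega) (by omega) (fun i hi => ?_) ((-1) ^ (n - 1)) ?_ hσ0 ?_ hF2
      one_ne_zero ?_ (natCast_closure_eq_top hp _)
    · rw [Nat.choose_eq_zero_of_lt (by omega), Nat.choose_eq_zero_of_lt (by omega)]; simp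
    · rw [show n - 3 + 1 = n - 2 by omega, Nat.choose_eq_zero_of_lt (by omega)]; simp
    · linear_combination (-2 : F) * hσ
    · rw [hn0]; linear_combination hσ
  · refine exists_sl_partner (by omega) (-2 * (-1) ^ (n - 1)) 0
      (mul_ne_zero (neg_ne_zero.2 hF2) hσ0) (n - 2) (by omega) (by omega) (by omega) (fun i hi => ?_)
      (-2 * (-1) ^ (n - 1)) ?_ (mul_ne_zero (neg_ne_zero.2 hF2) hσ0) ?_ hF2
      (mul_ne_zero (neg_ne_zero.2 hF2) hn0) ?_ (natCast_closure_eq_top hp _)
    · rw [Nat.choose_eq_zero_of_lt (by omega)]; simp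
    · rw [show n - 2 + 1 = n - 1 by omega]; simp
    · linear_combination (-2 : F) * hσ
    · linear_combination (-2 * (n : F)) * hσ

/-- a pair over any finite field -/
theorem exists_gl_pair (hn : 4 ≤ n) : ∃ g : GL (Fin n) F, pairGroup g = ⊤ := by
  classical
  have ofSL : (∃ s : Matrix.SpecialLinearGroup (Fin n) F,
      Subgroup.closure {jordanSL n F, s * jordanSL n F * s⁻¹} = ⊤) → ∃ g : GL (Fin n) F, pairGroup g = ⊤ :=
    fun ⟨s, hs⟩ => ⟨Matrix.SpecialLinearGroup.toGL s, by rw [pairGroup, conjJordan_of_sl, hs]⟩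
  by_cases hprime : (Fintype.card F).Prime
  · exact ofSL (exists_sl_pair hn hprime)
  obtain ⟨p, hpc⟩ := CharP.exists F
  haveI : Fact p.Prime := ⟨CharP.char_is_prime F p⟩
  obtain ⟨f, hpp, hF⟩ := FiniteField.card F p
  obtain ⟨ω, hω0, hωgen, -⟩ := exists_closure_eq_top (F := F)
  have hnot := ne_intCast_of_closure hprime hωgen
  rcases eq_or_ne p 2 with rfl | hp2
  · refine ofSL (pair_top_char_two (n := n) (by omega) (1 + ω) ω ?_ (add_sub_cancel_right _ _) (n - 3)
      (by omega) (by omega) (by omega) (fun i hi => ?_) ω ?_ hω0 hωgen)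
    · intro h
      exact hnot (-1) (by push_cast; linear_combination h)
    · rw [Nat.choose_eq_zero_of_lt (by omega), Nat.choose_eq_zero_of_lt (by omega)]; simp
    · rw [show n - 3 + 1 = n - 2 by omega, Nat.choose_eq_zero_of_lt (by omega)]; simp
  have hp3 : 3 ≤ p := by have := hpp.two_le; omega
  have hf2 : 2 ≤ (f : ℕ) := by
    by_contra h
    have h0 : 0 < (f : ℕ) := f.pos
    exact hprime (by rw [hF, show (f : ℕ) = 1 by omega, pow_one]; exact hpp)
  have hF2 : (2 : F) ≠ 0 := fun h => hp2 ((Nat.prime_dvd_prime_iff_eq hpp Nat.prime_two).1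
    ((CharP.cast_eq_zero_iff F p 2).1 (by exact_mod_cast h)))
  have hσ : ((-1 : F) ^ (n - 1)) * (-1) ^ (n - 1) = 1 := by
    rw [← mul_pow, neg_one_mul, neg_neg, one_pow]
  have hσ0 : ((-1 : F) ^ (n - 1)) ≠ 0 := pow_ne_zero _ (neg_ne_zero.2 one_ne_zero)
  have main : ∀ (α β z w c : F) (L : ℕ), α ≠ 0 → 1 ≤ L → L + 2 ≤ n → n ≤ 2 * L + 2 →
      (∀ i : ℕ, i ≤ L →
        α * (i.choose (n - 1) : F) + β * (i.choose (n - 2) : F) + z * (i.choose (n - 3) : F) = 0) →
      α * ((L + 1).choose (n - 1) : F) + β * ((L + 1).choose (n - 2) : F) +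
        z * ((L + 1).choose (n - 3) : F) = w → w ≠ 0 →
      (-1) ^ (n - 1) * (α - β + z) = -2 → c ≠ 0 →
      (-1) ^ (n - 1) * (α * (n : F) - β * ((n : F) - 1) + z * ((n : F) - 2)) = c →
      Subring.closure ({c * w * (c * -2) ^ (L + 1)} : Set F) = ⊤ →
      ∃ g : GL (Fin n) F, pairGroup g = ⊤ := by
    intro α β z w c L hα hL1 hLn hnL hzero hw hw0 hd hc hcv hgen
    have h0 : topVec n α β z ⬝ᵥ lastVec n F = 0 := by
      rw [← pairing_zero_dot (jordanGL n F), show (0 : ℤ) = ((0 : ℕ) : ℤ) from rfl,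
        pairing_top_nat α β z (by omega)]
      exact hzero 0 (Nat.zero_le _)
    obtain ⟨a, ha, h1, -, -, hsq⟩ := exists_reflection (by omega : 3 ≤ n) α β z h0 hd hcv
    exact ⟨_, pair_top_of_sq α β z hα (by omega) L hL1 hLn hnL hzero w hw hw0 hd hF2 hc hgen
      (refl a _ ha) (refl_inv ha) h1 hsq⟩
  by_cases hn6 : 6 ≤ n
  · refine main (ω + (-1) ^ (n - 1) * (2 * (n : F) - 1)) (2 * ω + (-1) ^ (n - 1) * (2 * (n : F) + 1))
      ω ω 1 (n - 4) ?_ (by omega) (by omega) (by omega) (fun i hi => ?_) ?_ hω0 ?_ one_ne_zero ?_ ?_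
    · intro h
      refine hnot (-((-1) ^ (n - 1) * (2 * (n : ℤ) - 1))) ?_
      push_cast
      linear_combination h
    · rw [Nat.choose_eq_zero_of_lt (by omega), Nat.choose_eq_zero_of_lt (by omega),
        Nat.choose_eq_zero_of_lt (by omega)]
      simp
    · rw [show n - 4 + 1 = n - 3 by omega, Nat.choose_eq_zero_of_lt (by omega),
        Nat.choose_eq_zero_of_lt (by omega)]
      simp
    · linear_combination (-2 : F) * hσ
    · linear_combination hσ
    · rw [show (1 : F) * ω * (1 * -2) ^ (n - 4 + 1) = ω * (((-2 : ℤ) ^ (n - 4 + 1) : ℤ) : F) by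
        push_cast; ring]
      exact closure_mul_intCast hωgen (by push_cast; exact pow_ne_zero _ (neg_ne_zero.2 hF2))
  · obtain ⟨c, hc⟩ := exists_poly_generator p (f : ℕ) hF hp3 hf2 (n - 1) (by omega) (2 * n) (by
      intro hm3 h3
      subst h3
      rw [show n = 4 by omega]
      exact fun h => absurd ((CharP.cast_eq_zero_iff F 3 _).1 h) (by norm_num))
    have hcne : ∀ k : ℤ, c ≠ (k : F) := by
      intro k hk
      refine ne_intCast_of_closure hprime hc (k ^ (n - 1) * (k + (2 * n : ℕ))) ?_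
      rw [hk]; push_cast; ring
    have hβ : (-1 : F) ^ (n - 1) * (c + 2 * (n : F)) ≠ 0 := mul_ne_zero hσ0 fun h =>
      hcne (-(2 * n)) (by push_cast; linear_combination h)
    refine main ((-1) ^ (n - 1) * (c + 2 * (n : F) - 2)) ((-1) ^ (n - 1) * (c + 2 * (n : F))) 0
      ((-1) ^ (n - 1) * (c + 2 * (n : F))) c (n - 3) (mul_ne_zero hσ0 fun h =>
        hcne (2 - 2 * n) (by push_cast; linear_combination h)) (by omega) (by omega) (by omega)
      (fun i hi => ?_) ?_ hβ ?_ (fun h => hcne 0 (by simpa using h)) ?_ ?_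
    · rw [Nat.choose_eq_zero_of_lt (by omega), Nat.choose_eq_zero_of_lt (by omega)]; simp
    · rw [show n - 3 + 1 = n - 2 by omega, Nat.choose_eq_zero_of_lt (by omega)]; simp
    · linear_combination (-2 : F) * hσ
    · linear_combination c * hσ
    · rw [show c * ((-1 : F) ^ (n - 1) * (c + 2 * (n : F))) * (c * -2) ^ (n - 3 + 1) =
          c ^ (n - 1) * (c + ((2 * n : ℕ) : F)) *
            (((-1) ^ (n - 1) * (-2) ^ (n - 3 + 1) : ℤ) : F) by
        rw [show c ^ (n - 1) = c * c ^ (n - 3 + 1) by rw [← pow_succ']; congr 1; omega]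
        push_cast; ring]
      exact closure_mul_intCast hc (by
        push_cast; exact mul_ne_zero hσ0 (pow_ne_zero _ (neg_ne_zero.2 hF2)))

end CfsgLib.RegUnip
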