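import Cfsg.Agent.Lib.RegUnip.SLTwo
import Cfsg.Agent.Lib.Perm.Trans.Basic
import Cfsg.Agent.Lib.Classical.SLNormalized

/-!
Copies of `SL_2` acting on a plane and trivially on a complement, inside a matrix group.
-/

set_option autoImplicit false

namespace CfsgLib.RegUnip

open Matrix CfsgLib.Perm.Dickson
open scoped commutatorElement

variable {ι : Type} [Fintype ι] [DecidableEq ι] {F : Type*} [Field F] {K : Type*} [Field K]

/-- the columns `e`, `h` -/
def planeE (e h : ι → F) : Matrix ι (Fin 2) F := Matrix.of fun i j => ![e, h] j i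

/-- the rows `φ`, `ψ` -/
def planeR (φ ψ : ι → F) : Matrix (Fin 2) ι F := Matrix.of fun j i => ![φ, ψ] j i

/-- the lower transvection of `SL_2` -/
def loA (z : K) : SL2F K := ⟨!![1, 0; z, 1], by simp [det_fin_two]⟩

variable {e h φ ψ : ι → F}

theorem planeR_mul_E (h00 : φ ⬝ᵥ e = 1) (h01 : φ ⬝ᵥ h = 0) (h10 : ψ ⬝ᵥ e = 0) (h11 : ψ ⬝ᵥ h = 1) :
    planeR φ ψ * planeE e h = 1 := by
  ext a b
  rw [Matrix.mul_apply]
  fin_cases a <;> fin_cases b <;> simp [planeR, planeE] <;> first
    | exact h00 | exact h01 | exact h10 | exact h11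

variable (i : K →+* F) (e h φ ψ)

/-- the action of a two by two matrix on the plane -/
def planeMat (A : Matrix (Fin 2) (Fin 2) K) : Matrix ι ι F :=
  1 + planeE e h * (A.map i - 1) * planeR φ ψ

variable {e h φ ψ}

theorem planeMat_mul (hRE : planeR φ ψ * planeE e h = 1) (A B : Matrix (Fin 2) (Fin 2) K) :
    planeMat e h φ ψ i (A * B) = planeMat e h φ ψ i A * planeMat e h φ ψ i B := by
  simp only [planeMat, Matrix.map_mul]
  set X := A.map i
  set Y := B.map i
  set E := planeE e h
  set R := planeR φ ψ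
  have hc : E * (X - 1) * R * (E * (Y - 1) * R) = E * ((X - 1) * (Y - 1)) * R := by
    calc E * (X - 1) * R * (E * (Y - 1) * R) = E * (X - 1) * (R * E) * ((Y - 1) * R) := by
          simp only [Matrix.mul_assoc]
      _ = _ := by rw [hRE, Matrix.mul_one]; simp only [Matrix.mul_assoc]
  rw [show X * Y - 1 = (X - 1) + (Y - 1) + (X - 1) * (Y - 1) by noncomm_ring, Matrix.mul_add,
    Matrix.mul_add, Matrix.add_mul, Matrix.add_mul, mul_add, mul_one, add_mul, one_mul, hc]
  abel

/-- the action of `SL_2` on the plane -/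
noncomputable def planeHom (hRE : planeR φ ψ * planeE e h = 1) : SL2F K →* GL ι F :=
  MonoidHom.toHomUnits
    { toFun := fun A => planeMat e h φ ψ i A.1
      map_one' := by
        rw [Matrix.SpecialLinearGroup.coe_one, planeMat, Matrix.map_one i (map_zero i) (map_one i),
          sub_self, Matrix.mul_zero, Matrix.zero_mul, add_zero]
      map_mul' := fun A B => by rw [Matrix.SpecialLinearGroup.coe_mul, planeMat_mul i hRE] }

theorem planeHom_mulVec (hRE : planeR φ ψ * planeE e h = 1) (A : SL2F K) (x : ι → F) :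
    (planeHom i hRE A : Matrix ι ι F) *ᵥ x =
      x + ((i (A.1 0 0) - 1) * (φ ⬝ᵥ x) + i (A.1 0 1) * (ψ ⬝ᵥ x)) • e +
        (i (A.1 1 0) * (φ ⬝ᵥ x) + (i (A.1 1 1) - 1) * (ψ ⬝ᵥ x)) • h := by
  show planeMat e h φ ψ i A.1 *ᵥ x = _
  rw [planeMat, Matrix.add_mulVec, Matrix.one_mulVec, ← Matrix.mulVec_mulVec, ← Matrix.mulVec_mulVec]
  have hR0 : (planeR φ ψ *ᵥ x) 0 = φ ⬝ᵥ x := by simp [planeR, Matrix.mulVec]
  have hR1 : (planeR φ ψ *ᵥ x) 1 = ψ ⬝ᵥ x := by simp [planeR, Matrix.mulVec]
  funext a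
  simp only [Pi.add_apply, Pi.smul_apply, smul_eq_mul, Matrix.mulVec, dotProduct, Fin.sum_univ_two]
  simp only [planeE, planeR, Matrix.of_apply, Matrix.sub_apply, Matrix.map_apply, Matrix.one_apply,
    Fin.isValue, Matrix.cons_val_zero, Matrix.cons_val_one, if_true, ne_eq, zero_ne_one,
    not_false_eq_true, if_false, one_ne_zero, sub_zero]
  ring

theorem planeHom_trA (hRE : planeR φ ψ * planeE e h = 1) (z : K) (x : ι → F) :
    (planeHom i hRE (trA z) : Matrix ι ι F) *ᵥ x = x + (i z * (ψ ⬝ᵥ x)) • e := by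
  rw [planeHom_mulVec]
  simp [trA]

theorem planeHom_loA (hRE : planeR φ ψ * planeE e h = 1) (z : K) (x : ι → F) :
    (planeHom i hRE (loA z) : Matrix ι ι F) *ᵥ x = x + (i z * (φ ⬝ᵥ x)) • h := by
  rw [planeHom_mulVec]
  simp [loA]

theorem sl2_perfect [Fintype K] (hK : 4 ≤ Fintype.card K) : commutator (SL2F K) = ⊤ :=
  (CfsgLib.Classical.sl_perfect_and_psl_simple le_rfl (by omega)).1

/-- Generators of `SL_2`, each up to a factor centralising the plane and commuting with the other
factors, give all of `SL_2`. -/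
theorem plane_le [Fintype K] (hK : 4 ≤ Fintype.card K) (hRE : planeR φ ψ * planeE e h = 1)
    {G : Subgroup (GL ι F)} {gens : Set (SL2F K)} (hgen : Subgroup.closure gens = ⊤)
    (Z : Set (GL ι F)) (hZ : ∀ z ∈ Z, ∀ w ∈ Z, Commute z w)
    (hZg : ∀ z ∈ Z, ∀ B ∈ gens, Commute z (planeHom i hRE B))
    (hG : ∀ A ∈ gens, ∃ z ∈ Z, planeHom i hRE A * z ∈ G) (B : SL2F K) : planeHom i hRE B ∈ G := by
  have hZc : ∀ z ∈ Z, ∀ C : SL2F K, Commute z (planeHom i hRE C) := fun z hz C => by
    have hC : C ∈ Subgroup.closure gens := hgen ▸ Subgroup.mem_top C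
    induction hC using Subgroup.closure_induction with
    | mem x hx => exact hZg z hz x hx
    | one => rw [map_one]; exact Commute.one_right z
    | mul x y _ _ hx hy => rw [map_mul]; exact hx.mul_right hy
    | inv x _ hx => rw [map_inv]; exact hx.inv_right
  set T := Subgroup.closure Z
  have hTc : ∀ z ∈ T, ∀ C : SL2F K, Commute z (planeHom i hRE C) := fun z hz C => by
    induction hz using Subgroup.closure_induction with
    | mem x hx => exact hZc x hx C
    | one => exact Commute.one_left _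
    | mul x y _ _ hx hy => exact hx.mul_left hy
    | inv x _ hx => exact hx.inv_left
  have hTT : ∀ z ∈ T, ∀ w ∈ T, Commute z w := fun z hz w hw => by
    induction hz, hw using Subgroup.closure_induction₂ with
    | mem x y hx hy => exact hZ x hx y hy
    | one_left x _ => exact Commute.one_left x
    | one_right x _ => exact Commute.one_right x
    | mul_left x y z _ _ _ h1 h2 => exact h1.mul_left h2
    | mul_right x y z _ _ _ h1 h2 => exact h1.mul_right h2
    | inv_left x y _ _ h1 => exact h1.inv_left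
    | inv_right x y _ _ h1 => exact h1.inv_right
  have hQ : ∀ C : SL2F K, ∃ z ∈ T, planeHom i hRE C * z ∈ G := fun C => by
    have hC : C ∈ Subgroup.closure gens := hgen ▸ Subgroup.mem_top C
    induction hC using Subgroup.closure_induction with
    | mem x hx =>
      obtain ⟨z, hz, hxz⟩ := hG x hx
      exact ⟨z, Subgroup.subset_closure hz, hxz⟩
    | one => exact ⟨1, T.one_mem, by rw [map_one, mul_one]; exact G.one_mem⟩
    | mul x y _ _ hx hy =>
      obtain ⟨z, hz, hxz⟩ := hx
      obtain ⟨w, hw, hyw⟩ := hy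
      refine ⟨z * w, T.mul_mem hz hw, ?_⟩
      have h1 := G.mul_mem hxz hyw
      have he : planeHom i hRE x * z * (planeHom i hRE y * w) =
          planeHom i hRE (x * y) * (z * w) := by
        rw [map_mul, mul_assoc, ← mul_assoc z, (hTc z hz y).eq]; group
      rwa [he] at h1
    | inv x _ hx =>
      obtain ⟨z, hz, hxz⟩ := hx
      refine ⟨z⁻¹, T.inv_mem hz, ?_⟩
      have h1 := G.inv_mem hxz
      rwa [_root_.mul_inv_rev, ← map_inv, (hTc z⁻¹ (T.inv_mem hz) x⁻¹).eq] at h1
  have hmem : (commutator (SL2F K)) ≤ G.comap (planeHom i hRE) := by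
    rw [commutator_def, Subgroup.commutator_le]
    intro x _ y _
    obtain ⟨z, hz, hxz⟩ := hQ x
    obtain ⟨w, hw, hyw⟩ := hQ y
    have h1 := G.mul_mem (G.mul_mem (G.mul_mem hxz hyw) (G.inv_mem hxz)) (G.inv_mem hyw)
    show planeHom i hRE ⁅x, y⁆ ∈ G
    have he : planeHom i hRE x * z * (planeHom i hRE y * w) * (planeHom i hRE x * z)⁻¹ *
        (planeHom i hRE y * w)⁻¹ = planeHom i hRE ⁅x, y⁆ := by
      rw [map_commutatorElement, commutatorElement_def]
      set a := planeHom i hRE x
      set b := planeHom i hRE y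
      have c1 : Commute z b := hTc z hz y
      have c2 : Commute z w := hTT z hz w hw
      have c3 : Commute w a := hTc w hw x
      calc a * z * (b * w) * (a * z)⁻¹ * (b * w)⁻¹
          = a * (z * b) * w * z⁻¹ * a⁻¹ * w⁻¹ * b⁻¹ := by group
        _ = a * b * (z * w) * z⁻¹ * a⁻¹ * w⁻¹ * b⁻¹ := by rw [c1.eq]; group
        _ = a * b * (w * a⁻¹) * w⁻¹ * b⁻¹ := by rw [c2.eq]; group
        _ = a * b * a⁻¹ * b⁻¹ := by rw [(c3.inv_right).eq]; group
    rwa [he] at h1
  exact hmem (by rw [sl2_perfect hK]; exact Subgroup.mem_top B)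

end CfsgLib.RegUnip
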