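import Cfsg.Agent.Lib.RegUnip.SpOrbit
import Cfsg.Agent.Lib.RegUnip.Plane
import Cfsg.Agent.Lib.RegUnip.Params
import Cfsg.Agent.S0801

/-!
`Sp_{2n}` is generated by three conjugate regular unipotent elements.
-/

set_option autoImplicit false

namespace CfsgLib.RegUnip

open Matrix CfsgLib.Perm.Trans CfsgLib.Perm.Trans.Symp CfsgLib.Perm.Dickson

variable {F : Type*} [Field F] [Fintype F] {n : ℕ}

local notation "Sp2n" => Matrix.symplecticGroup (Fin n) F

/-- the rescaling automorphism of `SL_2` -/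
def sl2Scale (κ : F) (hκ : κ * κ = 1) : SL2F F ≃* SL2F F where
  toFun A := ⟨!![A.1 0 0, κ * A.1 0 1; κ * A.1 1 0, A.1 1 1], by
    rw [det_fin_two_of]
    have h := A.2
    rw [det_fin_two] at h
    linear_combination h - A.1 0 1 * A.1 1 0 * hκ⟩
  invFun A := ⟨!![A.1 0 0, κ * A.1 0 1; κ * A.1 1 0, A.1 1 1], by
    rw [det_fin_two_of]
    have h := A.2
    rw [det_fin_two] at h
    linear_combination h - A.1 0 1 * A.1 1 0 * hκ⟩
  left_inv A := by
    refine Subtype.ext ?_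
    ext i j
    fin_cases i <;> fin_cases j <;> simp [← mul_assoc, hκ]
  right_inv A := by
    refine Subtype.ext ?_
    ext i j
    fin_cases i <;> fin_cases j <;> simp [← mul_assoc, hκ]
  map_mul' A B := by
    refine Subtype.ext ?_
    show (!![(A.1 * B.1) 0 0, κ * (A.1 * B.1) 0 1; κ * (A.1 * B.1) 1 0, (A.1 * B.1) 1 1] :
      Matrix (Fin 2) (Fin 2) F) = !![A.1 0 0, κ * A.1 0 1; κ * A.1 1 0, A.1 1 1] *
      !![B.1 0 0, κ * B.1 0 1; κ * B.1 1 0, B.1 1 1]
    ext i j
    fin_cases i <;> fin_cases j <;> simp [Matrix.mul_apply, Fin.sum_univ_two]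
    · linear_combination (-(A.1 0 1 * B.1 1 0)) * hκ
    · ring
    · ring
    · linear_combination (-(A.1 1 0 * B.1 0 1)) * hκ

omit [Fintype F] in
theorem sl2Scale_coe (κ : F) (hκ : κ * κ = 1) (A : SL2F F) :
    ((sl2Scale κ hκ A : SL2F F) : Matrix (Fin 2) (Fin 2) F) =
      !![A.1 0 0, κ * A.1 0 1; κ * A.1 1 0, A.1 1 1] := rfl

theorem exists_good_generator (hq : 4 ≤ Fintype.card F) :
    ∃ ω : F, ω ≠ 0 ∧ ω ≠ 1 ∧ Subfield.closure ({ω} : Set F) = ⊤ ∧
      ¬ (Fintype.card F = 9 ∧ ω ^ 2 = -1) := by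
  obtain ⟨ω, h0, hgen, hord⟩ := exists_closure_eq_top (F := F)
  refine ⟨ω, h0, ?_, eq_top_iff.2 fun x _ => ?_, ?_⟩
  · intro h; rw [h, orderOf_one] at hord; omega
  · exact (Subring.closure_le (t := (Subfield.closure ({ω} : Set F)).toSubring)).2
      Subfield.subset_closure (by rw [hgen]; exact Subring.mem_top x)
  · rintro ⟨h9, hsq⟩
    have h4 : ω ^ 4 = 1 := by linear_combination (ω ^ 2 - 1) * hsq
    have := Nat.le_of_dvd (by norm_num) (orderOf_dvd_of_pow_eq_one h4)
    omega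

theorem sl2_gens (κ ω : F) (hκ : κ * κ = 1) (h0 : ω ≠ 0) (h1 : ω ≠ 1)
    (hgen : Subfield.closure ({ω} : Set F) = ⊤) (h9 : ¬ (Fintype.card F = 9 ∧ ω ^ 2 = -1)) :
    Subgroup.closure {trA (κ * ω), trA κ, loA κ} = (⊤ : Subgroup (SL2F F)) := by
  have hthree : Subgroup.closure {trA ω, trA 1, (trB : SL2F F)} = ⊤ := by
    by_cases h2 : (2 : F) = 0
    · obtain ⟨p, hp⟩ := CharP.exists F
      obtain rfl : p = 2 := by
        have hpp := CharP.char_is_prime F p
        exact ((Nat.prime_dvd_prime_iff_eq hpp Nat.prime_two).1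
          ((CharP.cast_eq_zero_iff F p 2).1 (by exact_mod_cast h2)))
      exact closure_three_transv one_ne_zero h1 h0 hgen
    · rcases Cfsg.Agent.S0801.result h2 ω h0 hgen with ⟨h, -⟩ | ⟨ha, hb, -⟩
      · refine eq_top_iff.2 (h ▸ (Subgroup.closure_le _).2 ?_)
        rintro g (hg | hg)
        · exact Subgroup.subset_closure
            (Set.mem_insert_of_mem _ (Set.mem_insert_of_mem _ (Subtype.ext hg : g = trB)))
        · rw [show g = trA ω from Subtype.ext hg]
          exact Subgroup.subset_closure (Set.mem_insert _ _)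
      · exact absurd ⟨ha, hb⟩ h9
  have hmap := congrArg (Subgroup.map (sl2Scale κ hκ).toMonoidHom) hthree
  rw [MonoidHom.map_closure, Subgroup.map_top_of_surjective _ (sl2Scale κ hκ).surjective] at hmap
  rw [← hmap]
  congr 1
  have e1 : ∀ z, (sl2Scale κ hκ) (trA z) = trA (κ * z) := fun z => by
    refine Subtype.ext ?_
    ext i j
    rw [sl2Scale_coe]; fin_cases i <;> fin_cases j <;> simp [trA]
  have e2 : (sl2Scale κ hκ) trB = loA κ := by
    refine Subtype.ext ?_
    ext i j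
    rw [sl2Scale_coe]; fin_cases i <;> fin_cases j <;> simp [trB, loA]
  rw [Set.image_insert_eq, Set.image_insert_eq, Set.image_singleton]
  simp only [MulEquiv.toMonoidHom_eq_coe, MonoidHom.coe_coe, e1, e2, mul_one]

variable (β γ : F)

/-- the plane of two orbit vectors with pairing `±1` -/
theorem sp_plane_setup (d : ℤ) (κ : F) (hκ : κ * κ = 1) (hd : spCor (n := n) β γ d = κ) :
    ∃ hRE : planeR ((-κ) • sv (isSymplecticForm_sympForm (F := F) (m := n)) (spXk β γ d))
        (κ • sv (isSymplecticForm_sympForm (F := F) (m := n)) (spXk β γ 0)) *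
        planeE (spXk β γ 0) (spXk β γ d) = 1,
      (∀ z : F, CfsgLib.Perm.Trans.Symp.toGL (spT β γ 0 (κ * z)) = planeHom (RingHom.id F) hRE (trA z)) ∧
      (∀ z : F, CfsgLib.Perm.Trans.Symp.toGL (spT β γ d (-(κ * z))) =
        planeHom (RingHom.id F) hRE (loA z)) := by
  classical
  have hf := isSymplecticForm_sympForm (F := F) (m := n)
  have hhe : Cfsg.sympForm n F (spXk β γ d) (spXk β γ 0) = κ := by
    rw [show Cfsg.sympForm n F (spXk β γ d) (spXk β γ 0) = spCor (n := n) β γ d from rfl, hd]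
  have heh : Cfsg.sympForm n F (spXk β γ 0) (spXk β γ d) = -κ := by rw [hf.skew, hhe]
  refine ⟨planeR_mul_E ?_ ?_ ?_ ?_, fun z => ?_, fun z => ?_⟩
  · rw [smul_dotProduct, sv_dot, heh, smul_eq_mul, neg_mul_neg, hκ]
  · rw [smul_dotProduct, sv_dot, hf.alternating, smul_zero]
  · rw [smul_dotProduct, sv_dot, hf.alternating, smul_zero]
  · rw [smul_dotProduct, sv_dot, hhe, smul_eq_mul, hκ]
  · refine gl_ext_vec fun x => ?_
    rw [planeHom_trA, spT, toGL_tv, stv_mulVec, smul_dotProduct, sv_dot, RingHom.id_apply, smul_eq_mul]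
    congr 2
    ring
  · refine gl_ext_vec fun x => ?_
    rw [planeHom_loA, spT, toGL_tv, stv_mulVec, smul_dotProduct, sv_dot, RingHom.id_apply, smul_eq_mul]
    congr 2
    ring

theorem sp_full_of_gap (hq : 4 ≤ Fintype.card F) {G : Subgroup Sp2n} (hu : spU n β γ ∈ G) (ω : F)
    (h0 : ω ≠ 0) (h1 : ω ≠ 1) (hgen : Subfield.closure ({ω} : Set F) = ⊤)
    (h9 : ¬ (Fintype.card F = 9 ∧ ω ^ 2 = -1))
    (ha : spT β γ 0 ω * spU n β γ * (spT β γ 0 ω)⁻¹ ∈ G)
    (hb : spT β γ 0 1 * spU n β γ * (spT β γ 0 1)⁻¹ ∈ G)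
    (d : ℕ) (hd : 2 ≤ d) (κ : F) (hκ : κ * κ = 1) (hdκ : spCor (n := n) β γ (d : ℤ) = κ)
    (hsmall : ∀ k : ℕ, k < d → spCor (n := n) β γ (k : ℤ) = 0) : ∀ s, spT β γ 0 s ∈ G := by
  classical
  obtain ⟨hRE, hA, hB⟩ := sp_plane_setup (n := n) β γ (d : ℤ) κ hκ hdκ
  have hzero : ∀ i j : ℤ, (∃ k : ℕ, k < d ∧ (i - j = k ∨ j - i = k)) →
      spCor (n := n) β γ (i - j) = 0 := by
    rintro i j ⟨k, hk, h | h⟩
    · rw [h]; exact hsmall k hk
    · rw [← neg_sub, spCor_neg, h, hsmall k hk, neg_zero]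
  let T := fun (k : ℤ) (s : F) => CfsgLib.Perm.Trans.Symp.toGL (spT (n := n) β γ k s)
  have hcomm : ∀ i j : ℤ, (∃ k : ℕ, k < d ∧ (i - j = k ∨ j - i = k)) → ∀ a b, Commute (T i a) (T j b) :=
    fun i j h a b => (spT_commute β γ (hzero i j h) a b).map CfsgLib.Perm.Trans.Symp.toGL
  let Z : Set (GL (Fin n ⊕ Fin n) F) := {T 1 (-ω), T 1 (-1), T ((d : ℤ) - 1) 1}
  have hωκ : T 0 ω = planeHom (RingHom.id F) hRE (trA (κ * ω)) := by
    rw [← hA, ← mul_assoc, hκ, one_mul]
  have h1κ : T 0 1 = planeHom (RingHom.id F) hRE (trA κ) := by rw [← hA, hκ]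
  have hdd : T d (-1) = planeHom (RingHom.id F) hRE (loA κ) := by rw [← hB, hκ]
  have hZ : ∀ z ∈ Z, ∃ i : ℤ, (i = 1 ∨ i = (d : ℤ) - 1) ∧ ∃ a, z = T i a := by
    rintro z (rfl | rfl | rfl)
    · exact ⟨1, Or.inl rfl, _, rfl⟩
    · exact ⟨1, Or.inl rfl, _, rfl⟩
    · exact ⟨_, Or.inr rfl, _, rfl⟩
  have hcomm0 : ∀ i j : ℤ, (i = 1 ∨ i = (d : ℤ) - 1) → (j = 1 ∨ j = (d : ℤ) - 1 ∨ j = 0 ∨ j = d) →
      ∀ a b, Commute (T i a) (T j b) := by
    intro i j hi hj
    refine hcomm i j ⟨(i - j).natAbs, ?_, ?_⟩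
    · omega
    · omega
  intro s
  have hmem := plane_le (G := G.map CfsgLib.Perm.Trans.Symp.toGL) (RingHom.id F) hq hRE
    (sl2_gens κ ω hκ h0 h1 hgen h9) Z
    (fun z hz w hw => by
      obtain ⟨i, hi, a, rfl⟩ := hZ z hz
      obtain ⟨j, hj, b, rfl⟩ := hZ w hw
      exact hcomm0 i j hi (by omega) a b)
    (fun z hz B hB' => by
      obtain ⟨i, hi, a, rfl⟩ := hZ z hz
      rcases hB' with rfl | rfl | rfl
      · rw [← hωκ]; exact hcomm0 i 0 hi (by omega) _ _
      · rw [← h1κ]; exact hcomm0 i 0 hi (by omega) _ _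
      · rw [← hdd]; exact hcomm0 i d hi (by omega) _ _)
    (fun A hA' => by
      rcases hA' with rfl | rfl | rfl
      · refine ⟨T 1 (-ω), Set.mem_insert _ _, ?_⟩
        rw [← hωκ]
        exact ⟨_, spT_pair_mem β γ hu ha 0, map_mul _ _ _⟩
      · refine ⟨T 1 (-1), Set.mem_insert_of_mem _ (Set.mem_insert _ _), ?_⟩
        rw [← h1κ]
        exact ⟨_, spT_pair_mem β γ hu hb 0, map_mul _ _ _⟩
      · refine ⟨T ((d : ℤ) - 1) 1, Set.mem_insert_of_mem _ (Set.mem_insert_of_mem _ rfl), ?_⟩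
        rw [← hdd, (hcomm0 ((d : ℤ) - 1) d (Or.inr rfl) (by omega) 1 (-1)).eq.symm]
        have h2 := spT_pair_mem β γ hu hb ((d : ℤ) - 1)
        rw [sub_add_cancel] at h2
        exact ⟨_, h2, map_mul _ _ _⟩)
    (trA (κ * s))
  rw [← hA, ← mul_assoc, hκ, one_mul] at hmem
  obtain ⟨B, hB', hBe⟩ := hmem
  exact toGL_injective hBe ▸ hB'

theorem sp_full_of_adjacent [CharP F 2] (hq : 4 ≤ Fintype.card F) {G : Subgroup Sp2n}
    (hu : spU n β γ ∈ G) (ω : F) (h0 : ω ≠ 0) (h1 : ω ≠ 1)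
    (hgen : Subfield.closure ({ω} : Set F) = ⊤)
    (ha : spT β γ 0 ω * spU n β γ * (spT β γ 0 ω)⁻¹ ∈ G)
    (hb : spT β γ 0 1 * spU n β γ * (spT β γ 0 1)⁻¹ ∈ G)
    (h : spCor (n := n) β γ 1 = 1) : ∀ s, spT β γ 0 s ∈ G := by
  classical
  obtain ⟨hRE, hA, hB⟩ := sp_plane_setup (n := n) β γ 1 1 (mul_one 1) h
  have hopp : ∀ z : F, planeHom (RingHom.id F) hRE (opp z) =
      CfsgLib.Perm.Trans.Symp.toGL (spT β γ 0 z * spT β γ (0 + 1) (-z)) := fun z => by
    rw [map_mul, zero_add, show spT (n := n) β γ 0 z = spT β γ 0 (1 * z) by rw [one_mul],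
      show spT (n := n) β γ 1 (-z) = spT β γ 1 (-(1 * z)) by rw [one_mul], hA, hB, ← map_mul]
    congr 1
    refine Subtype.ext ?_
    rw [Matrix.SpecialLinearGroup.coe_mul]
    ext i j
    fin_cases i <;> fin_cases j <;> simp [opp, trA, loA, Matrix.mul_apply, Fin.sum_univ_two]
  intro s
  have hmem := plane_le (G := G.map CfsgLib.Perm.Trans.Symp.toGL) (RingHom.id F) hq hRE
    (closure_two_opp h0 h1 hgen) {1} (by rintro z rfl w rfl; exact Commute.refl _)
    (by rintro z rfl B -; exact Commute.one_left _)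
    (fun A hA' => by
      refine ⟨1, rfl, ?_⟩
      rw [mul_one]
      rcases hA' with rfl | rfl <;> rw [hopp]
      · exact ⟨_, spT_pair_mem β γ hu hb 0, rfl⟩
      · exact ⟨_, spT_pair_mem β γ hu ha 0, rfl⟩)
    (trA s)
  rw [← hA, one_mul] at hmem
  obtain ⟨B, hB', hBe⟩ := hmem
  exact toGL_injective hBe ▸ hB'

omit [Fintype F] in
theorem spU_not_central (hn : 2 ≤ n) {d : ℕ} (hd : spCor (n := n) β γ (d : ℤ) ≠ 0) :
    spU n β γ ∉ Subgroup.center Sp2n := by
  intro hc
  have hcomm := Subgroup.mem_center_iff.1 (Subgroup.zpow_mem _ hc (d : ℤ))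
  have he : spT (n := n) β γ (d : ℤ) 1 = spT β γ 0 1 := by
    rw [show (d : ℤ) = (d : ℤ) + 0 from (add_zero _).symm, ← spT_shift, ← hcomm,
      mul_inv_cancel_right]
  have h1 := congrArg (fun A : Sp2n => A.1 *ᵥ spXk β γ (d : ℤ)) he
  simp only [spT, CfsgLib.Sp.tv_mulVec, CfsgLib.Sp.sf_self, mul_zero, zero_smul, add_zero, one_mul,
    sf_spXk, sub_zero] at h1
  have h2 : spXk (n := n) β γ 0 = 0 := by
    have := left_eq_add.1 h1
    exact (smul_eq_zero.1 this).resolve_left hd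
  rw [spXk_zero] at h2
  have := congrFun h2 (.inr ⟨0, by omega⟩)
  simp [spX] at this

omit [Fintype F] in
theorem normal_of_orbit {G : Subgroup Sp2n} {H : Set Sp2n} (hH : Subgroup.closure H = ⊤)
    (hG : ∀ h ∈ H, ∀ x ∈ G, h * x * h⁻¹ ∈ G ∧ h⁻¹ * x * h ∈ G) : G.Normal := by
  rw [← Subgroup.normalizer_eq_top_iff, eq_top_iff, ← hH, Subgroup.closure_le]
  intro h hh
  refine Subgroup.mem_normalizer_iff.2 fun x => ⟨fun hx => (hG h hh x hx).1, fun hx => ?_⟩
  have h2 := (hG h hh _ hx).2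
  rwa [show h⁻¹ * (h * x * h⁻¹) * h = x by group] at h2

omit [Fintype F] in
theorem conj_closed {G : Subgroup Sp2n} {S : Set Sp2n} (hS : G = Subgroup.closure S) {h : Sp2n}
    (hh : ∀ x ∈ S, h * x * h⁻¹ ∈ G) (x : Sp2n) (hx : x ∈ G) : h * x * h⁻¹ ∈ G := by
  rw [hS] at hx
  induction hx using Subgroup.closure_induction with
  | mem y hy => exact hh y hy
  | one => simp
  | mul a b _ _ ha hb =>
    rw [show h * (a * b) * h⁻¹ = (h * a * h⁻¹) * (h * b * h⁻¹) by group]; exact G.mul_mem ha hb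
  | inv a _ ha => rw [show h * a⁻¹ * h⁻¹ = (h * a * h⁻¹)⁻¹ by group]; exact G.inv_mem ha

theorem sp_three_of_card_three (hq : Fintype.card F = 3) (hn : 2 ≤ n) (hβ : β ≠ 0)
    (hconn : SpConn n β γ) {d : ℕ} (hd : spCor (n := n) β γ (d : ℤ) ≠ 0) :
    Subgroup.closure {spU n β γ, spT β γ 0 1 * spU n β γ * (spT β γ 0 1)⁻¹,
      spT β γ 0 (-1) * spU n β γ * (spT β γ 0 (-1))⁻¹} = ⊤ := by
  classical
  haveI : Fact (Nat.Prime 3) := ⟨Nat.prime_three⟩
  haveI : CharP F 3 := charP_of_card_eq_prime hq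
  set u := spU n β γ with hu'
  set S : Set Sp2n := {u, spT β γ 0 1 * u * (spT β γ 0 1)⁻¹, spT β γ 0 (-1) * u * (spT β γ 0 (-1))⁻¹}
  set G := Subgroup.closure S with hG
  set t := spT (n := n) β γ 0 1 with ht
  have hpow : ∀ k : ℕ, t ^ k = spT β γ 0 (k : F) := by
    intro k
    induction k with
    | zero => rw [pow_zero, Nat.cast_zero, spT, CfsgLib.Sp.tv_zero]
    | succ k ih => rw [pow_succ, ih, Nat.cast_succ, ht, spT, spT, CfsgLib.Sp.tv_mul]; rfl
  have hH : Subgroup.closure ({u, t} : Set Sp2n) = ⊤ := by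
    refine sp_top_of_full β γ hn hβ (by omega) hconn (Subgroup.subset_closure (Set.mem_insert _ _))
      fun s => ?_
    obtain ⟨k, rfl⟩ := (ZMod.castHom_bijective F hq).2 s
    have htm : t ∈ Subgroup.closure ({u, t} : Set Sp2n) :=
      Subgroup.subset_closure (Set.mem_insert_of_mem _ (Set.mem_singleton t))
    have hk := Subgroup.pow_mem _ htm k.val
    rw [hpow, ← ZMod.cast_eq_val] at hk
    rw [ZMod.castHom_apply]
    exact hk
  have h3 : t ^ 3 = 1 := by
    rw [hpow, show ((3 : ℕ) : F) = 0 from CharP.cast_eq_zero F 3, spT, CfsgLib.Sp.tv_zero]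
  have ht2 : t * t = t⁻¹ := eq_inv_of_mul_eq_one_left (by rw [← h3, pow_succ, pow_two])
  have hti : spT (n := n) β γ 0 (-1) = t⁻¹ := (spT_inv β γ 0 1).symm
  have huG : u ∈ G := Subgroup.subset_closure (Set.mem_insert _ _)
  have h1G : t * u * t⁻¹ ∈ G := Subgroup.subset_closure (Set.mem_insert_of_mem _ (Set.mem_insert _ _))
  have h2G : t⁻¹ * u * t ∈ G := by
    have h := Subgroup.subset_closure (k := S) (Set.mem_insert_of_mem _ (Set.mem_insert_of_mem _ rfl))
    rwa [hti, inv_inv] at h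
  have htS : ∀ x ∈ S, t * x * t⁻¹ ∈ G := by
    rintro x (rfl | rfl | rfl)
    · exact h1G
    · rw [show t * (t * u * t⁻¹) * t⁻¹ = (t * t) * u * (t * t)⁻¹ by group, ht2, inv_inv]
      exact h2G
    · rw [hti, show t * (t⁻¹ * u * (t⁻¹)⁻¹) * t⁻¹ = u by group]; exact huG
  have hc := conj_closed (G := G) hG htS
  haveI : G.Normal := normal_of_orbit hH (by
    rintro h (rfl | rfl) x hx
    · exact ⟨G.mul_mem (G.mul_mem huG hx) (G.inv_mem huG), G.mul_mem (G.mul_mem (G.inv_mem huG) hx) huG⟩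
    · refine ⟨hc x hx, ?_⟩
      have h2 := hc _ (hc x hx)
      have he : t * (t * x * t⁻¹) * t⁻¹ = (t * t) * x * (t * t)⁻¹ := by group
      rwa [he, ht2, inv_inv] at h2)
  exact sp_top_of_normal hn (fun _ => by omega) G huG (spU_not_central β γ hn hd)

omit [Fintype F] in
/-- the seed of dimension four -/
theorem sp_seed {M : Subgroup (GL (Fin n ⊕ Fin n) F)} (hle : M ≤ isoSub (Cfsg.sympForm n F))
    {W : Submodule F (Fin n ⊕ Fin n → F)} (hW : Cfsg.Geo.IsNondegenerateOn (Cfsg.sympForm n F) W)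
    (hWC : ∀ w ∈ W, w ∈ centres (isSymplecticForm_sympForm (F := F) (m := n)) M)
    {e p r r' : Fin n ⊕ Fin n → F} (he : e ∈ W) (he0 : e ≠ 0) (hp : p ∈ W)
    (hr : r ∈ perp (isSymplecticForm_sympForm (F := F) (m := n)) W)
    (hr' : r' ∈ perp (isSymplecticForm_sympForm (F := F) (m := n)) W)
    (hrr : Cfsg.sympForm n F r r' = 1)
    (hrC : r ∈ centres (isSymplecticForm_sympForm (F := F) (m := n)) M)
    (herC : e + r ∈ centres (isSymplecticForm_sympForm (F := F) (m := n)) M)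
    (hprC : p + r' ∈ centres (isSymplecticForm_sympForm (F := F) (m := n)) M) :
    ∀ v ∈ W ⊔ Submodule.span F {r, r'},
      v ∈ centres (isSymplecticForm_sympForm (F := F) (m := n)) M := by
  classical
  set hf := isSymplecticForm_sympForm (F := F) (m := n)
  have hr'r : Cfsg.sympForm n F r' r = -1 := by rw [hf.skew, hrr]
  -- `r'` is a centre
  have hr'C : r' ∈ centres hf M := by
    rcases eq_or_ne p 0 with rfl | hp0
    · simpa using hprC
    have h1 : p + r' + r ∈ centres hf M := by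
      have h := centres_line hf hle hprC hrC (by
        rw [hf.bilinear.add_left, hr'r, swap_zero hf (hr p hp), zero_add]
        exact neg_ne_zero.2 one_ne_zero) 1
      rwa [one_smul] at h
    have h2 : p + r ∈ centres hf M := sp_move hf hle hW hWC he hp he0 hp0 hr herC
    have h3 := centres_line hf hle h1 h2 (by
      rw [hf.bilinear.add_left, hf.bilinear.add_left, hf.bilinear.add_right, hf.bilinear.add_right,
        hf.bilinear.add_right, hf.alternating, hf.alternating, swap_zero hf (hr p hp),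
        hr p hp, hr' p hp, hr'r]
      simp) (-1)
    rw [show p + r' + r + (-1 : F) • (p + r) = r' by simp; abel] at h3
    exact h3
  intro v hv
  obtain ⟨q, hq, s, hs, rfl⟩ := Submodule.mem_sup.1 hv
  obtain ⟨a, b, rfl⟩ := Submodule.mem_span_pair.1 hs
  have hpair := fun z hz => sp_plane_full hf hle hrC hr'C (by rw [hrr]; exact one_ne_zero) (v := z) hz
  by_cases hq0 : q = 0
  · rw [hq0, zero_add]; exact hpair _ (Submodule.mem_span_pair.2 ⟨a, b, rfl⟩)
  have hA : ∀ c : F, c ≠ 0 → q + c • r ∈ centres hf M := fun c hc => by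
    have h1 := centres_smul hf (sp_move hf hle hW hWC he (W.smul_mem c⁻¹ hq) he0
      (smul_ne_zero (inv_ne_zero hc) hq0) hr herC) c
    rwa [smul_add, smul_smul, mul_inv_cancel₀ hc, one_smul] at h1
  have hAB : ∀ c d : F, c ≠ 0 → q + c • r + d • r' ∈ centres hf M := fun c d hc => by
    refine centres_line hf hle (hA c hc) hr'C ?_ d
    rw [hf.bilinear.add_left, hf.bilinear.smul_left, hrr, swap_zero hf (hr' q hq), zero_add, mul_one]
    exact hc
  rw [← add_assoc]
  by_cases ha : a = 0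
  · subst ha
    rw [zero_smul, add_zero]
    by_cases hb : b = 0
    · rw [hb, zero_smul, add_zero]; exact hWC q hq
    have h1 := centres_line hf hle (hAB 1 b one_ne_zero) hrC (by
      rw [hf.bilinear.add_left, hf.bilinear.add_left, hf.bilinear.smul_left, hf.bilinear.smul_left,
        hf.alternating, hr'r, swap_zero hf (hr q hq)]
      simpa using hb) (-1)
    rwa [show q + (1 : F) • r + b • r' + (-1 : F) • r = q + b • r' by simp; abel] at h1
  · exact hAB a b ha

theorem sp_three_of_card_two (hq : Fintype.card F = 2) (hn : 3 ≤ n) :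
    ∃ g h : Sp2n, Subgroup.closure {spU n (1 : F) 1, g * spU n 1 1 * g⁻¹, h * spU n 1 1 * h⁻¹} = ⊤ := by
  classical
  haveI : Fact (Nat.Prime 2) := ⟨Nat.prime_two⟩
  haveI : CharP F 2 := charP_of_card_eq_prime hq
  set u := spU n (1 : F) 1 with hu'
  set hf := isSymplecticForm_sympForm (F := F) (m := n)
  have hc : ∀ k : ℕ, k + 1 < n → spCor (n := n) (1 : F) 1 (k : ℤ) = 0 := fun k hk => by
    rw [spCor_nat, spVal_small 1 1 hn hk]
  have hcd : spCor (n := n) (1 : F) 1 ((n - 1 : ℕ) : ℤ) = 1 := by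
    rw [spCor_nat, spVal_pred 1 1 hn, CharTwo.neg_eq, one_mul, CharTwo.neg_eq, one_pow]
  have hcn : spCor (n := n) (1 : F) 1 ((n : ℕ) : ℤ) = 1 := by
    rw [spCor_nat, spVal_n 1 1 hn, CharTwo.neg_eq, CharTwo.two_eq_zero, CharTwo.neg_eq, one_pow,
      zero_mul, zero_mul, add_zero, one_mul]
  set t := spT (n := n) (1 : F) 1 0 1 with ht
  set r := spXk (n := n) (1 : F) 1 (-1) + spXk 1 1 0 with hr
  set h := CfsgLib.Sp.tv r (1 : F) with hh
  have hr1 : CfsgLib.Sp.sf r (spXk 1 1 (-1)) = 0 := by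
    rw [hr, CfsgLib.Sp.sf_add_left, sf_spXk, sf_spXk, sub_self, spCor_zero,
      show (0 : ℤ) - -1 = ((1 : ℕ) : ℤ) from rfl, hc 1 (by omega), add_zero]
  have hr0 : CfsgLib.Sp.sf r (spXk 1 1 0) = 0 := by
    rw [hr, CfsgLib.Sp.sf_add_left, sf_spXk, sf_spXk, sub_self, spCor_zero, sub_zero,
      show (-1 : ℤ) = -((1 : ℕ) : ℤ) from rfl, spCor_neg, hc 1 (by omega), neg_zero, add_zero]
  have hht : Commute h t := CfsgLib.Sp.tv_commute hr0 1 1
  have htt : t * t = 1 := by rw [ht, spT, CfsgLib.Sp.tv_mul, CharTwo.add_self_eq_zero, CfsgLib.Sp.tv_zero]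
  have hhh : h * h = 1 := by rw [hh, CfsgLib.Sp.tv_mul, CharTwo.add_self_eq_zero, CfsgLib.Sp.tv_zero]
  have hti : t⁻¹ = t := inv_eq_of_mul_eq_one_right htt
  have hhi : h⁻¹ = h := inv_eq_of_mul_eq_one_right hhh
  refine ⟨t, h, ?_⟩
  set S : Set Sp2n := {u, t * u * t⁻¹, h * u * h⁻¹}
  set G := Subgroup.closure S with hG
  have huG : u ∈ G := Subgroup.subset_closure (Set.mem_insert _ _)
  have htG : t * u * t⁻¹ ∈ G := Subgroup.subset_closure (Set.mem_insert_of_mem _ (Set.mem_insert _ _))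
  have hhG : h * u * h⁻¹ ∈ G :=
    Subgroup.subset_closure (Set.mem_insert_of_mem _ (Set.mem_insert_of_mem _ rfl))
  -- the fourth conjugate
  have h4 : (h * t) * u * (h * t)⁻¹ ∈ G := by
    set t' := u⁻¹ * t * u with ht'
    set h' := u⁻¹ * h * u with hh'
    have e1 : t' = spT (n := n) (1 : F) 1 (-1) 1 := by
      rw [ht', ht, show (-1 : ℤ) = -1 + 0 from rfl, ← spT_shift, _root_.zpow_neg_one, inv_inv]
    have c1 : Commute h t' := by rw [e1]; exact CfsgLib.Sp.tv_commute hr1 1 1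
    have m1 : h' * h ∈ G := by
      have hm := G.mul_mem (G.inv_mem huG) hhG
      rwa [hhi, ← mul_assoc, ← mul_assoc] at hm
    have m2 : t' * t ∈ G := by
      have hm := G.mul_mem (G.inv_mem huG) htG
      rwa [hti, ← mul_assoc, ← mul_assoc] at hm
    have hm := G.mul_mem huG (G.mul_mem m1 m2)
    have he : u * (h' * h * (t' * t)) = h * t * u * (h * t)⁻¹ := by
      rw [_root_.mul_inv_rev, hti, hhi, show h' * h * (t' * t) = h' * (h * t') * t by group, c1.eq,
        ← hht.eq, ht', hh']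
      group
    rwa [he] at hm
  have htS : ∀ x ∈ S, t * x * t⁻¹ ∈ G := by
    rintro x (rfl | rfl | rfl)
    · exact htG
    · rw [show t * (t * u * t⁻¹) * t⁻¹ = (t * t) * u * (t * t)⁻¹ by group, htt, one_mul, inv_one,
        mul_one]
      exact huG
    · rw [show t * (h * u * h⁻¹) * t⁻¹ = (t * h) * u * (t * h)⁻¹ by group, ← hht.eq]; exact h4
  have hhS : ∀ x ∈ S, h * x * h⁻¹ ∈ G := by
    rintro x (rfl | rfl | rfl)
    · exact hhG
    · rw [show h * (t * u * t⁻¹) * h⁻¹ = (h * t) * u * (h * t)⁻¹ by group]; exact h4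
    · rw [show h * (h * u * h⁻¹) * h⁻¹ = (h * h) * u * (h * h)⁻¹ by group, hhh, one_mul, inv_one,
        mul_one]
      exact huG
  -- the group generated by `u`, `t`, `h`
  have hH : Subgroup.closure ({u, t, h} : Set Sp2n) = ⊤ := by
    set H := Subgroup.closure ({u, t, h} : Set Sp2n)
    have huH : u ∈ H := Subgroup.subset_closure (Set.mem_insert _ _)
    set M := H.map CfsgLib.Perm.Trans.Symp.toGL with hM
    have hle : M ≤ isoSub (Cfsg.sympForm n F) := by rintro _ ⟨A, -, rfl⟩; exact toGL_mem_iso A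
    have h01 : ∀ c : F, c = 0 ∨ c = 1 := fun c => by
      obtain ⟨k, rfl⟩ := (ZMod.castHom_bijective F hq).2 c
      fin_cases k
      · exact Or.inl (map_zero _)
      · exact Or.inr (map_one _)
    have hcen : ∀ w, CfsgLib.Sp.tv w (1 : F) ∈ H → w ∈ centres hf M := by
      intro w hw c
      rcases h01 c with rfl | rfl
      · rw [stv_zero]; exact one_mem _
      · exact ⟨_, hw, toGL_tv w 1⟩
    have hx : ∀ k : ℤ, spXk (n := n) (1 : F) 1 k ∈ centres hf M := fun k => by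
      refine hcen _ ?_
      show spT (1 : F) 1 k 1 ∈ H
      rw [show k = k + 0 from (add_zero k).symm, ← spT_shift]
      exact H.mul_mem (H.mul_mem (H.zpow_mem huH k)
        (Subgroup.subset_closure (Set.mem_insert_of_mem _ (Set.mem_insert _ _)))) (H.inv_mem (H.zpow_mem huH k))
    have hrC : r ∈ centres hf M :=
      hcen _ (Subgroup.subset_closure (Set.mem_insert_of_mem _ (Set.mem_insert_of_mem _ rfl)))
    set e := spXk (n := n) (1 : F) 1 0 with he
    set w := spXk (n := n) (1 : F) 1 ((n - 1 : ℕ) : ℤ) with hw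
    have hew : Cfsg.sympForm n F e w = 1 := by
      rw [show Cfsg.sympForm n F e w = CfsgLib.Sp.sf e w from rfl, sf_spXk, zero_sub, spCor_neg, hcd,
        CharTwo.neg_eq]
    have he0 : e ≠ 0 := fun h => by rw [h, zero_left hf] at hew; exact zero_ne_one hew
    set W := Submodule.span F ({e, w} : Set (Fin n ⊕ Fin n → F)) with hWdef
    have hW : Cfsg.Geo.IsNondegenerateOn (Cfsg.sympForm n F) W := isNondegenerateOn_pair hf hew
    have hWC : ∀ v ∈ W, v ∈ centres hf M := fun v hv =>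
      sp_plane_full hf hle (hx 0) (hx _) (by rw [hew]; exact one_ne_zero) hv
    have hrw : Cfsg.sympForm n F r w = 0 := by
      rw [show Cfsg.sympForm n F r w = CfsgLib.Sp.sf r w from rfl, hr, CfsgLib.Sp.sf_add_left, sf_spXk,
        sf_spXk, zero_sub, spCor_neg, hcd, show (-1 : ℤ) - ((n - 1 : ℕ) : ℤ) = -((n : ℕ) : ℤ) by omega,
        spCor_neg, hcn, CharTwo.add_self_eq_zero]
    have hrW : r ∈ perp hf W := fun v hv => by
      obtain ⟨a, b, rfl⟩ := Submodule.mem_span_pair.1 hv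
      rw [hf.bilinear.add_right, hf.bilinear.smul_right, hf.bilinear.smul_right, hrw,
        show Cfsg.sympForm n F r e = 0 from hr0, mul_zero, mul_zero, add_zero]
    have hrne : r ≠ 0 := fun h0 => by
      have h1 : CfsgLib.Sp.sf r (spXk 1 1 ((n - 2 : ℕ) : ℤ)) = 0 := by rw [h0]; exact zero_left hf _
      rw [hr, CfsgLib.Sp.sf_add_left, sf_spXk, sf_spXk, zero_sub, spCor_neg, hc _ (by omega),
        show (-1 : ℤ) - ((n - 2 : ℕ) : ℤ) = -((n - 1 : ℕ) : ℤ) by omega, spCor_neg, hcd, neg_zero,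
        add_zero, CharTwo.neg_eq] at h1
      exact one_ne_zero h1
    have herC : e + r ∈ centres hf M := by
      rw [hr, show e + (spXk (n := n) (1 : F) 1 (-1) + spXk 1 1 0) = spXk 1 1 (-1) + (e + e) by
        rw [he]; abel, ← two_smul F e, CharTwo.two_eq_zero, zero_smul, add_zero]
      exact hx _
    obtain ⟨j, hj⟩ : ∃ j : Fin (2 * n), Cfsg.sympForm n F r (spXk 1 1 (j : ℕ)) ≠ 0 := by
      by_contra hcon
      push Not at hcon
      obtain ⟨y, hy⟩ := (hf.nondegenerate r hrne).2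
      refine hy ?_
      suffices hall : ∀ z ∈ Submodule.span F (Set.range fun i : Fin (2 * n) =>
          spXk (n := n) (1 : F) 1 (i : ℕ)), Cfsg.sympForm n F r z = 0 from
        hall y ((span_spXk (n := n) (1 : F) 1 (by omega) one_ne_zero).symm ▸ Submodule.mem_top)
      intro z hz
      clear hy
      induction hz using Submodule.span_induction with
      | mem z hz => obtain ⟨k, rfl⟩ := hz; exact hcon k
      | zero => exact zero_right hf r
      | add a b _ _ ha hb => rw [hf.bilinear.add_right, ha, hb, add_zero]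
      | smul a b _ hb => rw [hf.bilinear.smul_right, hb, mul_zero]
    have hj1 := (h01 _).resolve_left hj
    obtain ⟨p, hp, hpr⟩ := exists_decomp hf hW (spXk (n := n) (1 : F) 1 (j : ℕ))
    have hrr : Cfsg.sympForm n F r (spXk 1 1 (j : ℕ) - p) = 1 := by
      rw [sub_right hf, hj1, hrW p hp, sub_zero]
    have hseed := sp_seed hle hW hWC (e := e) (p := p) (Submodule.subset_span (Set.mem_insert _ _)) he0
      hp hrW hpr hrr hrC herC (by rw [add_sub_cancel]; exact hx _)
    set r' := spXk (n := n) (1 : F) 1 (j : ℕ) - p with hr'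
    have hpairperp : ∀ v ∈ Submodule.span F ({r, r'} : Set (Fin n ⊕ Fin n → F)), v ∈ perp hf W :=
      fun v hv => (Submodule.span_le.2 (by
        rintro x (rfl | rfl)
        · exact hrW
        · exact hpr)) hv
    have hW4 : Cfsg.Geo.IsNondegenerateOn (Cfsg.sympForm n F) (W ⊔ Submodule.span F {r, r'}) :=
      isNondegenerateOn_sup hf hW (isNondegenerateOn_pair hf hrr)
        (fun a ha z hz => swap_zero hf (hpairperp z hz a ha))
    have hrk : 3 ≤ Module.finrank F ↥(W ⊔ Submodule.span F {r, r'}) := by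
      have h2 : 2 ≤ Module.finrank F W := by
        have hli : LinearIndependent F ![e, w] := by
          rw [LinearIndependent.pair_iff]
          intro a b hab
          have h1 := congrArg (fun v => Cfsg.sympForm n F v w) hab
          have h2 := congrArg (fun v => Cfsg.sympForm n F v e) hab
          simp only [sp_add_smul_left hf, zero_left hf, hew, hf.alternating, mul_one, mul_zero,
            add_zero, zero_add] at h1 h2
          rw [hf.skew, hew, mul_neg, mul_one, neg_eq_zero] at h2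
          exact ⟨h1, h2⟩
        have h3 := finrank_span_eq_card hli
        rw [Fintype.card_fin] at h3
        rw [hWdef, ← Matrix.range_cons_cons_empty e w]
        exact h3.ge
      have hlt : W < W ⊔ Submodule.span F {r, r'} := by
        refine lt_of_le_of_ne le_sup_left fun h0 => hrne ?_
        refine disjoint_perp hf hW ?_ hrW
        rw [h0]
        exact Submodule.mem_sup_right (Submodule.subset_span (Set.mem_insert _ _))
      have := Submodule.finrank_lt_finrank_of_lt hlt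
      omega
    have hconn : SpConn n (1 : F) 1 := spConn_of_gaps 1 1 (n - 1) (by omega)
      (by rw [hcd]; exact one_ne_zero)
      (by rw [show n - 1 + 1 = n by omega, hcn]; exact one_ne_zero)
    have hall := sp_centres_all hf hle (fun i : Fin (2 * n) => spXk (n := n) (1 : F) 1 (i : ℕ))
      (fun i => hx _) (span_spXk 1 1 (by omega) one_ne_zero)
      (fun P hP => hconn P (fun a b ha hab => hP a b ha (by
        show CfsgLib.Sp.sf _ _ ≠ 0
        rwa [sf_spXk]))) hW4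
      (fun hbot => he0 ((Submodule.mem_bot F).1 (hbot ▸
        Submodule.mem_sup_left (Submodule.subset_span (Set.mem_insert _ _))))) hseed (Or.inr hrk)
    have hMeq := eq_isoSub_of_centres hf hle hall
    refine eq_top_iff.2 fun A _ => ?_
    obtain ⟨B, hB, hBA⟩ : toGL A ∈ M := hMeq ▸ toGL_mem_iso A
    exact toGL_injective hBA ▸ hB
  have hct := conj_closed (G := G) hG htS
  have hch := conj_closed (G := G) hG hhS
  haveI : G.Normal := normal_of_orbit hH (by
    rintro g (rfl | rfl | rfl) x hx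
    · exact ⟨G.mul_mem (G.mul_mem huG hx) (G.inv_mem huG), G.mul_mem (G.mul_mem (G.inv_mem huG) hx) huG⟩
    · exact ⟨hct x hx, by have := hct x hx; rw [hti] at this ⊢; exact this⟩
    · exact ⟨hch x hx, by have := hch x hx; rw [hhi] at this ⊢; exact this⟩)
  exact sp_top_of_normal (by omega) (fun h2 => by omega) G huG
    (spU_not_central 1 1 (by omega) (d := n - 1) (by rw [hcd]; exact one_ne_zero))

/-- the main result -/
theorem sp_three (hn : 2 ≤ n) (h22 : ¬ (n = 2 ∧ Fintype.card F = 2)) :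
    ∃ u g h : Sp2n, IsNilpotent ((u : Matrix (Fin n ⊕ Fin n) (Fin n ⊕ Fin n) F) - 1) ∧
      ((u : Matrix (Fin n ⊕ Fin n) (Fin n ⊕ Fin n) F) - 1) ^ (2 * n - 1) ≠ 0 ∧
      Subgroup.closure ({u, g * u * g⁻¹, h * u * h⁻¹} : Set Sp2n) = ⊤ := by
  classical
  obtain ⟨p, hpc⟩ := CharP.exists F
  haveI : Fact p.Prime := ⟨CharP.char_is_prime F p⟩
  obtain ⟨f, hpp, hF⟩ := FiniteField.card F p
  have hq2 : 2 ≤ Fintype.card F := Fintype.one_lt_card
  by_cases hc2 : Fintype.card F = 2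
  · obtain ⟨g, h, hgh⟩ := sp_three_of_card_two (n := n) hc2 (by omega)
    obtain ⟨h1, h2⟩ := spU_regular (n := n) (1 : F) 1 hn one_ne_zero
    exact ⟨_, g, h, h1, h2, hgh⟩
  suffices key : ∃ β γ : F, β ≠ 0 ∧ SpConn n β γ ∧ ∃ d : ℕ, spCor (n := n) β γ (d : ℤ) ≠ 0 ∧
      ((2 ≤ d ∧ spCor (n := n) β γ (d : ℤ) * spCor (n := n) β γ (d : ℤ) = 1 ∧
        ∀ k : ℕ, k < d → spCor (n := n) β γ (k : ℤ) = 0) ∨ (p = 2 ∧ spCor (n := n) β γ 1 = 1)) by
    obtain ⟨β, γ, hβ, hconn, d, hd, hcase⟩ := key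
    obtain ⟨h1, h2⟩ := spU_regular (n := n) β γ hn hβ
    by_cases h3 : Fintype.card F = 3
    · exact ⟨_, _, _, h1, h2, sp_three_of_card_three β γ h3 hn hβ hconn hd⟩
    obtain ⟨ω, hω0, hω1, hgen, h9⟩ := exists_good_generator (F := F) (by omega)
    refine ⟨_, spT β γ 0 ω, spT β γ 0 1, h1, h2,
      sp_top_of_full β γ hn hβ (by omega) hconn (Subgroup.subset_closure (Set.mem_insert _ _)) ?_⟩
    have ha : spT β γ 0 ω * spU n β γ * (spT β γ 0 ω)⁻¹ ∈ Subgroup.closure ({spU n β γ,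
        spT β γ 0 ω * spU n β γ * (spT β γ 0 ω)⁻¹, spT β γ 0 1 * spU n β γ * (spT β γ 0 1)⁻¹} : Set Sp2n) :=
      Subgroup.subset_closure (Set.mem_insert_of_mem _ (Set.mem_insert _ _))
    have hb : spT β γ 0 1 * spU n β γ * (spT β γ 0 1)⁻¹ ∈ Subgroup.closure ({spU n β γ,
        spT β γ 0 ω * spU n β γ * (spT β γ 0 ω)⁻¹, spT β γ 0 1 * spU n β γ * (spT β γ 0 1)⁻¹} : Set Sp2n) :=
      Subgroup.subset_closure (Set.mem_insert_of_mem _ (Set.mem_insert_of_mem _ rfl))
    rcases hcase with ⟨hd2, hκ, hsmall⟩ | ⟨rfl, hadj⟩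
    · exact sp_full_of_gap β γ (by omega) (Subgroup.subset_closure (Set.mem_insert _ _)) ω hω0 hω1 hgen
        h9 ha hb d hd2 _ hκ rfl hsmall
    · exact sp_full_of_adjacent β γ (by omega) (Subgroup.subset_closure (Set.mem_insert _ _)) ω hω0 hω1
        hgen ha hb hadj
  rcases Nat.lt_or_ge n 3 with hlt | hge
  · obtain rfl : n = 2 := by omega
    rcases eq_or_ne p 2 with rfl | hp2
    · have hc1 : spCor (n := 2) (1 : F) 1 1 = 1 := by
        rw [show (1 : ℤ) = ((1 : ℕ) : ℤ) from rfl, spCor_nat, spVal_two_one 1 1 rfl, CharTwo.neg_eq]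
      have hc2' : spCor (n := 2) (1 : F) 1 ((2 : ℕ) : ℤ) = 1 := by
        rw [spCor_nat, spVal_two_two 1 1 rfl, CharTwo.two_eq_zero, zero_mul, sub_zero]
      refine ⟨1, 1, one_ne_zero, spConn_of_gaps 1 1 1 (by norm_num) (by rw [show ((1 : ℕ) : ℤ) = 1 from rfl, hc1]; exact one_ne_zero)
        (by rw [show (1 + 1 : ℕ) = 2 from rfl, hc2']; exact one_ne_zero), 1,
        by rw [show ((1 : ℕ) : ℤ) = 1 from rfl, hc1]; exact one_ne_zero, Or.inr ⟨rfl, hc1⟩⟩
    · have h4 : (4 : F) ≠ 0 := by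
        intro h
        have h' : p ∣ 4 := (CharP.cast_eq_zero_iff F p 4).1 (by exact_mod_cast h)
        exact hp2 ((Nat.prime_dvd_prime_iff_eq hpp Nat.prime_two).1
          (hpp.dvd_of_dvd_pow (n := 2) (by norm_num; exact h')))
      have hc1 : spCor (n := 2) (1 : F) 0 ((1 : ℕ) : ℤ) = 0 := by
        rw [spCor_nat, spVal_two_one 1 0 rfl, neg_zero]
      have hc2' : spCor (n := 2) (1 : F) 0 ((2 : ℕ) : ℤ) = 1 := by
        rw [spCor_nat, spVal_two_two 1 0 rfl, mul_zero, sub_zero]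
      have hc3 : spCor (n := 2) (1 : F) 0 ((3 : ℕ) : ℤ) = 4 := by
        rw [spCor_nat, spVal_two_three 1 0 rfl, mul_one, mul_zero, sub_zero]
      refine ⟨1, 0, one_ne_zero, ?_, 2, by rw [hc2']; exact one_ne_zero,
        Or.inl ⟨le_rfl, by rw [hc2', mul_one], fun k hk => ?_⟩⟩
      · intro P hP
        have e02 : ∀ a b : Fin (2 * 2), ((b : ℕ) = (a : ℕ) + 2 ∨ (b : ℕ) = (a : ℕ) + 3) →
            (P a ↔ P b) := by
          intro a b hab
          have hne : spCor (n := 2) (1 : F) 0 ((b : ℕ) - (a : ℕ)) ≠ 0 := by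
            rcases hab with e | e
            · rw [show ((b : ℕ) : ℤ) - ((a : ℕ) : ℤ) = ((2 : ℕ) : ℤ) by omega, hc2']; exact one_ne_zero
            · rw [show ((b : ℕ) : ℤ) - ((a : ℕ) : ℤ) = ((3 : ℕ) : ℤ) by omega, hc3]; exact h4
          exact ⟨fun h => hP a b h (by rw [← neg_sub, spCor_neg]; exact neg_ne_zero.2 hne),
            fun h => hP b a h hne⟩
        have k02 := e02 ⟨0, by norm_num⟩ ⟨2, by norm_num⟩ (Or.inl rfl)
        have k03 := e02 ⟨0, by norm_num⟩ ⟨3, by norm_num⟩ (Or.inr rfl)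
        have k13 := e02 ⟨1, by norm_num⟩ ⟨3, by norm_num⟩ (Or.inl rfl)
        have hall : ∀ i : Fin (2 * 2), P i ↔ P ⟨0, by norm_num⟩ := by
          intro i
          fin_cases i
          · exact Iff.rfl
          · exact k13.trans k03.symm
          · exact k02.symm
          · exact k03.symm
        exact fun i j h => (hall j).2 ((hall i).1 h)
      · interval_cases k
        · exact spCor_zero (n := 2) (1 : F) 0
        · exact hc1
  · have hσ : ((-1 : F) ^ (n - 1)) * (-1) ^ (n - 1) = 1 := by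
      rw [← mul_pow, neg_one_mul, neg_neg, one_pow]
    obtain ⟨β, hβ, hβn⟩ : ∃ β : F, β ≠ 0 ∧ β + 2 * 1 * ((n : F) - 1) ≠ 0 := by
      by_cases h : (1 : F) + 2 * 1 * ((n : F) - 1) = 0
      · refine ⟨-1, neg_ne_zero.2 one_ne_zero, fun h' => ?_⟩
        have h2 : (2 : F) = 0 := by linear_combination h - h'
        exact one_ne_zero (show (1 : F) = 0 by linear_combination h - ((n : F) - 1) * h2)
      · exact ⟨1, one_ne_zero, h⟩
    have hd : spCor (n := n) β 1 ((n - 1 : ℕ) : ℤ) = -((-1) ^ (n - 1)) := by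
      rw [spCor_nat, spVal_pred β 1 hge, one_mul]
    have hn' : spCor (n := n) β 1 ((n : ℕ) : ℤ) ≠ 0 := by
      rw [spCor_nat, spVal_n β 1 hge]
      exact neg_ne_zero.2 (mul_ne_zero (pow_ne_zero _ (neg_ne_zero.2 one_ne_zero)) hβn)
    have hdne : spCor (n := n) β 1 ((n - 1 : ℕ) : ℤ) ≠ 0 := by
      rw [hd]; exact neg_ne_zero.2 (pow_ne_zero _ (neg_ne_zero.2 one_ne_zero))
    refine ⟨β, 1, hβ, spConn_of_gaps β 1 (n - 1) (by omega) hdne
      (by rw [show n - 1 + 1 = n by omega]; exact hn'), n - 1, hdne,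
      Or.inl ⟨by omega, by rw [hd, neg_mul_neg, hσ], fun k hk => ?_⟩⟩
    rw [spCor_nat, spVal_small β 1 hge (by omega)]

end CfsgLib.RegUnip
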