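import Cfsg.Agent.Lib.RegUnip.Main

/-!
# Groups without normal `p`-subgroups
-/

set_option autoImplicit false
set_option linter.style.haveILetI false

open Finset
open scoped Classical

namespace CfsgLib.RegUnip

variable {p w : ℕ} [Fact p.Prime] {X Q : Subgroup (GLw p w)}

/-- Without normal `p`-subgroups the Sylow subgroup has order `p`, also in the reducible case. -/
theorem Reg.card_of_core (hR : Reg X Q) (hp5 : 5 ≤ p) (hw : 1 < w) (hwp : w ≤ p - 1)
    (hcore : ∀ R : Subgroup X, R.Normal → IsPGroup p R → R = ⊥) : Nat.card Q = p := by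
  obtain ⟨x, hxQ, hx⟩ := hR.shift
  set U := (Uni p w).subgroupOf X
  have hbot : U.normalCore = ⊥ := hcore _ inferInstance
    ((isPGroup_uni.comap_subtype (K := X)).to_le (Subgroup.normalCore_le U))
  have hG : Gam Q = ⊥ := by
    refine (Subgroup.eq_bot_iff_forall _).2 fun γ hγ => ?_
    obtain ⟨hγQ, hγ0⟩ := hR.mem_Gam.1 hγ
    have hmem : (⟨γ, hR.le hγQ⟩ : X) ∈ U.normalCore := by
      intro g
      obtain ⟨g, hg⟩ := g
      show g * γ * g⁻¹ ∈ Uni p w
      have hhX : g * γ * g⁻¹ ∈ X := X.mul_mem (X.mul_mem hg (hR.le hγQ)) (X.inv_mem hg)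
      refine mem_Uni.2 (deg_iff.2 fun i j hij => ?_)
      by_cases hlt : i < w ∧ j < w
      swap
      · exact ent_of_le (by omega)
      rw [ent_sub, ent_one hlt.1]
      by_cases hstep : ∃ c, i < c ∧ c ≤ j ∧ X ≤ St p w c
      · obtain ⟨c, hic, hcj, hc⟩ := hstep
        rw [if_neg (by omega), sub_zero]
        exact hc hhX i j hic hcj
      push Not at hstep
      have hex : ∃ b, i < b ∧ X ≤ St p w b := ⟨w, hlt.1, fun g _ => inv_last_step _ le_rfl⟩
      obtain ⟨hib, hb⟩ := Nat.find_spec hex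
      have hbw : Nat.find hex ≤ w := Nat.find_min' hex ⟨hlt.1, fun g _ => inv_last_step _ le_rfl⟩
      have h0 : X ≤ St p w 0 := fun g _ => inv_zero_step _
      have ha := Nat.findGreatest_spec (P := fun c => X ≤ St p w c) (Nat.zero_le i) h0
      have hai := Nat.findGreatest_le (P := fun c => X ≤ St p w c) i
      set a := Nat.findGreatest (fun c => X ≤ St p w c) i with ha'
      have hjb : j < Nat.find hex := by
        by_contra hc
        exact hstep _ hib (by omega) hb
      have hmid : ∀ c, a < c → c < Nat.find hex → ¬ X ≤ St p w c := by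
        intro c hac hcb hc
        rcases Nat.lt_or_ge i c with h | h
        · exact Nat.find_min hex hcb ⟨h, hc⟩
        · exact absurd (Nat.le_findGreatest (P := fun c => X ≤ St p w c) h hc) (by omega)
      obtain ⟨m, hm⟩ : ∃ m, Nat.find hex = a + m := ⟨Nat.find hex - a, by omega⟩
      rw [hm] at hb hbw hjb hib hmid
      rcases Nat.lt_or_ge 1 m with hm1 | hm1
      · have hB := hR.block hR.le hbw hm1 ha hb le_rfl (by omega)
        have hirr := irr_block hbw ha hb hmid
        have hbot' := gam_eq_bot hp5 m (by omega) _ _ hB hirr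
        set f := resHom hbw ha hb with hf
        have hγ' : f ⟨γ, hR.le hγQ⟩ ∈ Gam ((Q.subgroupOf X).map f) := by
          refine hB.mem_Gam.2 ⟨Subgroup.mem_map_of_mem f hγQ, ?_⟩
          rw [hf, resHom_val, ent_res _ hm1 (by omega), Nat.add_zero]
          exact (hR.const γ hγQ a (by omega)).trans hγ0
        rw [hbot', Subgroup.mem_bot] at hγ'
        have h1 : f ⟨g * γ * g⁻¹, hhX⟩ = 1 := by
          rw [show (⟨g * γ * g⁻¹, hhX⟩ : X) = ⟨g, hg⟩ * ⟨γ, hR.le hγQ⟩ * ⟨g, hg⟩⁻¹ from rfl, map_mul, map_mul,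
            hγ', mul_one, map_inv, mul_inv_cancel]
        have h2 := congrArg (fun z : GLw p m => ent (z : M2 p m) (i - a) (j - a)) h1
        simp only [hf, resHom_val, Units.val_one] at h2
        rw [ent_res _ (by omega) (by omega), ent_one (by omega), Nat.add_sub_cancel' hai,
          Nat.add_sub_cancel' (show a ≤ j by omega)] at h2
        rw [h2, sub_eq_zero]
        exact if_congr (by omega) rfl rfl
      · obtain ⟨rfl, rfl⟩ : m = 1 ∧ i = j := by omega
        have hia : a = i := by omega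
        rw [hia] at ha hb
        rw [if_pos rfl, sub_eq_zero, ent_diag_inv hlt.1 (hb (X.mul_mem hg (hR.le hγQ))) (ha (X.inv_mem hg)),
          ent_diag_inv hlt.1 (hb hg) (ha (hR.le hγQ)),
          (mem_Uni_iff_diag (uni_le_low (hR.uni hγQ))).1 (hR.uni hγQ) i hlt.1, mul_one,
          ← ent_diag_inv hlt.1 (hb hg) (ha (X.inv_mem hg)), mul_inv_cancel, Units.val_one, ent_one hlt.1,
          if_pos rfl]
    rw [hbot, Subgroup.mem_bot] at hmem
    exact congrArg Subtype.val hmem
  obtain ⟨_, -, -, hcard, -, -⟩ := hR.of_gam_bot hG hw (by omega)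
  rwa [Nat.card_congr (Subgroup.subgroupOfEquivOfLe hR.le).toEquiv] at hcard

/-- No transvection when the first subdiagonal is constant above the last step. -/
theorem no_transvection (hp5 : 5 ≤ p) (hw : 4 ≤ w) (hwp : w ≤ p - 1)
    (hcore : ∀ R : Subgroup X, R.Normal → IsPGroup p R → R = ⊥) {x s : GLw p w} (hxX : x ∈ X)
    (hx : (x : M2 p w) = 1 + shiftN (ZMod p) w) (hsX : s ∈ X) (hs1 : s ≠ 1)
    (hs : s ∈ Dg p w (w - 1))
    (hconst : ∀ q ∈ X, q ∈ Uni p w → ∀ i, i + 2 < w →
      ent (q : M2 p w) (i + 1) i = ent (q : M2 p w) 1 0) : False := by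
  obtain ⟨K, τ, hKX, hsK, hτK, hτ1, hτ2, hτc, -, hmid, -, -⟩ :=
    exists_involution_of_core hp5 hsX hs1 (mem_Dg.1 hs) (by omega) hcore
  have hm := hmid τ hτK hτ2
  have hl : τ ∈ Low p w := mem_Low.2 (deg_iff.2 fun i j hij => by
    by_cases hlt : i < w ∧ j < w
    · have h := hm i j (by omega) (by omega)
      rwa [ent_sub, ent_one hlt.1, if_neg (by omega), sub_zero] at h
    · exact ent_of_le (by omega))
  have hdiag : ∀ i, 1 ≤ i → i + 1 < w → ent (τ : M2 p w) i i = 1 := fun i h1 h2 => by
    have h := hm i i (by omega) (by omega)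
    rwa [ent_sub, ent_one (by omega), if_pos rfl, sub_eq_zero] at h
  set q := τ * x * τ⁻¹ with hq
  have hqX : q ∈ X := X.mul_mem (X.mul_mem (hKX hτK) hxX) (X.inv_mem (hKX hτK))
  have hqU : q ∈ Uni p w := conj_mem_Uni hl (uni_shift hx)
  have hrel : (τ : M2 p w) * shiftN (ZMod p) w = ((q : M2 p w) - 1) * (τ : M2 p w) := by
    rw [sub_mul, one_mul, ← Units.val_mul, hq, inv_mul_cancel_right, Units.val_mul, hx, mul_add, mul_one]
    abel
  have hstep : ∀ i, i + 2 < w →
      ent (τ : M2 p w) (i + 1) (i + 1) = ent (q : M2 p w) 1 0 * ent (τ : M2 p w) i i := by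
    intro i hi
    have h2 := congrArg (fun C => ent C (i + 1) i) hrel
    have h3 := ent_mul_top (i := i) (e := 1) (f := 0) (deg_unit_sub_one hqU) (by simpa using mem_Low.1 hl)
    simp only [Nat.add_zero] at h3
    rw [ent_mul_shiftN (by omega) (by omega), h3, ent_sub, ent_one (by omega), if_neg (by omega), sub_zero,
      hconst q hqX hqU i hi] at h2
    exact h2
  have hc1 : ent (q : M2 p w) 1 0 = 1 := by
    have h := hstep 1 (by omega)
    rw [hdiag 2 (by omega) (by omega), hdiag 1 le_rfl (by omega), mul_one] at h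
    exact h.symm
  have h00 : ent (τ : M2 p w) 0 0 = 1 := by
    have h := hstep 0 (by omega)
    rw [hdiag 1 le_rfl (by omega), hc1, one_mul] at h
    exact h.symm
  have htop : ent ((s : M2 p w) - 1) (w - 1) 0 ≠ 0 := fun h0 => hs1 (by
    refine eq_one_of_Dg (h := w - 1 + 1) (deg_succ (mem_Dg.1 hs) fun i => ?_) (by omega)
    rcases Nat.eq_zero_or_pos i with rfl | hi
    · rwa [zero_add]
    · exact ent_of_le (Or.inl (by omega)))
  have hlast : ent (τ : M2 p w) (w - 1) (w - 1) = 1 := by
    have h := congrArg (fun C => ent C (w - 1) 0) (commute_sub_one (s := s) (hτc s hsK).symm)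
    have e1 := ent_mul_top (i := 0) (e := 0) (f := w - 1) (by simpa using mem_Low.1 hl) (mem_Dg.1 hs)
    have e2 := ent_mul_top (i := 0) (e := w - 1) (f := 0) (mem_Dg.1 hs) (by simpa using mem_Low.1 hl)
    simp only [zero_add, Nat.add_zero] at e1 e2
    rw [e1, e2, h00, mul_one] at h
    exact mul_right_cancel₀ htop (by rw [one_mul]; exact h)
  refine hτ1 (eq_one_of_invol_uni (by omega) (by omega) hτ2 ((mem_Uni_iff_diag hl).2 fun i hi => ?_))
  rcases Nat.eq_zero_or_pos i with rfl | hi0
  · exact h00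
  rcases Nat.lt_or_ge (i + 1) w with h | h
  · exact hdiag i hi0 h
  · rw [show i = w - 1 by omega]; exact hlast

end CfsgLib.RegUnip
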