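import Cfsg.Agent.Lib.RegUnip.Tri
import Mathlib.Algebra.Field.ZMod
import Mathlib.GroupTheory.Sylow
import Mathlib.FieldTheory.Finite.Basic
import Mathlib.LinearAlgebra.Matrix.CharP
import Mathlib.RingTheory.Nilpotent.Basic

/-!
# Groups of matrices, the flag of the shift, invariant steps
-/

set_option autoImplicit false

set_option linter.style.haveILetI false

open Finset
open scoped Classical

namespace CfsgLib.RegUnip

/-- The square matrices over the prime field. -/
abbrev M2 (p w : ℕ) := Matrix (Fin w) (Fin w) (ZMod p)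

/-- The invertible matrices. -/
abbrev GLw (p w : ℕ) := (M2 p w)ˣ

/-- A finite submonoid of a group is a subgroup. -/
def subgroupOfFinite {G : Type*} [Group G] [Finite G] (s : Set G) (h1 : (1 : G) ∈ s)
    (hm : ∀ {a b}, a ∈ s → b ∈ s → a * b ∈ s) : Subgroup G where
  carrier := s
  one_mem' := h1
  mul_mem' := hm
  inv_mem' {a} ha := by
    have hp : ∀ n : ℕ, a ^ n ∈ s := by
      intro n
      induction n with
      | zero => simpa using h1
      | succ n ih => rw [pow_succ]; exact hm ih ha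
    have : a⁻¹ = a ^ (orderOf a - 1) := by
      rw [inv_eq_iff_mul_eq_one, ← pow_succ', Nat.sub_add_cancel (orderOf_pos a), pow_orderOf_eq_one]
    rw [this]
    exact hp _

variable {p w : ℕ} [Fact p.Prime]

/-- The step `a` of the flag is invariant. -/
def Inv (g : M2 p w) (a : ℕ) : Prop := ∀ i j, i < a → a ≤ j → ent g i j = 0

theorem inv_one (a : ℕ) : Inv (1 : M2 p w) a := fun i j hi hj => by
  by_cases h : i < w
  · rw [ent_one h, if_neg (by omega)]
  · exact ent_of_le (Or.inl (by omega))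

theorem Inv.mul {g h : M2 p w} {a : ℕ} (hg : Inv g a) (hh : Inv h a) : Inv (g * h) a :=
  fun i j hi hj => by
    by_cases hw : i < w
    · rw [ent_mul hw]
      refine Finset.sum_eq_zero fun k _ => ?_
      by_cases hk : (k : ℕ) < a
      · rw [hh k j hk hj, mul_zero]
      · rw [hg i k hi (by omega), zero_mul]
    · exact ent_of_le (Or.inl (by omega))

/-- The stabiliser of a step. -/
def St (p w : ℕ) [Fact p.Prime] (a : ℕ) : Subgroup (GLw p w) :=
  subgroupOfFinite {g | Inv (g : M2 p w) a} (by simpa using inv_one a) fun ha hb => by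
    simpa using Inv.mul ha hb

theorem mem_St {a : ℕ} {g : GLw p w} : g ∈ St p w a ↔ Inv (g : M2 p w) a := Iff.rfl

theorem deg_zero_iff {g : M2 p w} : Deg (dg w) (dg w) g 0 ↔ ∀ a, Inv g a := by
  rw [deg_iff]
  refine ⟨fun h a i j hi hj => h i j (by omega), fun h i j hij => h (i + 1) i j (by omega) (by omega)⟩

/-- Lower triangular matrices. -/
def Low (p w : ℕ) [Fact p.Prime] : Subgroup (GLw p w) :=
  subgroupOfFinite {g | Deg (dg w) (dg w) (g : M2 p w) 0} (by simpa using deg_one)
    fun ha hb => by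
      rw [Set.mem_ofPred_eq, Units.val_mul]
      exact Deg.mul' ha hb (by simp)

theorem mem_Low {g : GLw p w} : g ∈ Low p w ↔ Deg (dg w) (dg w) (g : M2 p w) 0 := Iff.rfl

/-- Unipotent lower triangular matrices. -/
def Uni (p w : ℕ) [Fact p.Prime] : Subgroup (GLw p w) :=
  subgroupOfFinite {g | Deg (dg w) (dg w) ((g : M2 p w) - 1) 1} (by simpa using deg_zero)
    fun {a b} ha hb => by
      rw [Set.mem_ofPred_eq, Units.val_mul,
        show (a : M2 p w) * b - 1 = ((a : M2 p w) - 1) * ((b : M2 p w) - 1) + ((a : M2 p w) - 1)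
          + ((b : M2 p w) - 1) by rw [sub_mul, mul_sub, mul_sub, one_mul, mul_one, mul_one]; abel]
      exact ((Deg.mul' ha hb (by norm_num)).add ha).add hb

theorem mem_Uni {g : GLw p w} : g ∈ Uni p w ↔ Deg (dg w) (dg w) ((g : M2 p w) - 1) 1 := Iff.rfl

theorem uni_le_low : Uni p w ≤ Low p w := fun g hg => by
  have := Deg.add (Deg.mono hg (show (0 : ℤ) ≤ 1 by norm_num)) (deg_one (di := dg w))
  simpa [mem_Low] using this

theorem isPGroup_uni : IsPGroup p (Uni p w) := by
  intro g
  refine ⟨w, Subtype.ext (Units.ext ?_)⟩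
  simp only [SubgroupClass.coe_pow, Units.val_pow_eq_pow_val, OneMemClass.coe_one, Units.val_one]
  rcases Nat.eq_zero_or_pos w with rfl | hw
  · exact Matrix.ext fun i => i.elim0
  haveI : Nonempty (Fin w) := ⟨⟨0, hw⟩⟩
  have h : ((g : GLw p w) : M2 p w) ^ p ^ w - 1 = (((g : GLw p w) : M2 p w) - 1) ^ p ^ w := by
    rw [sub_pow_char_pow_of_commute _ _ (Commute.one_right _), one_pow]
  have h2 := Deg.pow g.2 (p ^ w)
  rw [← h] at h2
  refine sub_eq_zero.1 (eq_zero_of_deg h2 ?_)
  have := Nat.lt_pow_self (n := w) (Fact.out : p.Prime).one_lt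
  push_cast
  rw [mul_one]
  exact_mod_cast this.le

/-- The diagonal is multiplicative on lower triangular matrices. -/
theorem ent_diag_low {g h : GLw p w} (hg : g ∈ Low p w) (hh : h ∈ Low p w) (i : ℕ) :
    ent ((g * h : GLw p w) : M2 p w) i i = ent (g : M2 p w) i i * ent (h : M2 p w) i i := by
  rw [Units.val_mul]
  exact ent_diag_mul hg hh i

theorem mem_Uni_iff_diag {g : GLw p w} (hg : g ∈ Low p w) :
    g ∈ Uni p w ↔ ∀ i < w, ent (g : M2 p w) i i = 1 := by
  rw [mem_Uni]
  constructor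
  · intro h i hi
    have := h.ent_eq (i := i) (j := i) (by norm_num)
    rw [ent_sub, ent_one hi, if_pos rfl, sub_eq_zero] at this
    exact this
  · intro h
    refine deg_iff.2 fun i j hij => ?_
    by_cases hi : i < w
    · rw [ent_sub, ent_one hi]
      rcases eq_or_ne i j with rfl | hne
      · rw [h i hi, if_pos rfl, sub_self]
      · rw [if_neg hne, sub_zero]
        exact Deg.ent_eq hg (by omega)
    · exact ent_of_le (Or.inl (by omega))

theorem diag_ne_zero {g : GLw p w} (hg : g ∈ Low p w) {i : ℕ} (hi : i < w) :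
    ent (g : M2 p w) i i ≠ 0 := fun h0 => by
  have := ent_diag_low hg ((Low p w).inv_mem hg) i
  rw [mul_inv_cancel, Units.val_one, ent_one hi, if_pos rfl, h0, zero_mul] at this
  exact one_ne_zero this

/-- A lower triangular element of `p`-power order is unipotent. -/
theorem mem_Uni_of_pow {g : GLw p w} (hg : g ∈ Low p w) {k : ℕ} (hk : g ^ p ^ k = 1) :
    g ∈ Uni p w := by
  refine (mem_Uni_iff_diag hg).2 fun i hi => ?_
  have hpow : ∀ n : ℕ, ent ((g ^ n : GLw p w) : M2 p w) i i = ent (g : M2 p w) i i ^ n := by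
    intro n
    induction n with
    | zero => rw [pow_zero, pow_zero, Units.val_one, ent_one hi, if_pos rfl]
    | succ n ih => rw [pow_succ, pow_succ, ent_diag_low ((Low p w).pow_mem hg n) hg, ih]
  have h1 := hpow (p ^ k)
  rw [hk, Units.val_one, ent_one hi, if_pos rfl, ZMod.pow_card_pow] at h1
  exact h1.symm

/-- No step of the flag is invariant under `X`. -/
def Irr (X : Subgroup (GLw p w)) : Prop := ∀ a, 0 < a → a < w → ¬ X ≤ St p w a

/-- The matrices killing a shift stable set of columns. -/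
theorem irr_of_kill {X : Subgroup (GLw p w)} (hirr : Irr X) (𝒜 : Set (M2 p w))
    (hne : ∃ A ∈ 𝒜, A ≠ 0) (hlast : ∀ A ∈ 𝒜, ∀ i, ent A i (w - 1) = 0)
    (hshift : ∀ B : M2 p w, (∀ A ∈ 𝒜, A * B = 0) → ∀ A ∈ 𝒜, A * (shiftN (ZMod p) w * B) = 0)
    (hX : ∀ g ∈ X, ∀ B : M2 p w, (∀ A ∈ 𝒜, A * B = 0) → ∀ A ∈ 𝒜, A * ((g : M2 p w) * B) = 0) :
    False := by
  obtain ⟨A₀, hA₀, hA₀0⟩ := hne
  rcases Nat.eq_zero_or_pos w with rfl | hw
  · exact hA₀0 (Matrix.ext fun i => i.elim0)
  have hex : ∃ a, ∀ A ∈ 𝒜, ∀ i j, a ≤ j → ent A i j = 0 :=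
    ⟨w, fun A _ i j hj => ent_of_le (Or.inr hj)⟩
  set a := Nat.find hex with ha
  have hzero : ∀ A ∈ 𝒜, ∀ i j, a ≤ j → ent A i j = 0 := Nat.find_spec hex
  have ha0 : 0 < a := Nat.pos_of_ne_zero fun h0 =>
    hA₀0 (ext_ent fun i j _ _ => by rw [ent_zero]; exact hzero _ hA₀ i j (by omega))
  have haw : a < w := by
    have h1 : a ≤ w - 1 := Nat.find_min' hex fun A hA i j hj => by
      rcases Nat.lt_or_ge j w with hjw | hjw
      · rw [show j = w - 1 by omega]; exact hlast A hA i
      · exact ent_of_le (Or.inr hjw)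
    omega
  refine hirr a ha0 haw fun g hg => mem_St.2 ?_
  -- the projection to the coordinates `≥ a` is killed
  set B₀ : M2 p w := Matrix.of fun i j => if i = j ∧ a ≤ (i : ℕ) then 1 else 0 with hB₀
  have hB₀ent : ∀ i j : ℕ, ent B₀ i j = if i = j ∧ a ≤ i ∧ i < w then 1 else 0 := fun i j => by
    unfold ent
    by_cases h1 : i < w ∧ j < w
    · rw [dif_pos h1, hB₀, Matrix.of_apply]
      exact if_congr ⟨fun h => ⟨congrArg Fin.val h.1, h.2, h1.1⟩,
        fun h => ⟨Fin.ext h.1, h.2.1⟩⟩ rfl rfl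
    · rw [dif_neg h1, if_neg]
      omega
  have hkill : ∀ A ∈ 𝒜, A * B₀ = 0 := fun A hA => ext_ent fun i j hi hj => by
    rw [ent_zero, ent_mul hi]
    refine Finset.sum_eq_zero fun k _ => ?_
    rw [hB₀ent]
    split_ifs with h
    · rw [hzero A hA i k h.2.1, zero_mul]
    · rw [mul_zero]
  set B := (g : M2 p w) * B₀ with hB
  have hBk : ∀ A ∈ 𝒜, A * B = 0 := hX g hg B₀ hkill
  intro i₁ j hi hj
  by_contra hne0
  have hjw : j < w := by
    by_contra h
    exact hne0 (ent_of_le (Or.inr (by omega)))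
  have hBe : ∀ i < w, ent B i j = ent (g : M2 p w) i j := fun i hi' => by
    rw [hB, ent_mul hi', Finset.sum_eq_single (⟨j, hjw⟩ : Fin w)]
    · rw [hB₀ent, if_pos ⟨rfl, hj, hjw⟩, mul_one]
    · intro k _ hk
      rw [hB₀ent, if_neg (fun h => hk (Fin.ext h.1)), mul_zero]
    · exact fun h => absurd (Finset.mem_univ _) h
  -- the first nonzero entry of that column
  have hex2 : ∃ i, i < w ∧ ent B i j ≠ 0 := ⟨i₁, by omega, by rw [hBe i₁ (by omega)]; exact hne0⟩
  set i₀ := Nat.find hex2 with hi₀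
  obtain ⟨hi₀w, hi₀ne⟩ : i₀ < w ∧ ent B i₀ j ≠ 0 := Nat.find_spec hex2
  have hi₀a : i₀ < a :=
    lt_of_le_of_lt (Nat.find_min' hex2 ⟨by omega, by rw [hBe i₁ (by omega)]; exact hne0⟩) hi
  have hlow : ∀ i < i₀, ent B i j = 0 := fun i hi' => by
    by_contra h
    exact Nat.find_min hex2 hi' ⟨by omega, h⟩
  have hpow : ∀ r : ℕ, ∀ A ∈ 𝒜, A * (shiftN (ZMod p) w ^ r * B) = 0 := by
    intro r
    induction r with
    | zero => simpa using hBk
    | succ r ih => rw [pow_succ', Matrix.mul_assoc]; exact hshift _ ih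
  have hcols : ∀ n : ℕ, ∀ r, i₀ + r < w → w - (i₀ + r) ≤ n → ∀ A ∈ 𝒜, ∀ i, ent A i (i₀ + r) = 0 := by
    intro n
    induction n with
    | zero => intro r h1 h2; omega
    | succ n ih =>
      intro r h1 h2 A hA i
      by_cases hi' : i < w
      · have h3 := congrArg (fun C => ent C i j) (hpow r A hA)
        simp only [ent_zero] at h3
        rw [ent_mul hi', Finset.sum_eq_single (⟨i₀ + r, h1⟩ : Fin w)] at h3
        · rw [ent_mul h1, Finset.sum_eq_single (⟨i₀, hi₀w⟩ : Fin w)] at h3
          · rw [ent_shiftN_pow, if_pos ⟨rfl, h1⟩, one_mul] at h3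
            exact (mul_eq_zero.1 h3).resolve_right hi₀ne
          · intro k _ hk
            rw [ent_shiftN_pow, if_neg (fun h => hk (Fin.ext (by simp only; omega))), zero_mul]
          · exact fun h => absurd (Finset.mem_univ _) h
        · intro k _ hk
          have hk' : (k : ℕ) ≠ i₀ + r := fun h => hk (Fin.ext h)
          rcases Nat.lt_or_gt_of_ne hk' with hlt | hgt
          · rw [ent_mul k.2, Finset.sum_eq_zero, mul_zero]
            intro l _
            rw [ent_shiftN_pow]
            split_ifs with h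
            · rw [hlow l (by omega), mul_zero]
            · rw [zero_mul]
          · obtain ⟨r', hr'⟩ : ∃ r', (k : ℕ) = i₀ + r' := ⟨k - i₀, by omega⟩
            rw [hr', ih r' (by omega) (by omega) A hA i, zero_mul]
        · exact fun h => absurd (Finset.mem_univ _) h
      · exact ent_of_le (Or.inl (by omega))
  refine Nat.find_min hex hi₀a fun A hA i k hk => ?_
  rcases Nat.lt_or_ge k w with hkw | hkw
  · obtain ⟨r, rfl⟩ : ∃ r, k = i₀ + r := ⟨k - i₀, by omega⟩
    exact hcols w r hkw (by omega) A hA i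
  · exact ent_of_le (Or.inr hkw)

/-- A nilpotent matrix commuting with the shift is not semi-invariant. -/
theorem irr_semicomm {X : Subgroup (GLw p w)} (hirr : Irr X) {A : M2 p w} (hA0 : A ≠ 0)
    (hA1 : Deg (dg w) (dg w) A 1) (hAN : Commute A (shiftN (ZMod p) w))
    (hsemi : ∀ g ∈ X, ∃ c : ZMod p, A * (g : M2 p w) = c • ((g : M2 p w) * A)) : False := by
  refine irr_of_kill hirr {A} ⟨A, rfl, hA0⟩ (fun B hB i => ?_) (fun B hB C hC => ?_)
    (fun g hg B hB C hC => ?_)
  · rw [Set.mem_singleton_iff] at hB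
    subst hB
    by_cases hi : i < w
    · exact hA1.ent_eq (by omega)
    · exact ent_of_le (Or.inl (by omega))
  · rw [Set.mem_singleton_iff] at hC
    subst hC
    rw [← Matrix.mul_assoc, hAN.eq, Matrix.mul_assoc, hB C rfl, Matrix.mul_zero]
  · rw [Set.mem_singleton_iff] at hC
    subst hC
    obtain ⟨c, hc⟩ := hsemi g hg
    rw [← Matrix.mul_assoc, hc, Matrix.smul_mul, Matrix.mul_assoc, hB C rfl, Matrix.mul_zero, smul_zero]

end CfsgLib.RegUnip
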