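import Cfsg.Agent.Lib.RegUnip.Trace
import Mathlib.GroupTheory.SpecificGroups.Cyclic
import Mathlib.RingTheory.IntegralDomain

/-!
# Torus weights of a graded representation, and eigen averages
-/

set_option autoImplicit false

open Finset
open scoped Classical

namespace CfsgLib.RegUnip

section Tri

variable {ι κ k : Type*} [Field k] [Fintype ι] [Fintype κ] [DecidableEq ι] [DecidableEq κ]
  (di : ι → ℤ) (dj : κ → ℤ)

/-- Triangular for the degree, with diagonal `α aᵈ`. -/
structure Tri (A : Matrix ι ι k) (α a : k) : Prop where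
  off : ∀ i j, di i ≤ di j → i ≠ j → A i j = 0
  diag : ∀ i, A i i = α * a ^ di i

variable {di dj}

theorem Tri.deg {A : Matrix ι ι k} {α a : k} (h : Tri di A α a) : Deg di di A 0 := fun i j hij => by
  refine h.off i j (by omega) ?_
  rintro rfl
  omega

/-- The entries of lowest degree of a conjugate. -/
theorem conj_entry {A : Matrix ι κ k} {B : Matrix ι ι k} {C : Matrix κ κ k} {α β a : k} {e : ℤ}
    (hB : Tri di B α a) (hC : Tri dj C β a⁻¹) (hA : Deg di dj A e) (ha : a ≠ 0) {i : ι} {j : κ}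
    (hij : di i - dj j = e) : (B * A * C) i j = α * β * a ^ e * A i j := by
  rw [Matrix.mul_apply, Finset.sum_eq_single j]
  · rw [Matrix.mul_apply, Finset.sum_eq_single i]
    · rw [hB.diag, hC.diag, inv_zpow', ← hij, zpow_sub₀ ha, zpow_neg]
      ring
    · intro u _ hu
      by_cases h : di i ≤ di u
      · rw [hB.off i u h (Ne.symm hu), zero_mul]
      · rw [hA u j (by omega), mul_zero]
    · exact fun h => absurd (Finset.mem_univ _) h
  · intro v _ hv
    by_cases h : dj v ≤ dj j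
    · rw [hC.off v j h hv, mul_zero]
    · rw [Matrix.mul_apply, Finset.sum_eq_zero, zero_mul]
      intro u _
      by_cases h' : di i ≤ di u
      · by_cases hu : i = u
        · subst hu
          rw [hA i v (by omega), mul_zero]
        · rw [hB.off i u h' hu, zero_mul]
      · rw [hA u v (by omega), mul_zero]
  · exact fun h => absurd (Finset.mem_univ _) h

end Tri

section Climb

variable {ι κ k : Type*} [Field k] [Fintype ι] [Fintype κ] [DecidableEq ι] [DecidableEq κ]
  {X : Type*} [Group X] {ρ₁ : X →* Matrix ι ι k} {ρ₂ : X →* Matrix κ κ k} {χ : X →* k}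
  {di : ι → ℤ} {dj : κ → ℤ} {H : Subgroup X}

variable (ρ₁ ρ₂ χ di dj H) in
/-- The subgroup `H` acts on the entries of degree `e` by `aᵉ`. -/
def Weights (a : X → k) : Prop :=
  ∀ h ∈ H, a h ≠ 0 ∧ ∃ α β : k, χ h * α * β = 1 ∧ Tri di (ρ₁ h) α (a h) ∧
    Tri dj (ρ₂ h⁻¹) β (a h)⁻¹

/-- A fixed matrix has no entries of a degree with nontrivial weight. -/
theorem climb {a : X → k} (hW : Weights ρ₁ ρ₂ χ di dj H a) {A : Matrix ι κ k} {e : ℤ}
    (hA : Deg di dj A e) (hfix : ∀ h ∈ H, conjRep ρ₁ ρ₂ χ h A = A) (hex : ∃ h ∈ H, a h ^ e ≠ 1) :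
    Deg di dj A (e + 1) := by
  intro i j hij
  by_cases hlt : di i - dj j < e
  · exact hA i j hlt
  obtain ⟨h, hh, hne⟩ := hex
  obtain ⟨ha, α, β, hχ, hB, hC⟩ := hW h hh
  have h1 := congrFun (congrFun (hfix h hh) i) j
  rw [conjRep_apply, Matrix.smul_apply, conj_entry hB hC hA ha (show di i - dj j = e by omega),
    smul_eq_mul, ← mul_assoc, ← mul_assoc, ← mul_assoc, hχ, one_mul] at h1
  by_contra hA0
  exact hne (mul_right_cancel₀ hA0 (h1.trans (one_mul _).symm))

theorem climb_to {a : X → k} (hW : Weights ρ₁ ρ₂ χ di dj H a) {A : Matrix ι κ k} {e f : ℤ}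
    (hA : Deg di dj A e) (hfix : ∀ h ∈ H, conjRep ρ₁ ρ₂ χ h A = A)
    (hex : ∀ z, e ≤ z → z < f → ∃ h ∈ H, a h ^ z ≠ 1) : Deg di dj A f := by
  suffices key : ∀ n : ℕ, e + n ≤ f → Deg di dj A (e + n) by
    by_cases h : e ≤ f
    · have := key (f - e).toNat (by omega)
      rwa [show e + ((f - e).toNat : ℤ) = f by omega] at this
    · exact hA.mono (by omega)
  intro n
  induction n with
  | zero => intro; simpa using hA
  | succ n ih =>
    intro hn
    have := climb hW (ih (by push_cast at hn; omega)) hfix (hex _ (by omega) (by push_cast at hn; omega))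
    rwa [show e + ((n + 1 : ℕ) : ℤ) = e + (n : ℤ) + 1 by push_cast; ring]

end Climb

section Order

/-- The order of the group of values of a homomorphism into units. -/
noncomputable def valOrd {H K : Type*} [Group H] [Monoid K] (a : H →* Kˣ) : ℕ := Nat.card a.range

theorem valOrd_dvd {H K : Type*} [Group H] [Monoid K] (a : H →* Kˣ) {n : ℕ}
    (h : Nat.card Kˣ ∣ n) : valOrd a ∣ n :=
  (Subgroup.card_subgroup_dvd_card a.range).trans h

theorem forall_zpow_iff {H K : Type*} [Group H] [Field K] [Finite K] (a : H →* Kˣ) (z : ℤ) :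
    (∀ h, a h ^ z = 1) ↔ (valOrd a : ℤ) ∣ z := by
  obtain ⟨⟨g, hg⟩, hgen⟩ := IsCyclic.exists_generator (α := a.range)
  have ho : valOrd a = orderOf (⟨g, hg⟩ : a.range) := (orderOf_eq_card_of_forall_mem_zpowers hgen).symm
  rw [ho, orderOf_dvd_iff_zpow_eq_one]
  obtain ⟨h0, rfl⟩ := hg
  constructor
  · intro h
    exact Subtype.ext (by simpa using h h0)
  · intro h x
    obtain ⟨n, hn⟩ := Subgroup.mem_zpowers_iff.1 (hgen ⟨a x, x, rfl⟩)
    have h2 : a h0 ^ z = 1 := by simpa using congrArg Subtype.val h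
    rw [show a x = a h0 ^ n by simpa using (congrArg Subtype.val hn).symm, ← zpow_mul, mul_comm,
      zpow_mul, h2, one_zpow]

end Order

section Avg

variable {ι κ : Type*} [Fintype ι] [Fintype κ] [DecidableEq ι] [DecidableEq κ] {p : ℕ}
  [Fact p.Prime] {X : Type*} [Group X] [Finite X]
  {ρ₁ : X →* Matrix ι ι (ZMod p)} {ρ₂ : X →* Matrix κ κ (ZMod p)} {χ : X →* ZMod p}
  {di : ι → ℤ} {dj : κ → ℤ}

/-- Averaging an eigen matrix modulo higher degree into an eigen matrix. -/
theorem exists_avg {Q : Subgroup X} (hidx : ¬ p ∣ Q.index) {P₀ : Matrix ι κ (ZMod p)} {f : ℤ}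
    (hQ : ∀ q ∈ Q, conjRep ρ₁ ρ₂ χ q P₀ = P₀)
    (happ : ∀ h, Deg di dj (conjRep ρ₁ ρ₂ χ h P₀ - P₀) f) :
    ∃ P, (∀ g, conjRep ρ₁ ρ₂ χ g P = P) ∧ Deg di dj (P - P₀) f ∧
      P ∈ Submodule.span (ZMod p) (Set.range fun g => conjRep ρ₁ ρ₂ χ g P₀) := by
  haveI : Fintype (X ⧸ Q) := Fintype.ofFinite _
  set n : ZMod p := (Q.index : ZMod p) with hn
  have hn0 : n ≠ 0 := by rwa [hn, Ne, ZMod.natCast_eq_zero_iff]
  refine ⟨n⁻¹ • ∑ c : X ⧸ Q, conjRep ρ₁ ρ₂ χ c.out P₀, fun g => ?_, ?_, ?_⟩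
  · rw [map_smul, act_sum_out _ hQ]
  · have h1 : P₀ = n⁻¹ • ∑ _c : X ⧸ Q, P₀ := by
      rw [Finset.sum_const, Finset.card_univ, ← Nat.card_eq_fintype_card, ← Subgroup.index_eq_card,
        ← Nat.cast_smul_eq_nsmul (ZMod p), smul_smul, ← hn, inv_mul_cancel₀ hn0, one_smul]
    conv => arg 3; arg 2; rw [h1]
    rw [← smul_sub, ← Finset.sum_sub_distrib]
    exact (Deg.sum fun c _ => happ _).smul _
  · exact Submodule.smul_mem _ _ (Submodule.sum_mem _ fun c _ => Submodule.subset_span ⟨_, rfl⟩)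

end Avg

end CfsgLib.RegUnip
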