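import Cfsg.Agent.Lib.RegUnip.Flag
import Cfsg.Agent.Lib.RegUnip.Climb

/-!
# A regular unipotent element in a Sylow subgroup
-/

set_option autoImplicit false
set_option linter.style.haveILetI false

open Finset
open scoped Classical

namespace CfsgLib.RegUnip

variable {p w : ℕ} [Fact p.Prime]

theorem deg_unit_sub_one {g : GLw p w} (hg : g ∈ Uni p w) :
    Deg (dg w) (dg w) ((g : M2 p w) - 1) ((1 : ℕ) : ℤ) := by simpa using mem_Uni.1 hg

theorem ent_mul_sub {g h : GLw p w} (hg : g ∈ Uni p w) (hh : h ∈ Uni p w) (i : ℕ) :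
    ent ((g * h : GLw p w) : M2 p w) (i + 1) i
      = ent (g : M2 p w) (i + 1) i + ent (h : M2 p w) (i + 1) i := by
  by_cases hi : i + 1 < w
  · have e : ((g * h : GLw p w) : M2 p w) = 1 + ((g : M2 p w) - 1) * ((h : M2 p w) - 1)
        + ((g : M2 p w) - 1) + ((h : M2 p w) - 1) := by
      rw [Units.val_mul, sub_mul, mul_sub, mul_sub, one_mul, mul_one, mul_one]; abel
    have h0 : ent (((g : M2 p w) - 1) * ((h : M2 p w) - 1)) (i + 1) i = 0 :=
      (Deg.mul (mem_Uni.1 hg) (mem_Uni.1 hh)).ent_eq (by push_cast; omega)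
    rw [e, ent_add, ent_add, ent_add, h0, ent_sub, ent_sub, ent_one hi, if_neg (by omega)]
    ring
  · rw [ent_of_le (Or.inl (by omega)), ent_of_le (A := (g : M2 p w)) (Or.inl (by omega)),
      ent_of_le (A := (h : M2 p w)) (Or.inl (by omega)), add_zero]

theorem conj_mem_Uni {g h : GLw p w} (hg : g ∈ Low p w) (hh : h ∈ Uni p w) :
    g * h * g⁻¹ ∈ Uni p w := by
  rw [mem_Uni, show ((g * h * g⁻¹ : GLw p w) : M2 p w) - 1
      = (g : M2 p w) * ((h : M2 p w) - 1) * ((g⁻¹ : GLw p w) : M2 p w) by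
    rw [Units.val_mul, Units.val_mul, mul_sub, sub_mul, mul_one, ← Units.val_mul g g⁻¹,
      mul_inv_cancel, Units.val_one]]
  exact Deg.mul' (Deg.mul (mem_Low.1 hg) (mem_Uni.1 hh)) (mem_Low.1 ((Low p w).inv_mem hg))
    (by norm_num)

theorem ent_pow_sub {q : GLw p w} (hq : q ∈ Uni p w) {c : ZMod p}
    (hc : ∀ i, i + 1 < w → ent (q : M2 p w) (i + 1) i = c) :
    ∀ (a i : ℕ), i + a < w → ent (((q : M2 p w) - 1) ^ a) (i + a) i = c ^ a := by
  intro a
  induction a with
  | zero => intro i hi; rw [pow_zero, pow_zero, Nat.add_zero, ent_one (by omega), if_pos rfl]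
  | succ a ih =>
    intro i hi
    rw [pow_succ, show i + (a + 1) = i + a + 1 by ring,
      ent_mul_top (by simpa using Deg.pow (mem_Uni.1 hq) a) (deg_unit_sub_one hq),
      show i + a + 1 = (i + 1) + a by ring, ih (i + 1) (by omega), ent_sub, ent_one (by omega),
      if_neg (by omega), sub_zero, hc i (by omega), pow_succ]

/-- A left intertwiner with constant top entries leaves the rows of low degree. -/
theorem inv_of_intertwine {g A B : M2 p w} {e : ℕ} {c : ZMod p} (hA : Deg (dg w) (dg w) A e)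
    (hB : Deg (dg w) (dg w) B e) (hc : ∀ i, i + e < w → ent B (i + e) i = c) (hc0 : c ≠ 0)
    (h : g * B = A * g) : Inv g e := by
  intro i j hi hj
  by_cases hlt : i < w ∧ j < w
  · have hrow : ∀ k, ent (g * B) i k = 0 := fun k => by
      rw [h, ent_mul hlt.1]
      exact Finset.sum_eq_zero fun l _ => by rw [hA.ent_eq (by omega), zero_mul]
    have hind : ∀ n k, k < w → w - k ≤ n → e ≤ k → ent g i k = 0 := by
      intro n
      induction n with
      | zero => intro k h1 h2; omega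
      | succ n ih =>
        intro k h1 h2 h3
        have h4 := hrow (k - e)
        rw [ent_mul hlt.1, Finset.sum_eq_single (⟨k, h1⟩ : Fin w)] at h4
        · have h5 := hc (k - e) (by omega)
          rw [Nat.sub_add_cancel h3] at h5
          rw [h5] at h4
          exact (mul_eq_zero.1 h4).resolve_right hc0
        · intro l _ hl
          have hl' : (l : ℕ) ≠ k := fun h => hl (Fin.ext h)
          rcases Nat.lt_or_gt_of_ne hl' with h6 | h6
          · rw [hB.ent_eq (by omega), mul_zero]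
          · rw [ih l l.2 (by omega) (by omega), zero_mul]
        · exact fun h => absurd (Finset.mem_univ _) h
    exact hind w j hlt.2 (by omega) hj
  · exact ent_of_le (by omega)

/-- A right intertwiner with constant top entries leaves the columns of high degree. -/
theorem inv_of_intertwine' {g A B : M2 p w} {e : ℕ} {c : ZMod p} (hA : Deg (dg w) (dg w) A e)
    (hB : Deg (dg w) (dg w) B e) (hc : ∀ i, i + e < w → ent A (i + e) i = c) (hc0 : c ≠ 0)
    (h : g * B = A * g) : Inv g (w - e) := by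
  intro i j hi hj
  by_cases hlt : i < w ∧ j < w
  · have hcol : ∀ k, k < w → ent (A * g) k j = 0 := fun k hk => by
      rw [← h, ent_mul hk]
      exact Finset.sum_eq_zero fun l _ => by rw [hB.ent_eq (by omega), mul_zero]
    induction i using Nat.strong_induction_on with
    | _ l ih =>
      have h4 := hcol (l + e) (by omega)
      rw [ent_mul (show l + e < w by omega), Finset.sum_eq_single (⟨l, hlt.1⟩ : Fin w)] at h4
      · rw [hc l (by omega)] at h4
        exact (mul_eq_zero.1 h4).resolve_left hc0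
      · intro k _ hk
        have hk' : (k : ℕ) ≠ l := fun h => hk (Fin.ext h)
        rcases Nat.lt_or_gt_of_ne hk' with h6 | h6
        · rw [ih k h6 (by omega) ⟨k.2, hlt.2⟩, mul_zero]
        · rw [hA.ent_eq (by omega), zero_mul]
      · exact fun h => absurd (Finset.mem_univ _) h
  · exact ent_of_le (by omega)

/-- An element moving a regular unipotent element to a unipotent element is triangular. -/
theorem low_of_conj_regular {g r : GLw p w} (hr : r ∈ Uni p w) {c : ZMod p}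
    (hc : ∀ i, i + 1 < w → ent (r : M2 p w) (i + 1) i = c) (hc0 : c ≠ 0)
    (h : g * r * g⁻¹ ∈ Uni p w) : g ∈ Low p w := by
  set D := ((g * r * g⁻¹ : GLw p w) : M2 p w) - 1 with hD
  have h1 : (g : M2 p w) * ((r : M2 p w) - 1) = D * (g : M2 p w) := by
    rw [hD, sub_mul, one_mul, ← Units.val_mul (g * r * g⁻¹), inv_mul_cancel_right, Units.val_mul,
      mul_sub, mul_one]
  refine mem_Low.2 (deg_zero_iff.2 fun a => ?_)
  refine inv_of_intertwine (A := D ^ a) (B := ((r : M2 p w) - 1) ^ a) (c := c ^ a)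
    (by rw [hD]; simpa using Deg.pow (mem_Uni.1 h) a) (by simpa using Deg.pow (mem_Uni.1 hr) a)
    (fun i hi => ent_pow_sub hr hc a i hi) (pow_ne_zero _ hc0) ?_
  exact (SemiconjBy.pow_right (show SemiconjBy (g : M2 p w) ((r : M2 p w) - 1) D from h1) a).eq

theorem ent_one_shift {x : GLw p w} (hx : (x : M2 p w) = 1 + shiftN (ZMod p) w) (i : ℕ)
    (hi : i + 1 < w) : ent (x : M2 p w) (i + 1) i = 1 := by
  rw [hx, ent_add, ent_one hi, if_neg (by omega), ent_shiftN, if_pos ⟨rfl, hi⟩, zero_add]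

theorem uni_shift {x : GLw p w} (hx : (x : M2 p w) = 1 + shiftN (ZMod p) w) : x ∈ Uni p w :=
  mem_Uni.2 (by rw [hx, add_sub_cancel_left]; exact deg_shiftN)

/-- An element moving the shift to a unipotent element is triangular. -/
theorem low_of_conj {g x : GLw p w} (hx : (x : M2 p w) = 1 + shiftN (ZMod p) w)
    (h : g * x * g⁻¹ ∈ Uni p w) : g ∈ Low p w :=
  low_of_conj_regular (uni_shift hx) (ent_one_shift hx) one_ne_zero h

/-- An element centralizing a regular unipotent element is triangular. -/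
theorem low_of_commute {g r : GLw p w} (hr : r ∈ Uni p w) {c : ZMod p}
    (hc : ∀ i, i + 1 < w → ent (r : M2 p w) (i + 1) i = c) (hc0 : c ≠ 0) (h : g * r = r * g) :
    g ∈ Low p w :=
  low_of_conj_regular hr hc hc0 (by rwa [h, mul_inv_cancel_right])

/-- The hypotheses: a Sylow subgroup made of unipotent matrices with constant first subdiagonal
that contains `1 + shift`, with small centralizer of that element. -/
structure Reg (X Q : Subgroup (GLw p w)) : Prop where
  le : Q ≤ X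
  isP : IsPGroup p Q
  sylow : ¬ p ∣ Q.relIndex X
  uni : Q ≤ Uni p w
  const : ∀ q ∈ Q, ∀ i, i + 1 < w → ent (q : M2 p w) (i + 1) i = ent (q : M2 p w) 1 0
  shift : ∃ x ∈ Q, (x : M2 p w) = 1 + shiftN (ZMod p) w
  cyc : ∀ γ ∈ Q, ∀ δ ∈ Q, ent (γ : M2 p w) 1 0 = 0 → ent (δ : M2 p w) 1 0 = 0 →
    Commute (γ : M2 p w) (shiftN (ZMod p) w) → Commute (δ : M2 p w) (shiftN (ZMod p) w) →
    γ ≠ 1 → δ ∈ Subgroup.zpowers γ

variable {X Q : Subgroup (GLw p w)}

theorem Reg.eq_inf (h : Reg X Q) : Q = X ⊓ Uni p w := by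
  refine le_antisymm (le_inf h.le h.uni) fun g hg => ?_
  obtain ⟨hgX, hgU⟩ := Subgroup.mem_inf.1 hg
  have hP : IsPGroup p ↥(X ⊓ Uni p w) := isPGroup_uni.to_le inf_le_right
  obtain ⟨m, hm⟩ := hP.exists_card_eq
  have h2 : Q.relIndex (X ⊓ Uni p w) = 1 := by
    obtain ⟨e, -, he⟩ := (Nat.dvd_prime_pow (Fact.out : p.Prime)).1
      (hm ▸ Subgroup.relIndex_dvd_card Q (X ⊓ Uni p w))
    rcases Nat.eq_zero_or_pos e with he0 | he0
    · rw [he, he0, pow_zero]
    · refine absurd (dvd_trans ?_ (Dvd.intro _ (Subgroup.relIndex_mul_relIndex Q (X ⊓ Uni p w) X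
        (le_inf h.le h.uni) inf_le_left))) h.sylow
      rw [he]
      exact dvd_pow_self p (by omega)
  exact Subgroup.relIndex_eq_one.1 h2 hg

theorem Reg.mem_iff (h : Reg X Q) {g : GLw p w} : g ∈ Q ↔ g ∈ X ∧ g ∈ Uni p w := by
  rw [h.eq_inf, Subgroup.mem_inf]

theorem Reg.mem_of_low (h : Reg X Q) {g : GLw p w} (hg : g ∈ X) (hl : g ∈ Low p w) {k : ℕ}
    (hk : g ^ p ^ k = 1) : g ∈ Q := h.mem_iff.2 ⟨hg, mem_Uni_of_pow hl hk⟩

theorem Reg.conj_mem (h : Reg X Q) {g q : GLw p w} (hg : g ∈ X) (hl : g ∈ Low p w) (hq : q ∈ Q) :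
    g * q * g⁻¹ ∈ Q :=
  h.mem_iff.2 ⟨X.mul_mem (X.mul_mem hg (h.le hq)) (X.inv_mem hg), conj_mem_Uni hl (h.uni hq)⟩

/-- The elements with trivial first subdiagonal. -/
def Gam (Q : Subgroup (GLw p w)) : Subgroup (GLw p w) :=
  subgroupOfFinite {q | q ∈ Q ⊓ Uni p w ∧ ent (q : M2 p w) 1 0 = 0}
    ⟨one_mem _, by
      by_cases hw : 1 < w
      · rw [Units.val_one, ent_one hw, if_neg one_ne_zero]
      · exact ent_of_le (Or.inl (by omega))⟩
    fun {a b} ha hb => ⟨Subgroup.mul_mem _ ha.1 hb.1, by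
      rw [ent_mul_sub (Subgroup.mem_inf.1 ha.1).2 (Subgroup.mem_inf.1 hb.1).2 0, zero_add, ha.2, hb.2,
        add_zero]⟩

theorem Reg.mem_Gam (h : Reg X Q) {q : GLw p w} :
    q ∈ Gam Q ↔ q ∈ Q ∧ ent (q : M2 p w) 1 0 = 0 :=
  ⟨fun hq => ⟨(Subgroup.mem_inf.1 hq.1).1, hq.2⟩,
    fun hq => ⟨Subgroup.mem_inf.2 ⟨hq.1, h.uni hq.1⟩, hq.2⟩⟩

theorem Reg.gam_deg (h : Reg X Q) {q : GLw p w} (hq : q ∈ Gam Q) :
    Deg (dg w) (dg w) ((q : M2 p w) - 1) ((2 : ℕ) : ℤ) := by
  obtain ⟨hqQ, hq0⟩ := h.mem_Gam.1 hq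
  refine deg_succ (deg_unit_sub_one (h.uni hqQ)) fun i => ?_
  by_cases hi : i + 1 < w
  · rw [ent_sub, ent_one hi, if_neg (by omega), sub_zero, h.const q hqQ i hi, hq0]
  · exact ent_of_le (Or.inl (by omega))

theorem Reg.ent_conj (h : Reg X Q) {q g : GLw p w} (hq : q ∈ Q) (hg : g ∈ Q) :
    ent ((q * g * q⁻¹ : GLw p w) : M2 p w) 1 0 = ent (g : M2 p w) 1 0 := by
  have h1 := ent_mul_sub (h.uni hq) (h.uni (Q.inv_mem hq)) 0
  rw [ent_mul_sub (h.uni (Q.mul_mem hq hg)) (h.uni (Q.inv_mem hq)) 0, ent_mul_sub (h.uni hq) (h.uni hg) 0]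
  rw [mul_inv_cancel, Units.val_one] at h1
  by_cases hw : 0 + 1 < w
  · rw [ent_one hw, if_neg (by omega)] at h1
    linear_combination -h1
  · rw [ent_of_le (Or.inl (by omega)), ent_of_le (A := ((q⁻¹ : GLw p w) : M2 p w)) (Or.inl (by omega)),
      add_zero, zero_add]

theorem Reg.commute_shift (h : Reg X Q) {g x : GLw p w} (hx : (x : M2 p w) = 1 + shiftN (ZMod p) w) :
    Commute (g : M2 p w) (shiftN (ZMod p) w) ↔ g * x = x * g := by
  constructor
  · intro hc
    exact Units.ext (by rw [Units.val_mul, Units.val_mul, hx]; exact (Commute.one_right _).add_right hc)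
  · intro hc
    have h1 := congrArg Units.val hc
    rw [Units.val_mul, Units.val_mul, hx, mul_add, add_mul, mul_one, one_mul] at h1
    exact add_left_cancel h1

/-- A central element of the part with trivial first subdiagonal. -/
theorem Reg.exists_central (h : Reg X Q) (hne : Gam Q ≠ ⊥) :
    ∃ s ∈ Gam Q, s ≠ 1 ∧ ∀ q ∈ Q, q * s = s * q := by
  haveI : Fintype (Gam Q) := Fintype.ofFinite _
  let act : MulAction Q (Gam Q) :=
    { smul := fun q g => ⟨(q : GLw p w) * g * (q : GLw p w)⁻¹, h.mem_Gam.2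
        ⟨Q.mul_mem (Q.mul_mem q.2 (h.mem_Gam.1 g.2).1) (Q.inv_mem q.2),
          (h.ent_conj q.2 (h.mem_Gam.1 g.2).1).trans (h.mem_Gam.1 g.2).2⟩⟩
      one_smul := fun g => Subtype.ext (by show (1 : GLw p w) * g * (1 : GLw p w)⁻¹ = g; simp)
      mul_smul := fun a b g => Subtype.ext (by
        show (a * b : GLw p w) * g * (a * b : GLw p w)⁻¹ = a * (b * g * (b : GLw p w)⁻¹) * (a : GLw p w)⁻¹
        simp [mul_assoc]) }
  letI := act
  have hfix : ∀ q : Q, q • (1 : Gam Q) = 1 := fun q => Subtype.ext (by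
    show (q : GLw p w) * 1 * (q : GLw p w)⁻¹ = 1
    simp)
  have hdvd : p ∣ Nat.card (Gam Q) := by
    have hP : IsPGroup p (Gam Q) := h.isP.to_le fun g hg => (h.mem_Gam.1 hg).1
    obtain ⟨m, hm⟩ := hP.exists_card_eq
    rw [hm]
    refine dvd_pow_self p fun hm0 => hne (Subgroup.eq_bot_of_card_eq _ (by rw [hm, hm0, pow_zero]))
  obtain ⟨b, hb, hb1⟩ := h.isP.exists_fixed_point_of_prime_dvd_card_of_fixed_point (Gam Q) hdvd
    (a := 1) (MulAction.mem_fixedPoints.2 hfix)
  refine ⟨b, b.2, fun hb0 => hb1 (Subtype.ext hb0.symm), fun q hq => ?_⟩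
  have h1 : (⟨q, hq⟩ : Q) • b = b := hb _
  have h2 : q * (b : GLw p w) * q⁻¹ = b := congrArg Subtype.val h1
  exact mul_inv_eq_iff_eq_mul.1 h2

/-- The central element has order `p` and generates every such centralizing element. -/
theorem Reg.centralizer_le (h : Reg X Q) {x s γ : GLw p w}
    (hx : (x : M2 p w) = 1 + shiftN (ZMod p) w) (hxQ : x ∈ Q) (hs : s ∈ Gam Q) (hs1 : s ≠ 1)
    (hsc : ∀ q ∈ Q, q * s = s * q) (hγ : γ ∈ Gam Q) (hc : γ * x = x * γ) : γ ∈ Subgroup.zpowers s :=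
  h.cyc s (h.mem_Gam.1 hs).1 γ (h.mem_Gam.1 hγ).1 (h.mem_Gam.1 hs).2 (h.mem_Gam.1 hγ).2
    ((h.commute_shift hx).2 (hsc x hxQ).symm) ((h.commute_shift hx).2 hc) hs1

section Torus

/-- The ratio of the first two diagonal entries. -/
noncomputable def ratio (h : GLw p w) : ZMod p :=
  ent (h : M2 p w) 1 1 / ent (h : M2 p w) 0 0

theorem Reg.diag_step (hR : Reg X Q) {g : GLw p w} (hg : g ∈ X) (hl : g ∈ Low p w) {i : ℕ}
    (hi : i < w) : ent (g : M2 p w) i i = ent (g : M2 p w) 0 0 * ratio g ^ i := by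
  obtain ⟨x, hxQ, hx⟩ := hR.shift
  set q := g * x * g⁻¹ with hq
  have hqQ : q ∈ Q := hR.conj_mem hg hl hxQ
  have hD : Deg (dg w) (dg w) ((q : M2 p w) - 1) ((1 : ℕ) : ℤ) := deg_unit_sub_one (hR.uni hqQ)
  have h1 : (g : M2 p w) * shiftN (ZMod p) w = ((q : M2 p w) - 1) * (g : M2 p w) := by
    rw [sub_mul, one_mul, ← Units.val_mul, hq, inv_mul_cancel_right, Units.val_mul, hx, mul_add, mul_one]
    abel
  have hstep : ∀ i, i + 1 < w → ent (g : M2 p w) (i + 1) (i + 1)
      = ent (q : M2 p w) 1 0 * ent (g : M2 p w) i i := by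
    intro i hi'
    have h2 := congrArg (fun C => ent C (i + 1) i) h1
    have h3 := ent_mul_top (i := i) (e := 1) (f := 0) hD (by simpa using mem_Low.1 hl)
    simp only [Nat.add_zero] at h3
    rw [ent_mul_shiftN hi' hi', h3, ent_sub, ent_one hi', if_neg (by omega), sub_zero,
      hR.const q hqQ i hi'] at h2
    exact h2
  induction i with
  | zero => rw [pow_zero, mul_one]
  | succ i ih =>
    have h00 := diag_ne_zero (i := 0) hl (by omega)
    have hr : ratio g = ent (q : M2 p w) 1 0 := by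
      rw [ratio, hstep 0 (by omega), mul_div_assoc, div_self h00, mul_one]
    rw [hstep i hi, ih (by omega), pow_succ, hr]
    ring

theorem Reg.ratio_ne_zero (hR : Reg X Q) (hw : 1 < w) {g : GLw p w} (hg : g ∈ X) (hl : g ∈ Low p w) :
    ratio g ≠ 0 := fun h0 =>
  diag_ne_zero hl hw (by rw [hR.diag_step hg hl hw, h0, pow_one, mul_zero])

theorem Reg.tri (hR : Reg X Q) {g : GLw p w} (hg : g ∈ X) (hl : g ∈ Low p w) :
    Tri (dg w) (g : M2 p w) (ent (g : M2 p w) 0 0) (ratio g) where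
  off i j hij hne := by
    have hlt : (i : ℕ) < j := by
      rcases Nat.lt_or_ge i j with h | h
      · exact h
      · exact absurd (Fin.ext (by simp only [dg] at hij; omega)) hne
    exact (ent_fin (g : M2 p w) i j).symm.trans ((mem_Low.1 hl).ent_eq (by omega))
  diag i := by
    refine (ent_fin (g : M2 p w) i i).symm.trans ?_
    rw [hR.diag_step hg hl i.2]
    simp only [dg, zpow_natCast]

theorem Reg.tri_inv (hR : Reg X Q) (hw : 1 < w) {g : GLw p w} (hg : g ∈ X) (hl : g ∈ Low p w) :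
    Tri (dg w) ((g⁻¹ : GLw p w) : M2 p w) (ent (g : M2 p w) 0 0)⁻¹ (ratio g)⁻¹ := by
  have h := hR.tri (X.inv_mem hg) ((Low p w).inv_mem hl)
  have e : ∀ i < w, ent ((g⁻¹ : GLw p w) : M2 p w) i i = (ent (g : M2 p w) i i)⁻¹ := fun i hi => by
    have h1 := ent_diag_low ((Low p w).inv_mem hl) hl i
    rw [inv_mul_cancel, Units.val_one, ent_one hi, if_pos rfl] at h1
    exact eq_inv_of_mul_eq_one_left h1.symm
  have hr : ratio g⁻¹ = (ratio g)⁻¹ := by
    rw [ratio, ratio, e 1 hw, e 0 (by omega), inv_div_inv, inv_div]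
  rw [← e 0 (by omega), ← hr]
  exact h

/-- The torus character of the triangular part. -/
noncomputable def Reg.torus (hR : Reg X Q) (hw : 1 < w) : ↥(X ⊓ Low p w) →* (ZMod p)ˣ where
  toFun g := Units.mk0 (ratio (g : GLw p w))
    (hR.ratio_ne_zero hw (Subgroup.mem_inf.1 g.2).1 (Subgroup.mem_inf.1 g.2).2)
  map_one' := Units.ext (by
    rw [Units.val_mk0, Units.val_one, ratio, OneMemClass.coe_one, Units.val_one, ent_one hw,
      ent_one (show 0 < w by omega)]
    simp)
  map_mul' g h := Units.ext (by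
    rw [Units.val_mul, Units.val_mk0, Units.val_mk0, Units.val_mk0, Subgroup.coe_mul]
    unfold ratio
    rw [ent_diag_low (Subgroup.mem_inf.1 g.2).2 (Subgroup.mem_inf.1 h.2).2,
      ent_diag_low (Subgroup.mem_inf.1 g.2).2 (Subgroup.mem_inf.1 h.2).2, div_mul_div_comm])

theorem Reg.torus_apply (hR : Reg X Q) (hw : 1 < w) (g : ↥(X ⊓ Low p w)) :
    ((hR.torus hw g : (ZMod p)ˣ) : ZMod p) = ratio (g : GLw p w) := rfl

end Torus

end CfsgLib.RegUnip
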