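import Cfsg.Agent.Lib.RegUnip.Ctr
import Mathlib.RingTheory.Polynomial.Pochhammer
import Mathlib.Algebra.Polynomial.Roots
import Mathlib.Data.Nat.Prime.Factorial

/-!
# The chain below the regular elements
-/

set_option autoImplicit false
set_option linter.style.haveILetI false

open Finset
open scoped Classical

namespace CfsgLib.RegUnip

section ChoosePoly

variable {p : ℕ} [Fact p.Prime]

/-- A combination of few binomial coefficients with many zeros below `p` vanishes. -/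
theorem choose_sum_eq_zero {n : ℕ} (hn : n ≤ p) (a : ℕ → ZMod p) (T : Finset ℕ) (hT : ∀ i ∈ T, i < p)
    (hcard : n ≤ T.card) (hzero : ∀ i ∈ T, ∑ j ∈ Finset.range n, a j * (i.choose j : ZMod p) = 0)
    (i : ℕ) : ∑ j ∈ Finset.range n, a j * (i.choose j : ZMod p) = 0 := by
  set f : Polynomial (ZMod p) := ∑ j ∈ Finset.range n,
    Polynomial.C (a j / (j.factorial : ZMod p)) * descPochhammer (ZMod p) j with hf
  have heval : ∀ i : ℕ, f.eval (i : ZMod p) = ∑ j ∈ Finset.range n, a j * (i.choose j : ZMod p) := by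
    intro i
    rw [hf, Polynomial.eval_finsetSum]
    refine Finset.sum_congr rfl fun j hj => ?_
    have hne : (j.factorial : ZMod p) ≠ 0 := by
      rw [Ne, ZMod.natCast_eq_zero_iff, Nat.Prime.dvd_factorial Fact.out]
      have := Finset.mem_range.1 hj
      omega
    rw [Polynomial.eval_mul, Polynomial.eval_C, descPochhammer_eval_eq_descFactorial,
      Nat.descFactorial_eq_factorial_mul_choose, Nat.cast_mul, div_mul_eq_mul_div, mul_comm (j.factorial : ZMod p),
      ← mul_assoc, mul_div_cancel_right₀ _ hne]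
  rw [← heval]
  suffices f = 0 by rw [this, Polynomial.eval_zero]
  rcases Nat.eq_zero_or_pos n with rfl | hn0
  · simp [hf]
  have hinj : ∀ i ∈ T, ∀ k ∈ T, (i : ZMod p) = (k : ZMod p) → i = k := fun i hi k hk h => by
    have h2 := congrArg ZMod.val h
    rwa [ZMod.val_natCast, ZMod.val_natCast, Nat.mod_eq_of_lt (hT i hi), Nat.mod_eq_of_lt (hT k hk)] at h2
  refine Polynomial.eq_zero_of_natDegree_lt_card_of_eval_eq_zero' f (T.image fun i : ℕ => (i : ZMod p))
    (fun z hz => ?_) ?_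
  · obtain ⟨i, hi, rfl⟩ := Finset.mem_image.1 hz
    rw [heval, hzero i hi]
  · rw [Finset.card_image_of_injOn fun i hi k hk h => hinj i hi k hk h]
    have hdeg : f.natDegree ≤ n - 1 := Polynomial.natDegree_sum_le_of_forall_le _ _ fun j hj =>
      le_trans (Polynomial.natDegree_C_mul_le _ _) (by
        rw [descPochhammer_natDegree]
        have := Finset.mem_range.1 hj
        omega)
    omega

theorem choose_sum_sub (a : ℕ → ZMod p) (n i : ℕ) :
    (∑ j ∈ Finset.range (n + 1), a j * (i.choose j : ZMod p))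
      - ∑ j ∈ Finset.range (n + 1), a j * ((i + 1).choose j : ZMod p)
      = ∑ j ∈ Finset.range n, -a (j + 1) * (i.choose j : ZMod p) := by
  rw [Finset.sum_range_succ' _ n, Finset.sum_range_succ' _ n]
  simp only [Nat.choose_succ_succ, Nat.cast_add, Nat.choose_zero_right, Nat.cast_one, mul_add,
    Finset.sum_add_distrib, neg_mul, Finset.sum_neg_distrib]
  ring

end ChoosePoly

variable {p w : ℕ} [Fact p.Prime] {X Q : Subgroup (GLw p w)} {s : GLw p w} {d : ℕ}

theorem Reg.comm_mem_Gam (hR : Reg X Q) {x γ : GLw p w} (hx : (x : M2 p w) = 1 + shiftN (ZMod p) w)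
    (hxQ : x ∈ Q) (hw : 1 < w) (hγ : γ ∈ Gam Q) : x * γ * x⁻¹ * γ⁻¹ ∈ Gam Q := by
  have hγQ := (hR.mem_Gam.1 hγ).1
  have h1 := (comm_shift_top hx (h := 2) (by omega) (mem_Dg.2 (hR.gam_deg hγ))).1
  refine hR.mem_Gam.2 ⟨Q.mul_mem (Q.mul_mem (Q.mul_mem hxQ hγQ) (Q.inv_mem hxQ)) (Q.inv_mem hγQ), ?_⟩
  have h2 := (mem_Dg.1 h1).ent_eq (i := 1) (j := 0) (by norm_num)
  rwa [ent_sub, ent_one hw, if_neg one_ne_zero, sub_zero] at h2

theorem top_mul {a b : GLw p w} {h : ℕ} (h1 : 1 ≤ h) (ha : a ∈ Dg p w h) (hb : b ∈ Dg p w h) (i : ℕ) :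
    ent (((a * b : GLw p w) : M2 p w) - 1) (i + h) i
      = ent ((a : M2 p w) - 1) (i + h) i + ent ((b : M2 p w) - 1) (i + h) i := by
  rw [show ((a * b : GLw p w) : M2 p w) - 1 = ((a : M2 p w) - 1) * ((b : M2 p w) - 1) + ((a : M2 p w) - 1)
      + ((b : M2 p w) - 1) by rw [Units.val_mul, sub_mul, mul_sub, mul_sub, one_mul, mul_one, mul_one]; abel,
    ent_add, ent_add, (Deg.mul (mem_Dg.1 ha) (mem_Dg.1 hb)).ent_eq (by push_cast; omega), zero_add]

theorem Ctr.pow_top' (hc : Ctr X Q s d) (i : ℕ) : ∀ j : ℕ, ent (((s ^ j : GLw p w) : M2 p w) - 1) (i + d) i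
    = (j : ZMod p) * ent ((s : M2 p w) - 1) (i + d) i := by
  intro j
  induction j with
  | zero => rw [pow_zero, Units.val_one, sub_self, ent_zero, Nat.cast_zero, zero_mul]
  | succ j ih =>
    rw [pow_succ, top_mul (by have := hc.two_le; omega) ((Dg p w d).pow_mem hc.deg j) hc.deg, ih]
    push_cast
    ring

theorem Reg.deg_max (hR : Reg X Q) (hwp : w ≤ p) (hc : Ctr X Q s d) :
    ∀ h, d < h → ∀ γ ∈ Gam Q, γ ∈ Dg p w h → γ = 1 := by
  obtain ⟨x, hxQ, hx⟩ := hR.shift
  have hd := hc.two_le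
  have hdw := hc.lt
  suffices key : ∀ n h, w ≤ h + n → d < h → ∀ γ ∈ Gam Q, γ ∈ Dg p w h → γ = 1 from
    fun h => key w h (by omega)
  intro n
  induction n with
  | zero => intro h hn _ γ _ hγ; exact eq_one_of_Dg hγ (by omega)
  | succ n ih =>
    intro h hn hdh γ hγG hγ
    have h1 := ih (h + 1) (by omega) (by omega) _ (hR.comm_mem_Gam hx hxQ (by omega) hγG)
      (comm_shift_top hx (by omega) hγ).1
    have hcomm : γ * x = x * γ := by
      rw [mul_inv_eq_one, mul_inv_eq_iff_eq_mul] at h1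
      exact h1.symm
    have hsQ := (hR.mem_Gam.1 hc.mem).1
    obtain ⟨j, -, hj⟩ := Finset.mem_image.1 (mem_zpowers_iff_mem_range_orderOf.1
      (hR.centralizer_le hx hxQ hc.mem hc.ne hc.comm hγG hcomm))
    have h2 := hc.pow_top' 0 j
    rw [zero_add, hj, (mem_Dg.1 hγ).ent_eq (by push_cast; omega)] at h2
    have h3 := (mul_eq_zero.1 h2.symm).resolve_right hc.top_ne
    obtain ⟨k, hk⟩ := (ZMod.natCast_eq_zero_iff j p).1 h3
    rw [← hj, hk, pow_mul, pow_p_eq_one hwp (hR.uni hsQ), one_pow]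

/-- An element above the central line. -/
theorem Reg.exists_second (hR : Reg X Q) (hne : ¬ ∀ γ ∈ Gam Q, γ ∈ Subgroup.zpowers s) :
    ∃ x ∈ Q, (x : M2 p w) = 1 + shiftN (ZMod p) w ∧ ∃ u ∈ Gam Q, u ∉ Subgroup.zpowers s ∧
      x * u * x⁻¹ * u⁻¹ ∈ Subgroup.zpowers s := by
  obtain ⟨x, hxQ, hx⟩ := hR.shift
  refine ⟨x, hxQ, hx, ?_⟩
  by_contra hno
  push Not at hno
  refine hne fun γ hγ => ?_
  suffices key : ∀ n h, w ≤ h + n → 2 ≤ h → ∀ γ ∈ Gam Q, γ ∈ Dg p w h → γ ∈ Subgroup.zpowers s from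
    key w 2 (by omega) le_rfl γ hγ (mem_Dg.2 (hR.gam_deg hγ))
  intro n
  induction n with
  | zero => intro h hn _ γ _ hγ; rw [eq_one_of_Dg hγ (by omega)]; exact Subgroup.one_mem _
  | succ n ih =>
    intro h hn h2 γ hγG hγ
    by_contra hc
    rcases Nat.lt_or_ge 1 w with hw | hw
    · exact hno γ hγG hc (ih (h + 1) (by omega) (by omega) _ (hR.comm_mem_Gam hx hxQ hw hγG)
        (comm_shift_top hx (by omega) hγ).1)
    · exact hc (by rw [eq_one_of_Dg hγ (by omega)]; exact Subgroup.one_mem _)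

/-- The leading components are given by few binomial coefficients. -/
theorem Reg.lead_poly (hR : Reg X Q) (hwp : w ≤ p) (hc : Ctr X Q s d) :
    ∀ h, 2 ≤ h → ∀ γ ∈ Gam Q, γ ∈ Dg p w h → ∃ a : ℕ → ZMod p, ∀ i, i + h < w →
      ent (γ : M2 p w) (i + h) i = ∑ j ∈ Finset.range (d + 1 - h), a j * (i.choose j : ZMod p) := by
  obtain ⟨x, hxQ, hx⟩ := hR.shift
  have hw : 1 < w := by have := hc.two_le; have := hc.lt; omega
  suffices key : ∀ n h, d + 1 ≤ h + n → 2 ≤ h → ∀ γ ∈ Gam Q, γ ∈ Dg p w h → ∃ a : ℕ → ZMod p,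
      ∀ i, i + h < w → ent (γ : M2 p w) (i + h) i = ∑ j ∈ Finset.range (d + 1 - h), a j * (i.choose j : ZMod p)
    from fun h => key (d + 1) h (by omega)
  intro n
  induction n with
  | zero =>
    intro h hn h2 γ hγG hγ
    refine ⟨0, fun i hi => ?_⟩
    rw [hR.deg_max hwp hc h (by omega) γ hγG hγ, Units.val_one, ent_one hi, if_neg (by omega)]
    simp
  | succ n ih =>
    intro h hn h2 γ hγG hγ
    rcases Nat.lt_or_ge d h with hdh | hdh
    · refine ⟨0, fun i hi => ?_⟩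
      rw [hR.deg_max hwp hc h hdh γ hγG hγ, Units.val_one, ent_one hi, if_neg (by omega)]
      simp
    obtain ⟨h3, h4⟩ := comm_shift_top hx (by omega) hγ
    obtain ⟨b, hb⟩ := ih (h + 1) (by omega) (by omega) _ (hR.comm_mem_Gam hx hxQ hw hγG) h3
    set n' := d - h with hn'
    rw [show d + 1 - (h + 1) = n' by omega] at hb
    set a : ℕ → ZMod p := fun j => if j = 0 then ent (γ : M2 p w) h 0 else -b (j - 1) with ha
    refine ⟨a, fun i hi => ?_⟩
    rw [show d + 1 - h = n' + 1 by omega]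
    induction i with
    | zero =>
      rw [zero_add, Finset.sum_eq_single 0]
      · simp [ha]
      · intro j _ hj
        rw [Nat.choose_eq_zero_of_lt (Nat.pos_of_ne_zero hj), Nat.cast_zero, mul_zero]
      · intro hne; exact absurd (Finset.mem_range.2 (by omega)) hne
    | succ i ihi =>
      have h5 := h4 i (by omega)
      rw [hb i (by omega), ihi (by omega)] at h5
      have h6 := choose_sum_sub a n' i
      simp only [ha, Nat.add_eq_zero, one_ne_zero, and_false, if_false, Nat.add_sub_cancel, neg_neg] at h6 h5 ⊢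
      linear_combination h6 + h5

/-- Iterated commutators with the shift. -/
theorem Reg.iter_lead (hR : Reg X Q) (hw : 1 < w) {x γ : GLw p w}
    (hx : (x : M2 p w) = 1 + shiftN (ZMod p) w) (hxQ : x ∈ Q) (hγG : γ ∈ Gam Q) {h : ℕ} (h1 : 1 ≤ h)
    (hγ : γ ∈ Dg p w h) {n : ℕ} {a : ℕ → ZMod p}
    (ha : ∀ i, i + h < w → ent (γ : M2 p w) (i + h) i = ∑ j ∈ Finset.range n, a j * (i.choose j : ZMod p)) :
    ∀ k, k ≤ n → ∃ δ ∈ Gam Q, δ ∈ Dg p w (h + k) ∧ ∀ i, i + (h + k) < w →
      ent (δ : M2 p w) (i + (h + k)) i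
        = (-1) ^ k * ∑ j ∈ Finset.range (n - k), a (j + k) * (i.choose j : ZMod p) := by
  intro k
  induction k with
  | zero => exact fun _ => ⟨γ, hγG, hγ, fun i hi => by simp [ha i hi]⟩
  | succ k ih =>
    intro hk
    obtain ⟨δ, hδG, hδ, hval⟩ := ih (by omega)
    obtain ⟨h2, h3⟩ := comm_shift_top hx (by omega) hδ
    refine ⟨_, hR.comm_mem_Gam hx hxQ hw hδG, h2, fun i hi => ?_⟩
    rw [← add_assoc h k 1] at hi ⊢
    rw [h3 i hi, hval i (by omega), hval (i + 1) (by omega), show n - k = n - (k + 1) + 1 by omega,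
      ← mul_sub, choose_sum_sub, pow_succ, mul_assoc]
    congr 1
    rw [neg_one_mul, ← Finset.sum_neg_distrib]
    refine Finset.sum_congr rfl fun j _ => ?_
    rw [neg_mul, show j + (k + 1) = j + 1 + k by ring]

end CfsgLib.RegUnip
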