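import Cfsg.Agent.Lib.RegUnip.CaseBig
import Cfsg.Agent.Lib.RegUnip.Chain

/-!
# A triangular centralizer with more than one line below the regular elements
-/

set_option autoImplicit false
set_option linter.style.haveILetI false

open Finset
open scoped Classical

namespace CfsgLib.RegUnip

variable {p w : ℕ} [Fact p.Prime] {X Q : Subgroup (GLw p w)} {s : GLw p w} {d : ℕ}

theorem toeplitz_eq {A : M2 p w} (h : Commute A (shiftN (ZMod p) w)) :
    A = ∑ k ∈ Finset.range w, ent A k 0 • shiftN (ZMod p) w ^ k := by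
  refine ext_ent fun i j hi hj => ?_
  rw [ent_of_commute_shift h hi hj, ent_sum]
  simp only [ent_smul, ent_shiftN_pow]
  by_cases hji : j ≤ i
  · rw [if_pos hji, Finset.sum_eq_single (i - j)]
    · rw [if_pos ⟨by omega, hi⟩, mul_one]
    · intro k _ hk
      rw [if_neg (by omega), mul_zero]
    · intro hne
      exact absurd (Finset.mem_range.2 (by omega)) hne
  · rw [if_neg hji, Finset.sum_eq_zero]
    intro k _
    rw [if_neg (by omega), mul_zero]

/-- A second element bounds the size. -/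
theorem Reg.size_le_of_second (hR : Reg X Q) (hwp : w ≤ p) (hc : Ctr X Q s d)
    (hne : ¬ ∀ γ ∈ Gam Q, γ ∈ Subgroup.zpowers s) : w + 1 ≤ 2 * d ∧ 3 ≤ d := by
  obtain ⟨x, hxQ, hx, u, huG, hus, hcomm⟩ := hR.exists_second hne
  have hd := hc.two_le
  have hdw := hc.lt
  have hw : 1 < w := by omega
  have hd3 : 3 ≤ d := by
    by_contra hlt
    have hu2 := mem_Dg.2 (hR.gam_deg huG)
    have h1 := hR.deg_max hwp hc 3 (by omega) _ (hR.comm_mem_Gam hx hxQ hw huG) (comm_shift_top hx (by omega) hu2).1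
    rw [mul_inv_eq_one, mul_inv_eq_iff_eq_mul] at h1
    exact hus (hR.centralizer_le hx hxQ hc.mem hc.ne hc.comm huG h1.symm)
  refine ⟨?_, hd3⟩
  by_contra hlt
  push Not at hlt
  obtain ⟨hsQ, -⟩ := hR.mem_Gam.1 hc.mem
  obtain ⟨huQ, -⟩ := hR.mem_Gam.1 huG
  obtain ⟨c, -, hc'⟩ := Finset.mem_image.1 (mem_zpowers_iff_mem_range_orderOf.1 hcomm)
  have hcne : (c : ZMod p) ≠ 0 := by
    intro h0
    obtain ⟨k, hk⟩ := (ZMod.natCast_eq_zero_iff c p).1 h0
    rw [hk, pow_mul, pow_p_eq_one hwp (hR.uni hsQ), one_pow] at hc'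
    have h1 := hc'.symm
    rw [mul_inv_eq_one, mul_inv_eq_iff_eq_mul] at h1
    exact hus (hR.centralizer_le hx hxQ hc.mem hc.ne hc.comm huG h1.symm)
  set y := (s ^ c)⁻¹ with hy
  have hconj : u * x * u⁻¹ = y * x := by
    rw [hy, hc']; group
  set N := shiftN (ZMod p) w with hN
  set M := (y * x : GLw p w) with hM'
  set E := ((y : M2 p w) - 1) * (x : M2 p w) with hE
  have hyd : y ∈ Dg p w d := (Dg p w d).inv_mem ((Dg p w d).pow_mem hc.deg c)
  have hMN : ((M : GLw p w) : M2 p w) - 1 = N + E := by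
    rw [hM', hE, Units.val_mul, sub_mul, one_mul, hx]
    abel
  have hxL : Deg (dg w) (dg w) (x : M2 p w) ((0 : ℕ) : ℤ) := mem_Low.1 (uni_le_low (uni_shift hx))
  have hEd : Deg (dg w) (dg w) E (d : ℤ) := Deg.mul' (mem_Dg.1 hyd) hxL (by push_cast; omega)
  set ε := -((c : ZMod p) * ent ((s : M2 p w) - 1) d 0) with hε
  have hε0 : ε ≠ 0 := neg_ne_zero.2 (mul_ne_zero hcne hc.top_ne)
  have hEt : ∀ i, i + d < w → ent E (i + d) i = ε := by
    intro i hi
    have h1 := ent_mul_top (i := i) (mem_Dg.1 hyd) hxL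
    simp only [Nat.add_zero] at h1
    have h2 := top_mul (by omega) hyd ((Dg p w d).pow_mem hc.deg c) i
    rw [hy, inv_mul_cancel, Units.val_one, sub_self, ent_zero, hc.pow_top' i c, hc.top i hi] at h2
    rw [hE, h1, (mem_Uni_iff_diag (uni_le_low (uni_shift hx))).1 (uni_shift hx) i (by omega), mul_one, hε, hy]
    linear_combination -h2
  have hM1 : Deg (dg w) (dg w) (N + E) ((1 : ℕ) : ℤ) := by
    simpa using deg_shiftN.add (hEd.mono (by omega))
  have hMt : ∀ i, i + 1 < w → ent (N + E) (i + 1) i = 1 := fun i hi => by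
    rw [ent_add, ent_shiftN, if_pos ⟨rfl, hi⟩, hEd.ent_eq (by push_cast; omega), add_zero]
  have hpow : ∀ k, Deg (dg w) (dg w) ((N + E) ^ k - N ^ k) ((k + d - 1 : ℕ) : ℤ) ∧
      ∀ i, i + (k + d - 1) < w → ent ((N + E) ^ k - N ^ k) (i + (k + d - 1)) i = (k : ZMod p) * ε := by
    intro k
    induction k with
    | zero => exact ⟨by rw [pow_zero, pow_zero, sub_self]; exact deg_zero,
        fun i _ => by rw [pow_zero, pow_zero, sub_self, ent_zero, Nat.cast_zero, zero_mul]⟩
    | succ k ih =>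
      have hNk : Deg (dg w) (dg w) (N ^ k) ((k : ℕ) : ℤ) := by simpa using Deg.pow deg_shiftN k
      have e : (N + E) ^ (k + 1) - N ^ (k + 1) = ((N + E) ^ k - N ^ k) * (N + E) + N ^ k * E := by
        rw [pow_succ, pow_succ, sub_mul, mul_add (N ^ k)]; abel
      refine ⟨?_, fun i hi => ?_⟩
      · rw [e]
        exact (Deg.mul' ih.1 hM1 (by omega)).add (Deg.mul' hNk hEd (by omega))
      · have e1 : i + (k + 1 + d - 1) = i + (k + d - 1) + 1 := by omega
        have e2 : i + (k + 1 + d - 1) = i + k + d := by omega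
        have h1 := ent_mul_top (i := i) ih.1 hM1
        have h2 := ent_mul_top (i := i) hNk hEd
        rw [e, ent_add]
        conv_lhs => arg 1; rw [e1]
        conv_lhs => arg 2; rw [e2]
        rw [h1, h2, hMt i (by omega), hEt i (by omega), ent_shiftN_pow, if_pos ⟨by omega, by omega⟩,
          show i + (k + d - 1) + 1 = i + 1 + (k + d - 1) by omega, ih.2 (i + 1) (by omega)]
        push_cast
        ring
  set S := (s : M2 p w) - 1 with hS
  have hSN : Commute S N := ((hR.commute_shift hx).2 (hc.comm x hxQ).symm).sub_left (Commute.one_left _)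
  have hS1 : (u : M2 p w) * S * ((u⁻¹ : GLw p w) : M2 p w) = S := by
    rw [commute_sub_one (hc.comm u huQ), mul_assoc, ← Units.val_mul, mul_inv_cancel, Units.val_one, mul_one]
  have hpowc : ∀ k, (u : M2 p w) * N ^ k * ((u⁻¹ : GLw p w) : M2 p w) = (N + E) ^ k := fun k => by
    rw [← Units.conj_pow, hN, show shiftN (ZMod p) w = (x : M2 p w) - 1 by rw [hx, add_sub_cancel_left],
      ← conj_sub_one, hconj, hMN, hx, add_sub_cancel_left]
  have hsum : ∑ k ∈ Finset.range w, ent S k 0 • ((N + E) ^ k - N ^ k) = 0 := by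
    simp only [smul_sub, Finset.sum_sub_distrib, ← hpowc]
    rw [sub_eq_zero]
    conv_rhs => rw [← toeplitz_eq hSN, ← hS1, toeplitz_eq hSN, Finset.mul_sum, Finset.sum_mul]
    refine Finset.sum_congr rfl fun k _ => ?_
    rw [Matrix.mul_smul, Matrix.smul_mul]
  have h0 := congrArg (fun A => ent A (2 * d - 1) 0) hsum
  simp only [ent_zero, ent_sum, ent_smul] at h0
  rw [Finset.sum_eq_single d] at h0
  · have h1 := (hpow d).2 0 (by omega)
    rw [zero_add, show d + d - 1 = 2 * d - 1 by omega] at h1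
    rw [h1] at h0
    have hdp : (d : ZMod p) ≠ 0 := fun h => by
      have := Nat.le_of_dvd (by omega) ((ZMod.natCast_eq_zero_iff d p).1 h)
      omega
    exact mul_ne_zero hc.top_ne (mul_ne_zero hdp hε0) h0
  · intro k _ hk
    rcases Nat.lt_or_gt_of_ne hk with h | h
    · rw [(mem_Dg.1 hc.deg).ent_eq (by push_cast; omega), zero_mul]
    · rw [(hpow k).1.ent_eq (by push_cast; omega), mul_zero]
  · exact fun h => absurd (Finset.mem_range.2 (by omega)) h

/-- No triangular centralizer with a second element. -/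
theorem Reg.case_two (hR : Reg X Q) (hirr : Irr X) (hp5 : 5 ≤ p) (hwp : w ≤ p - 1) (hc : Ctr X Q s d)
    (hw2 : w + 1 = 2 * d) (hd3 : 3 ≤ d) (hclosed : Cs X s ≤ Low p w) : False := by
  have hdw := hc.lt
  have hw : 1 < w := by omega
  obtain ⟨K, τ, hKX, hsK, hτK, hτ1, hτ2, hτc, h4, hmid, hsum, hskew⟩ :=
    hR.exists_involution hirr hp5 hc (by omega) (by omega)
  have h20 : (2 : ZMod p) ≠ 0 := by
    intro h0
    have := Nat.le_of_dvd (by norm_num) ((ZMod.natCast_eq_zero_iff 2 p).1 (by simpa using h0))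
    omega
  have hne1 : (-1 : ZMod p) ≠ 1 := fun h => h20 (by linear_combination -h)
  have hsQ := (hR.mem_Gam.1 hc.mem).1
  have hps : s ^ p = 1 := pow_p_eq_one (by omega) (hR.uni hsQ)
  have hKlow : ∀ k ∈ K, k * s = s * k → k ∈ Low p w := fun k hk h => hclosed (mem_Cs.2 ⟨hKX hk, h⟩)
  -- involutions centralizing `s`
  have hinvol : ∀ k ∈ K, k * s = s * k → k * k = 1 → k ≠ 1 →
      Even d ∧ ∀ i < w, ent (k : M2 p w) i i = (-1) ^ (i + 1) := by
    intro k hk hks hk2 hk1
    have hl := hKlow k hk hks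
    have hX := hKX hk
    have hr := hR.ratio_ne_zero hw hX hl
    have h1 := hmid k hk hk2 (d - 1) (d - 1) (by omega) (by omega)
    rw [ent_sub, ent_one (by omega), if_pos rfl, sub_eq_zero, hR.diag_step hX hl (by omega)] at h1
    have h2 : ∀ i < w, ent (k : M2 p w) i i * ent (k : M2 p w) i i = 1 := fun i hi => by
      rw [← ent_diag_low hl hl, hk2, Units.val_one, ent_one hi, if_pos rfl]
    have h00 := h2 0 (by omega)
    have h11 := h2 1 hw
    rw [hR.diag_step hX hl hw, pow_one, mul_mul_mul_comm, h00, one_mul] at h11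
    rcases mul_self_eq_one_iff.1 h11 with hr1 | hr1
    · rw [hr1, one_pow, mul_one] at h1
      exact absurd (eq_one_of_invol_uni (by omega) (by omega) hk2 ((mem_Uni_iff_diag hl).2 fun i hi => by
        rw [hR.diag_step hX hl hi, hr1, one_pow, mul_one, h1])) hk1
    · have hd := hc.ratio_pow hR (mem_Cs.2 ⟨hX, hks⟩) hl
      rw [hr1, neg_one_pow_eq_one_iff_even hne1] at hd
      have hodd : Odd (d - 1) := Nat.Even.sub_odd (by omega) hd odd_one
      rw [hr1, hodd.neg_one_pow, mul_neg_one, neg_eq_iff_eq_neg] at h1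
      refine ⟨hd, fun i hi => ?_⟩
      rw [hR.diag_step hX hl hi, h1, hr1, pow_succ']
  have hτs : τ * s = s * τ := (hτc s hsK).symm
  obtain ⟨hdev, hμ⟩ := hinvol τ hτK hτs hτ2 hτ1
  obtain ⟨d₁, hd₁⟩ := hdev
  have hτl := hKlow τ hτK hτs
  have hτX := hKX hτK
  have hτinv : τ⁻¹ = τ := inv_eq_of_mul_eq_one_right hτ2
  have hτM : (τ : M2 p w) * (τ : M2 p w) = 1 := by rw [← Units.val_mul, hτ2, Units.val_one]
  set T := 1 + (τ : M2 p w) with hT
  have hTl : Deg (dg w) (dg w) T ((0 : ℕ) : ℤ) := deg_one.add (mem_Low.1 hτl)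
  have hTd : ∀ i < w, ent T i i = 1 + (-1) ^ (i + 1) := fun i hi => by
    rw [hT, ent_add, ent_one hi, if_pos rfl, hμ i hi]
  -- a leading entry in an odd column
  have hodd0 : ∀ {γ : GLw p w} {h : ℕ}, Deg (dg w) (dg w) ((γ : M2 p w) - 1) (h : ℤ) →
      ((γ : M2 p w) - 1) * T = 0 → ∀ t, 2 * t + 1 + h < w →
      ent ((γ : M2 p w) - 1) (2 * t + 1 + h) (2 * t + 1) = 0 := by
    intro γ h hγ hγT t ht
    have h1 := ent_mul_top (i := 2 * t + 1) hγ hTl
    simp only [Nat.add_zero] at h1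
    rw [hγT, ent_zero, hTd _ (by omega), Even.neg_one_pow ⟨t + 1, by ring⟩] at h1
    exact (mul_eq_zero.1 h1.symm).resolve_right (by
      intro h; exact h20 (by linear_combination h))
  -- the kernel on the fixed space of `τ`
  let K₀ : Subgroup (GLw p w) := subgroupOfFinite
    {k | k ∈ K ∧ ((k : M2 p w) - 1) * T = 0} ⟨K.one_mem, by simp⟩
    (fun {a b} ⟨ha, ha'⟩ ⟨hb, hb'⟩ => ⟨K.mul_mem ha hb, by
      rw [show ((a * b : GLw p w) : M2 p w) - 1 = (a : M2 p w) * ((b : M2 p w) - 1) + ((a : M2 p w) - 1) by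
        rw [Units.val_mul, mul_sub, mul_one]; abel, Matrix.add_mul, Matrix.mul_assoc, hb', Matrix.mul_zero,
        ha', add_zero]⟩)
  have hK₀K : K₀ ≤ K := fun k hk => hk.1
  have hcommT : ∀ k ∈ K, Commute (k : M2 p w) T := fun k hk => by
    refine (Commute.one_right _).add_right ?_
    show _ = _
    rw [← Units.val_mul, ← Units.val_mul, hτc k hk]
  have hnorm : ∀ g ∈ K, ∀ k ∈ K₀, g * k * g⁻¹ ∈ K₀ := fun g hg k hk => by
    refine ⟨K.mul_mem (K.mul_mem hg hk.1) (K.inv_mem hg), ?_⟩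
    rw [conj_sub_one, Matrix.mul_assoc, (hcommT _ (K.inv_mem hg)).eq, ← Matrix.mul_assoc,
      Matrix.mul_assoc (g : M2 p w), hk.2, Matrix.mul_zero, Matrix.zero_mul]
  have hτK₀ : τ ∈ K₀ := ⟨hτK, by
    rw [hT, Matrix.mul_add, Matrix.mul_one, Matrix.sub_mul, Matrix.one_mul, hτM]
    abel⟩
  by_cases hdvd : p ∣ Nat.card K₀
  · -- an element of order `p` centralized by `s`
    let act : MulAction (Subgroup.zpowers s) K₀ :=
      { smul := fun g k => ⟨(g : GLw p w) * k * (g : GLw p w)⁻¹,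
          hnorm g (Subgroup.zpowers_le.2 hsK g.2) k k.2⟩
        one_smul := fun k => Subtype.ext (by show (1 : GLw p w) * k * (1 : GLw p w)⁻¹ = k; simp)
        mul_smul := fun a b k => Subtype.ext (by
          show (a * b : GLw p w) * k * (a * b : GLw p w)⁻¹ = a * (b * k * (b : GLw p w)⁻¹) * (a : GLw p w)⁻¹
          simp [mul_assoc]) }
    letI := act
    have hP : IsPGroup p (Subgroup.zpowers s) := IsPGroup.of_card (n := 1) (by
      rw [Nat.card_zpowers, pow_one, orderOf_eq_prime hps hc.ne])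
    set C₀ := K₀ ⊓ Subgroup.centralizer {s}
    have hfix : ∀ k : K₀, k ∈ MulAction.fixedPoints (Subgroup.zpowers s) K₀ ↔ (k : GLw p w) ∈ C₀ := by
      intro k
      rw [Subgroup.mem_inf, and_iff_right k.2, Subgroup.mem_centralizer_singleton_iff]
      constructor
      · intro h
        have h1 : s * (k : GLw p w) * s⁻¹ = k := congrArg Subtype.val (h ⟨s, Subgroup.mem_zpowers s⟩)
        exact (mul_inv_eq_iff_eq_mul.1 h1).symm
      · rintro h ⟨g, hg⟩
        obtain ⟨z, rfl⟩ := Subgroup.mem_zpowers_iff.1 hg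
        refine Subtype.ext ?_
        show s ^ z * (k : GLw p w) * (s ^ z)⁻¹ = k
        rw [((show Commute s (k : GLw p w) from h.symm).zpow_left z).eq, mul_inv_cancel_right]
    have hcard : p ∣ Nat.card C₀ := by
      have e : Nat.card C₀ = Nat.card (MulAction.fixedPoints (Subgroup.zpowers s) K₀) :=
        Nat.card_congr ⟨fun c => ⟨⟨c, (Subgroup.mem_inf.1 c.2).1⟩, (hfix _).2 c.2⟩,
          fun k => ⟨(k : K₀), (hfix _).1 k.2⟩, fun c => rfl, fun k => rfl⟩
      rw [e]
      exact Nat.modEq_zero_iff_dvd.1 ((hP.card_modEq_card_fixedPoints K₀).symm.trans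
        (Nat.modEq_zero_iff_dvd.2 hdvd))
    obtain ⟨⟨γ, hγC⟩, hγo⟩ := exists_prime_orderOf_dvd_card' (G := C₀) p hcard
    rw [Subgroup.orderOf_mk] at hγo
    obtain ⟨hγK₀, hγs⟩ := Subgroup.mem_inf.1 hγC
    rw [Subgroup.mem_centralizer_singleton_iff] at hγs
    obtain ⟨hγK, hγT⟩ := hγK₀
    have hγX := hKX hγK
    have hγQ : γ ∈ Q := hR.mem_of_low hγX (hKlow γ hγK hγs) (k := 1) (by
      rw [pow_one]; exact (congrArg (γ ^ ·) hγo.symm).trans (pow_orderOf_eq_one γ))
    have hτγ : (τ : M2 p w) * ((γ : M2 p w) - 1) * ((τ⁻¹ : GLw p w) : M2 p w) = (γ : M2 p w) - 1 := by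
      rw [← conj_sub_one, ← hτc γ hγK, mul_inv_cancel_right]
    have hratio : ratio τ = -1 := by
      rw [ratio, hμ 1 hw, hμ 0 (by omega)]
      norm_num
    have hγG : γ ∈ Gam Q := by
      refine hR.mem_Gam.2 ⟨hγQ, ?_⟩
      have h1 := hR.conj_top hw hτX hτl (deg_unit_sub_one (hR.uni hγQ)) 0
      rw [hτγ, hratio, zero_add, pow_one, ent_sub, ent_one hw, if_neg one_ne_zero, sub_zero] at h1
      exact (mul_eq_zero.1 (show (2 : ZMod p) * ent (γ : M2 p w) 1 0 = 0 by linear_combination h1)).resolve_left h20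
    have hγ1 : γ ≠ 1 := fun h => by
      rw [h, orderOf_one] at hγo
      omega
    obtain ⟨h, hh2, hhw, hγh, i₀, hi₀, hi₀ne⟩ := exists_top (A := (γ : M2 p w) - 1)
      (fun h0 => hγ1 (Units.ext (sub_eq_zero.1 h0))) (hR.gam_deg hγG)
    have hhd : h ≤ d := by
      by_contra hlt
      exact hγ1 (hR.deg_max (by omega) hc h (by omega) γ hγG hγh)
    have hheven : Even h := by
      have h1 := hR.conj_top hw hτX hτl hγh i₀
      rw [hτγ, hratio] at h1
      rcases Nat.even_or_odd h with he | ho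
      · exact he
      · rw [ho.neg_one_pow] at h1
        exact absurd ((mul_eq_zero.1 (show (2 : ZMod p) * ent ((γ : M2 p w) - 1) (i₀ + h) i₀ = 0 by
          linear_combination h1)).resolve_left h20) hi₀ne
    obtain ⟨h₁, hh₁⟩ := hheven
    obtain ⟨a, ha⟩ := hR.lead_poly (by omega) hc h hh2 γ hγG hγh
    have hsub : ∀ {δ : GLw p w} {k i : ℕ}, 1 ≤ k → i + k < w →
        ent ((δ : M2 p w) - 1) (i + k) i = ent (δ : M2 p w) (i + k) i := fun {δ k i} hk hi => by
      rw [ent_sub, ent_one hi, if_neg (by omega), sub_zero]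
    set n := d + 1 - h with hn
    have hf : ∀ i, i + h < w → ∑ j ∈ Finset.range n, a j * (i.choose j : ZMod p)
        = ent ((γ : M2 p w) - 1) (i + h) i := fun i hi => by rw [hsub (by omega) hi, ha i hi]
    have hcontra : ∀ T : Finset ℕ, (∀ i ∈ T, i + h < w) → n ≤ T.card →
        (∀ i ∈ T, ∑ j ∈ Finset.range n, a j * (i.choose j : ZMod p) = 0) → False := by
      intro T hT hcard' hz
      refine hi₀ne ?_
      rw [← hf i₀ hi₀]
      exact choose_sum_eq_zero (by omega) a T (fun i hi => by have := hT i hi; omega) hcard' hz i₀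
    set Todd := (Finset.range (d - 1 - h₁)).image fun t => 2 * t + 1 with hTodd
    have hToddc : Todd.card = d - 1 - h₁ := by
      rw [hTodd, Finset.card_image_of_injective _ (fun a b (h : 2 * a + 1 = 2 * b + 1) => by omega),
        Finset.card_range]
    have hTodd0 : ∀ i ∈ Todd, i + h < w ∧ ∑ j ∈ Finset.range n, a j * (i.choose j : ZMod p) = 0 := by
      intro i hi
      obtain ⟨t, ht, rfl⟩ := Finset.mem_image.1 hi
      rw [Finset.mem_range] at ht
      exact ⟨by omega, by rw [hf _ (by omega)]; exact hodd0 hγh hγT t (by omega)⟩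
    rcases Nat.lt_or_ge 2 h with hh4 | hh4
    · exact hcontra Todd (fun i hi => (hTodd0 i hi).1) (by omega) fun i hi => (hTodd0 i hi).2
    obtain rfl : h = 2 := by omega
    -- the element in degree `d - 1` below
    obtain ⟨x, hxQ, hx⟩ := hR.shift
    obtain ⟨δ, hδG, hδ, hδv⟩ := hR.iter_lead hw hx hxQ hγG (by omega) hγh (fun i hi => ha i hi) (d - 3) (by omega)
    rw [show 2 + (d - 3) = d - 1 by omega, show n - (d - 3) = 2 by omega] at hδv
    rw [show 2 + (d - 3) = d - 1 by omega] at hδ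
    obtain ⟨h5, h6⟩ := comm_top hγh hδ (by omega) (by omega)
    have h7 : γ * δ * γ⁻¹ * δ⁻¹ ∈ Gam Q := by
      obtain ⟨hδQ, -⟩ := hR.mem_Gam.1 hδG
      refine hR.mem_Gam.2 ⟨Q.mul_mem (Q.mul_mem (Q.mul_mem hγQ hδQ) (Q.inv_mem hγQ)) (Q.inv_mem hδQ), ?_⟩
      have h2 := (mem_Dg.1 h5).ent_eq (i := 1) (j := 0) (by push_cast; omega)
      rwa [ent_sub, ent_one hw, if_neg one_ne_zero, sub_zero] at h2
    have h8 := hR.deg_max (by omega) hc (2 + (d - 1)) (by omega) _ h7 h5
    set L : ℕ → ZMod p := fun i => a (d - 3) + a (d - 2) * (i : ZMod p) with hL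
    have hid : ∀ i, i + 2 + (d - 1) < w →
        ent (γ : M2 p w) (i + (d - 1) + 2) (i + (d - 1)) * L i = ent (γ : M2 p w) (i + 2) i * L (i + 2) := by
      intro i hi
      have h9 := h6 i (by omega)
      rw [h8, Units.val_one, ent_one (by omega), if_neg (by omega),
        show i + (2 + (d - 1)) = i + (d - 1) + 2 by omega, hδv i (by omega)] at h9
      have h10 := hδv (i + 2) (by omega)
      rw [show i + 2 + (d - 1) = i + (d - 1) + 2 by omega] at h10
      rw [h10] at h9
      have hL' : ∀ i, ∑ j ∈ Finset.range 2, a (j + (d - 3)) * ((i : ℕ).choose j : ZMod p) = L i := fun i => by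
        rw [Finset.sum_range_succ, Finset.sum_range_one, Nat.choose_zero_right, Nat.choose_one_right,
          zero_add, Nat.cast_one, mul_one, show 1 + (d - 3) = d - 2 by omega]
      rw [hL', hL'] at h9
      refine mul_left_cancel₀ (pow_ne_zero (d - 3) (neg_ne_zero.2 one_ne_zero : (-1 : ZMod p) ≠ 0)) ?_
      linear_combination -h9
    by_cases htop : a (d - 2) = 0
    · refine hi₀ne ?_
      rw [← hf i₀ hi₀, show n = d - 2 + 1 by omega, Finset.sum_range_succ, htop, zero_mul, add_zero]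
      refine choose_sum_eq_zero (by omega) a Todd (fun i hi => by have := (hTodd0 i hi).1; omega)
        (by omega) (fun i hi => ?_) i₀
      have h11 := (hTodd0 i hi).2
      rwa [show n = d - 2 + 1 by omega, Finset.sum_range_succ, htop, zero_mul, add_zero] at h11
    obtain ⟨e, he, hee, hez⟩ : ∃ e, e + 2 < w ∧ (e = 0 ∨ e = d) ∧ ent ((γ : M2 p w) - 1) (e + 2) e = 0 := by
      by_cases hL2 : L 2 = 0
      · refine ⟨d, by omega, Or.inr rfl, ?_⟩
        have hL1 : L 1 ≠ 0 := by
          intro h12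
          simp only [hL, Nat.cast_ofNat, Nat.cast_one] at hL2 h12
          exact htop (by linear_combination hL2 - h12)
        have h13 := hid 1 (by omega)
        have h14 := hodd0 hγh hγT 0 (by omega)
        rw [Nat.mul_zero, zero_add, hsub (by omega) (by omega)] at h14
        rw [h14, zero_mul, show 1 + (d - 1) = d by omega] at h13
        rw [hsub (by omega) (by omega)]
        exact (mul_eq_zero.1 h13).resolve_right hL1
      · refine ⟨0, by omega, Or.inl rfl, ?_⟩
        have h13 := hid 0 (by omega)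
        have h14 := hodd0 hγh hγT (d₁ - 1) (by omega)
        rw [show 2 * (d₁ - 1) + 1 = 0 + (d - 1) by omega, hsub (by omega) (by omega)] at h14
        rw [h14, zero_mul, zero_add] at h13
        rw [hsub (by omega) (by omega)]
        exact (mul_eq_zero.1 h13.symm).resolve_right hL2
    refine hcontra (insert e Todd) (fun i hi => ?_) ?_ fun i hi => ?_
    · rcases Finset.mem_insert.1 hi with rfl | hi
      · omega
      · exact (hTodd0 i hi).1
    · rw [Finset.card_insert_of_notMem, hToddc]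
      · omega
      · intro hi
        obtain ⟨t, -, ht⟩ := Finset.mem_image.1 hi
        omega
    · rcases Finset.mem_insert.1 hi with rfl | hi
      · rw [hf _ (by omega)]; exact hez
      · exact (hTodd0 i hi).2
  -- the kernel is `{1, τ}`
  have hK₀ : ∀ k ∈ K₀, k = 1 ∨ k = τ := by
    intro k hk
    have hcm := commute_of_quadratic hp5
      (eq_zero_of_deg (Deg.mul (mem_Dg.1 hc.deg) (mem_Dg.1 hc.deg)) (by omega)) hdvd
      (fun r hr => hnorm s hsK r hr) k hk
    obtain ⟨hkK, hkT⟩ := hk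
    have hl := hKlow k hkK hcm
    have hX := hKX hkK
    have hk1 : ∀ t, 2 * t + 1 < w → ent (k : M2 p w) (2 * t + 1) (2 * t + 1) = 1 := by
      intro t ht
      have hd0 : Deg (dg w) (dg w) ((k : M2 p w) - 1) ((0 : ℕ) : ℤ) := (mem_Low.1 hl).sub deg_one
      have h1 := ent_mul_top (i := 2 * t + 1) hd0 hTl
      simp only [Nat.add_zero] at h1
      rw [hkT, ent_zero, hTd _ ht, Even.neg_one_pow ⟨t + 1, by ring⟩, ent_sub, ent_one ht, if_pos rfl] at h1
      exact sub_eq_zero.1 ((mul_eq_zero.1 h1.symm).resolve_right (by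
        intro h; exact h20 (by linear_combination h)))
    have hpel : ∀ z ∈ K₀, z ^ p = 1 → z = 1 := fun z hz hzp => by
      by_contra hz1
      refine hdvd ?_
      have := orderOf_dvd_natCard (⟨z, hz⟩ : K₀)
      rwa [Subgroup.orderOf_mk, orderOf_eq_prime hzp hz1] at this
    have e1 := hk1 0 (by omega)
    have e3 := hk1 1 (by omega)
    simp only [Nat.mul_zero, zero_add, Nat.mul_one] at e1 e3
    rw [hR.diag_step hX hl (by omega)] at e1 e3
    rw [pow_one] at e1
    have hr2 : ratio k * ratio k = 1 := by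
      rw [show (2 + 1 : ℕ) = 1 + 2 from rfl, pow_add, pow_one, ← mul_assoc, e1, one_mul, sq] at e3
      exact e3
    rcases mul_self_eq_one_iff.1 hr2 with hr | hr
    · left
      rw [hr, mul_one] at e1
      exact hpel k ⟨hkK, hkT⟩ (pow_p_eq_one (by omega) ((mem_Uni_iff_diag hl).2 fun i hi => by
        rw [hR.diag_step hX hl hi, hr, one_pow, mul_one, e1]))
    · right
      rw [hr, mul_neg_one, neg_eq_iff_eq_neg] at e1
      have hkτ : k * τ = 1 := hpel _ (K₀.mul_mem ⟨hkK, hkT⟩ hτK₀) (pow_p_eq_one (by omega)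
        ((mem_Uni_iff_diag ((Low p w).mul_mem hl hτl)).2 fun i hi => by
          rw [ent_diag_low hl hτl, hR.diag_step hX hl hi, hr, e1, hμ i hi, ← pow_succ', ← pow_add]
          exact Even.neg_one_pow ⟨i + 1, rfl⟩))
      rw [eq_inv_of_mul_eq_one_left hkτ, hτinv]
  -- a square root of the kernel
  haveI : Fact (Nat.Prime 2) := ⟨Nat.prime_two⟩
  set Z : Subgroup K := Subgroup.zpowers ⟨τ, hτK⟩ with hZ
  have hτo : orderOf (⟨τ, hτK⟩ : K) = 2 := by
    rw [Subgroup.orderOf_mk]
    exact orderOf_eq_prime (by rw [sq, hτ2]) hτ1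
  haveI : Z.Normal := ⟨fun a ha g => by
    obtain ⟨z, rfl⟩ := Subgroup.mem_zpowers_iff.1 ha
    have hcg : Commute g (⟨τ, hτK⟩ : K) := Subtype.ext (hτc g g.2)
    rw [(hcg.zpow_right z).eq, mul_inv_cancel_right]
    exact Subgroup.zpow_mem _ (Subgroup.mem_zpowers _) z⟩
  have h2dvd : 2 ∣ Nat.card (K ⧸ Z) := by
    have h1 := Subgroup.card_mul_index Z
    have hcz : Nat.card Z = 2 := by rw [hZ, Nat.card_zpowers, hτo]
    rw [Subgroup.index_eq_card, hcz] at h1
    omega
  obtain ⟨q, hq⟩ := exists_prime_orderOf_dvd_card' (G := K ⧸ Z) 2 h2dvd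
  obtain ⟨y, rfl⟩ := QuotientGroup.mk'_surjective Z q
  have hyZ : y ∉ Z := fun h => by
    rw [show (QuotientGroup.mk' Z) y = 1 from (QuotientGroup.eq_one_iff _).2 h, orderOf_one] at hq
    omega
  have hy2 : y * y ∈ Z := by
    have h1 := pow_orderOf_eq_one ((QuotientGroup.mk' Z) y)
    rw [hq, sq, ← map_mul] at h1
    exact (QuotientGroup.eq_one_iff _).1 h1
  have hy1 : (y : GLw p w) ≠ 1 := fun h => hyZ (by
    rw [show y = 1 from Subtype.ext h]; exact Z.one_mem)
  have hyτ : (y : GLw p w) ≠ τ := fun h => hyZ (by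
    rw [show y = ⟨τ, hτK⟩ from Subtype.ext h]; exact Subgroup.mem_zpowers _)
  have hyy : (y : GLw p w) * y = 1 ∨ (y : GLw p w) * y = τ := by
    obtain ⟨j, hj, hje⟩ := Finset.mem_image.1 (mem_zpowers_iff_mem_range_orderOf.1 hy2)
    rw [Finset.mem_range, hτo] at hj
    have hje' := congrArg Subtype.val hje
    simp only [SubgroupClass.coe_pow, Subgroup.coe_mul] at hje'
    interval_cases j
    · left; rw [← hje', pow_zero]
    · right; rw [← hje', pow_one]
  obtain ⟨y, hyK⟩ := y
  simp only at hy1 hyτ hyy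
  clear hyZ hy2 hq
  set S := (s : M2 p w) - 1 with hS
  have hsm := hsum y hyK
  rcases hyy with hyy | hyy
  · have hys : y * s = s * y := by
      rw [inv_eq_of_mul_eq_one_right hyy] at hsm
      have h1 : (2 : ZMod p) • ((y : M2 p w) * S - S * (y : M2 p w)) = 0 := by
        rw [two_smul]
        have h2 := sub_eq_zero.2 hsm.eq
        simp only [Matrix.add_mul, Matrix.mul_add] at h2
        rw [← h2]; abel
      have h2 := sub_eq_zero.1 ((smul_eq_zero.1 h1).resolve_left h20)
      refine Units.ext ?_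
      rw [Units.val_mul, Units.val_mul]
      simpa [hS, mul_sub, sub_mul] using h2
    obtain ⟨-, hν⟩ := hinvol y hyK hys hyy hy1
    have hl := hKlow y hyK hys
    refine hyτ ?_
    have hcy := hτc y hyK
    have h1 : y * τ = 1 := eq_one_of_invol_uni (by omega) (by omega)
      (by rw [← mul_assoc, mul_assoc y τ y, ← hcy, ← mul_assoc, hyy, one_mul, hτ2])
      ((mem_Uni_iff_diag ((Low p w).mul_mem hl hτl)).2 fun i hi => by
        rw [ent_diag_low hl hτl, hν i hi, hμ i hi, ← pow_add]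
        exact Even.neg_one_pow ⟨i + 1, rfl⟩)
    rw [eq_inv_of_mul_eq_one_left h1, hτinv]
  · have hyi : y⁻¹ = y * τ := inv_eq_of_mul_eq_one_right (by rw [← mul_assoc, hyy, hτ2])
    rw [hyi] at hsm
    have hyK' : y * τ = τ * y := hτc y hyK
    have hτS : Commute T S := by
      refine (Commute.one_left _).add_left ?_
      show (τ : M2 p w) * S = S * (τ : M2 p w)
      exact commute_sub_one hτs
    have h1 : ((y : M2 p w) * S - S * (y : M2 p w)) * T = 0 := by
      rw [Matrix.sub_mul, Matrix.mul_assoc _ S T, ← hτS.eq, ← Matrix.mul_assoc, Matrix.mul_assoc S _ T,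
        sub_eq_zero]
      have h2 : (y : M2 p w) * T = (y : M2 p w) + ((y * τ : GLw p w) : M2 p w) := by
        rw [hT, Matrix.mul_add, Matrix.mul_one, Units.val_mul]
      rw [h2]
      exact hsm.eq
    have h3 : y * s * y⁻¹ * s⁻¹ ∈ K₀ := by
      refine ⟨K.mul_mem (K.mul_mem (K.mul_mem hyK hsK) (K.inv_mem hyK)) (K.inv_mem hsK), ?_⟩
      have e : ((y * s * y⁻¹ * s⁻¹ : GLw p w) : M2 p w) - 1
          = ((y : M2 p w) * S - S * (y : M2 p w)) * ((y⁻¹ * s⁻¹ : GLw p w) : M2 p w) := by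
        rw [hS, show (y : M2 p w) * ((s : M2 p w) - 1) - ((s : M2 p w) - 1) * (y : M2 p w)
          = ((y * s : GLw p w) : M2 p w) - ((s * y : GLw p w) : M2 p w) by
            rw [Units.val_mul, Units.val_mul, mul_sub, sub_mul, mul_one, one_mul]; abel,
          sub_mul, ← Units.val_mul, ← Units.val_mul, show s * y * (y⁻¹ * s⁻¹) = 1 by group, Units.val_one,
          show y * s * (y⁻¹ * s⁻¹) = y * s * y⁻¹ * s⁻¹ by group]
      rw [e, Matrix.mul_assoc, (hcommT _ (K.mul_mem (K.inv_mem hyK) (K.inv_mem hsK))).eq,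
        ← Matrix.mul_assoc, h1, Matrix.zero_mul]
    have hys : y * s = s * y := by
      rcases hK₀ _ h3 with h4' | h4'
      · rwa [mul_inv_eq_one, mul_inv_eq_iff_eq_mul] at h4'
      · exfalso
        rw [mul_inv_eq_iff_eq_mul] at h4'
        have h5 : (τ * s) ^ p = 1 := by
          rw [← h4', ← MulAut.conj_apply, ← map_pow, hps, map_one]
        rw [(show Commute τ s from hτs).mul_pow, hps, mul_one] at h5
        refine hτ1 ?_
        have hodd := (Fact.out : p.Prime).odd_of_ne_two (by omega)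
        obtain ⟨j, hj⟩ := hodd
        rwa [show τ ^ p = τ ^ (2 * j + 1) from congrArg (τ ^ ·) hj, pow_succ, pow_mul, sq, hτ2, one_pow,
          one_mul] at h5
    have h6 := hskew y hyK hys
    rw [hyi, ← Matrix.mul_assoc] at h6
    have h7 : ((y : M2 p w) - ((y * τ : GLw p w) : M2 p w)) * ((τ : M2 p w) - 1)
        = (2 : ZMod p) • ((y : M2 p w) * ((τ : M2 p w) - 1)) := by
      rw [Units.val_mul, two_smul]
      simp only [Matrix.sub_mul, Matrix.mul_sub, Matrix.mul_assoc, hτM, Matrix.mul_one]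
      abel
    rw [h7, Matrix.smul_mul, smul_eq_zero] at h6
    have h8 : ((τ : M2 p w) - 1) * S = 0 := by
      have h9 := congrArg (fun A => ((y⁻¹ : GLw p w) : M2 p w) * A) (h6.resolve_left h20)
      simpa [← Matrix.mul_assoc, ← Units.val_mul] using h9
    have hd0' : Deg (dg w) (dg w) ((τ : M2 p w) - 1) ((0 : ℕ) : ℤ) := (mem_Low.1 hτl).sub deg_one
    have h10 := ent_mul_top (i := 0) hd0' (mem_Dg.1 hc.deg)
    simp only [zero_add] at h10
    rw [h8, ent_zero, ent_sub, ent_one hdw, if_pos rfl, hμ d hdw,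
      Odd.neg_one_pow ⟨d₁, by omega⟩] at h10
    refine hc.top_ne ((mul_eq_zero.1 h10.symm).resolve_left ?_)
    intro h
    exact h20 (by linear_combination -h)

end CfsgLib.RegUnip
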