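import Cfsg.Agent.Lib.RegUnip.Single
import Cfsg.Agent.Lib.RegUnip.KTwo

/-!
# Irreducible groups with a regular unipotent element and a small centralizer have small Sylow subgroups
-/

set_option autoImplicit false

namespace CfsgLib.RegUnip

variable {p : ℕ} [Fact p.Prime]

/-- An irreducible group of degree less than `p` with a Sylow subgroup containing a regular unipotent
element of constant first subdiagonal and small centralizer has no further elements there. -/
theorem gam_eq_bot (hp5 : 5 ≤ p) : ∀ w, w ≤ p - 1 → ∀ X Q : Subgroup (GLw p w),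
    Reg X Q → Irr X → Gam Q = ⊥ := by
  intro w
  induction w using Nat.strong_induction_on with
  | _ w ih =>
    intro hwp X Q hR hirr
    by_contra hne
    have hind : Small p w := fun m hm X' Q' h1 h2 => ih m hm (by omega) X' Q' h1 h2
    obtain ⟨s, d, hc⟩ := hR.exists_ctr hne
    have hdw := hc.lt
    rcases Nat.lt_or_ge (w + 1) (2 * d) with hA | hA
    · exact hR.case_big hirr hp5 hwp hind hc (by omega)
    by_cases hsingle : ∀ γ ∈ Gam Q, γ ∈ Subgroup.zpowers s
    · exact hR.case_single hirr hp5 hwp hind hc hA hsingle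
    obtain ⟨hw2, hd3⟩ := hR.size_le_of_second (by omega) hc hsingle
    exact hR.case_two hirr hp5 hwp hc (by omega) hd3 (hR.case_corner hp5 hwp hind hc (by omega))

/-- A Sylow subgroup as above has order `p`. -/
theorem card_eq_prime (hp5 : 5 ≤ p) {w : ℕ} (hw : 1 < w) (hwp : w ≤ p - 1) {X Q : Subgroup (GLw p w)}
    (hR : Reg X Q) (hirr : Irr X) : Nat.card Q = p := by
  obtain ⟨x, hxQ, hx, hcard, -, -⟩ := hR.of_gam_bot (gam_eq_bot hp5 w hwp X Q hR hirr) hw (by omega)
  rwa [Nat.card_congr (Subgroup.subgroupOfEquivOfLe hR.le).toEquiv] at hcard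

end CfsgLib.RegUnip
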