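import Cfsg.Agent.Lib.RegUnip.Ctr
import Cfsg.Agent.Lib.Qd.Linear
import Cfsg.Agent.Lib.Invol.BaerSuzuki
import Cfsg.Agent.Lib.Fusion.System.RankTwoAction

/-!
# A quadratic central element gives an involution
-/

set_option autoImplicit false
set_option linter.style.haveILetI false

open Finset
open scoped Classical

namespace CfsgLib.RegUnip

section Algebra

variable {A R : Type*} [CommRing A] [Ring R] [Algebra A R]

/-- The normal form in the quadratic algebra. -/
def nf (S T : R) (a b g d : A) : R := a • (1 : R) + b • S + g • T + d • (S * T)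

variable {S T : R} {c : A} (hS : S * S = 0) (hT : T * T = 0) (hc : T * S = c • (1 : R) - S * T)

include hS hT hc in
theorem nf_mul (a b g d a' b' g' d' : A) : nf S T a b g d * nf S T a' b' g' d'
    = nf S T (a * a' + g * b' * c) (a * b' + b * a' + d * b' * c) (a * g' + g * a' + g * d' * c)
        (a * d' + d * a' + b * g' - g * b' + d * d' * c) := by
  have h1 : S * (S * T) = 0 := by rw [← mul_assoc, hS, zero_mul]
  have h2 : S * T * T = 0 := by rw [mul_assoc, hT, mul_zero]
  have h3 : T * (S * T) = c • T := by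
    rw [← mul_assoc, hc, sub_mul, smul_mul_assoc, one_mul, h2, sub_zero]
  have h4 : S * T * S = c • S := by
    rw [mul_assoc, hc, mul_sub, mul_smul_comm, mul_one, h1, sub_zero]
  have h5 : S * T * (S * T) = c • (S * T) := by rw [mul_assoc, h3, mul_smul_comm]
  simp only [nf, add_mul, mul_add, smul_mul_assoc, mul_smul_comm, smul_smul, one_mul, mul_one, h1, h2, h3,
    h4, h5, hS, hT, hc, smul_zero, smul_sub]
  module

/-- An element and its inverse in normal form. -/
def QPair (S T : R) (c : A) (k k' : R) : Prop :=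
  ∃ e b g d : A, k = nf S T (1 + e * c) b g d ∧ k' = nf S T (1 + e * c + d * c) (-b) (-g) (-d)

theorem qpair_one : QPair S T c (1 : R) 1 :=
  ⟨0, 0, 0, 0, by simp [nf], by simp [nf]⟩

include hS hT hc in
theorem QPair.mul {k k' l l' : R} (h : QPair S T c k k') (h' : QPair S T c l l') :
    QPair S T c (k * l) (l' * k') := by
  obtain ⟨e, b, g, d, rfl, rfl⟩ := h
  obtain ⟨e', b', g', d', rfl, rfl⟩ := h'
  refine ⟨e + e' + e * e' * c + g * b', (1 + e * c) * b' + b * (1 + e' * c) + d * b' * c,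
    (1 + e * c) * g' + g * (1 + e' * c) + g * d' * c,
    (1 + e * c) * d' + d * (1 + e' * c) + b * g' - g * b' + d * d' * c, ?_, ?_⟩
  · rw [nf_mul hS hT hc]; congr 1 <;> ring
  · rw [nf_mul hS hT hc]; congr 1 <;> ring

theorem QPair.sum_eq {k k' : R} (h : QPair S T c k k') : ∃ a : A, k + k' = a • (1 : R) := by
  obtain ⟨e, b, g, d, rfl, rfl⟩ := h
  exact ⟨2 * (1 + e * c) + d * c, by simp only [nf]; module⟩

theorem QPair.involution {τ : R} (h : QPair S T c τ τ) {u : A} (hu : u * 2 = 1) :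
    ∃ f : A, τ - 1 = (f * c) • (1 : R) := by
  obtain ⟨e, b, g, d, h1, h2⟩ := h
  refine ⟨u * (2 * e + d), ?_⟩
  have h3 : (2 : A) • (τ - 1) = ((2 * e + d) * c) • (1 : R) := by
    rw [two_smul]
    nth_rewrite 1 [h1]
    rw [h2]
    simp only [nf]
    module
  have h4 := congrArg (fun z => u • z) h3
  rw [smul_smul, hu, one_smul, smul_smul] at h4
  rw [h4, mul_assoc]

include hS hT hc in
theorem QPair.of_commute {k k' : R} (h : QPair S T c k k') (hk : k * S = S * k) :
    (k - k') * ((c * c) • S) = 0 := by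
  obtain ⟨e, b, g, d, rfl, rfl⟩ := h
  have h1 : S * (S * T) = 0 := by rw [← mul_assoc, hS, zero_mul]
  have h4 : S * T * S = c • S := by
    rw [mul_assoc, hc, mul_sub, mul_smul_comm, mul_one, h1, sub_zero]
  have hD : g • (T * S - S * T) + (d * c) • S = 0 := by
    have h := sub_eq_zero.2 hk
    simp only [nf, add_mul, mul_add, smul_mul_assoc, mul_smul_comm, one_mul, mul_one, h4, h1, hS,
      smul_zero] at h
    rw [← h]
    module
  have hg : (g * c) • S = 0 := by
    have h := congrArg (fun z => S * z) hD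
    simp only [mul_add, mul_smul_comm, mul_sub, mul_zero, ← mul_assoc, h4, hS, zero_mul, sub_zero,
      smul_zero, add_zero, smul_smul] at h
    exact h
  have hgTS : (g * c) • (T * S) = 0 := by rw [← mul_smul_comm, hg, mul_zero]
  have hgST : (g * c) • (S * T) = 0 := by rw [← smul_mul_assoc, hg, zero_mul]
  have hd : (d * c * c) • S = 0 := by
    have h := congrArg (fun z => c • z) hD
    simp only [smul_zero, smul_add, smul_sub, smul_smul] at h
    rw [mul_comm c g, hgTS, hgST, sub_zero, zero_add, mul_comm c (d * c)] at h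
    exact h
  have hz : ∀ z : A, (z * (g * c)) • (T * S) = 0 := fun z => by rw [mul_smul, hgTS, smul_zero]
  simp only [nf, sub_mul, add_mul, smul_mul_assoc, mul_smul_comm, one_mul, h4, hS, smul_zero]
  have e1 : (g * (c * c)) • (T * S) = 0 := by rw [show g * (c * c) = c * (g * c) by ring]; exact hz c
  trans ((2 : A) • ((g * (c * c)) • (T * S)) + c • ((d * c * c) • S))
  · module
  · rw [e1, hd, smul_zero, smul_zero, add_zero]

end Algebra

variable {p w : ℕ} [Fact p.Prime] {X Q : Subgroup (GLw p w)}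

/-- A quadratic element centralizes the `p'`-groups it normalizes. -/
theorem commute_of_quadratic (hp5 : 5 ≤ p) {s : GLw p w} (hs : ((s : M2 p w) - 1) * ((s : M2 p w) - 1) = 0)
    {R : Subgroup (GLw p w)} (hR : ¬ p ∣ Nat.card R) (hn : ∀ r ∈ R, s * r * s⁻¹ ∈ R) :
    ∀ r ∈ R, r * s = s * r := by
  intro r hr
  by_contra hne
  set t := r * s * r⁻¹ with ht
  have hq : ∀ g : GLw p w, (((g * s * g⁻¹ : GLw p w) : M2 p w) - 1)
      * (((g * s * g⁻¹ : GLw p w) : M2 p w) - 1) = 0 := fun g => by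
    rw [show ((g * s * g⁻¹ : GLw p w) : M2 p w) - 1
        = (g : M2 p w) * ((s : M2 p w) - 1) * ((g⁻¹ : GLw p w) : M2 p w) by
      rw [Units.val_mul, Units.val_mul, mul_sub, sub_mul, mul_one, ← Units.val_mul g g⁻¹,
        mul_inv_cancel, Units.val_one]]
    simp only [mul_assoc]
    rw [← mul_assoc ((g⁻¹ : GLw p w) : M2 p w) (g : M2 p w), ← Units.val_mul, inv_mul_cancel,
      Units.val_one, one_mul, ← mul_assoc ((s : M2 p w) - 1) ((s : M2 p w) - 1), hs, zero_mul, mul_zero]
  rcases CfsgLib.Qd.pair_dichotomy (p := p) (by omega) (Units.coeHom (M2 p w)) s t hs (hq r) with h | h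
  · refine hne ?_
    obtain ⟨e, he⟩ := h (t * s⁻¹) (Subgroup.mul_mem _ (Subgroup.subset_closure (Or.inr rfl))
      (Subgroup.inv_mem _ (Subgroup.subset_closure (Or.inl rfl))))
    have hmem : t * s⁻¹ ∈ R := by
      rw [ht, show r * s * r⁻¹ * s⁻¹ = r * (s * r⁻¹ * s⁻¹) by group]
      exact R.mul_mem hr (hn _ (R.inv_mem hr))
    have h1 : (t * s⁻¹) ^ p ^ e = 1 := Units.ext (by
      rw [Units.val_pow_eq_pow_val, Units.val_one]; exact he)
    have h2 : (p ^ e).Coprime (Nat.card R) :=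
      Nat.Coprime.pow_left e ((Nat.Prime.coprime_iff_not_dvd Fact.out).2 hR)
    have h3 : t * s⁻¹ = 1 := by
      refine orderOf_eq_one_iff.1 (Nat.dvd_one.1 (h2 ▸ Nat.dvd_gcd (orderOf_dvd_of_pow_eq_one h1) ?_))
      have := orderOf_dvd_natCard (⟨t * s⁻¹, hmem⟩ : R)
      rwa [Subgroup.orderOf_mk] at this
    rw [ht, mul_inv_eq_one, mul_inv_eq_iff_eq_mul] at h3
    exact h3
  · obtain ⟨g, hg, P, -, ψ, hψ, -⟩ := h
    revert hψ; revert ψ
    set K := Subgroup.closure ({s, g * s * g⁻¹} : Set (GLw p w))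
    intro ψ hψ
    set M := Subgroup.closure (insert s (R : Set (GLw p w))) with hM
    have hsM : s ∈ M := Subgroup.subset_closure (Set.mem_insert _ _)
    have hRM : R ≤ M := fun a ha => Subgroup.subset_closure (Set.mem_insert_of_mem _ ha)
    have hgM : g ∈ M := (Subgroup.closure_le M).2 (Set.insert_subset hsM (Set.singleton_subset_iff.2
      (M.mul_mem (M.mul_mem (hRM hr) hsM) (M.inv_mem (hRM hr))))) hg
    have hKM : K ≤ M := (Subgroup.closure_le M).2 (Set.insert_subset hsM (Set.singleton_subset_iff.2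
      (M.mul_mem (M.mul_mem hgM hsM) (M.inv_mem hgM))))
    have hnorm : M ≤ Subgroup.normalizer (R : Set (GLw p w)) := by
      refine (Subgroup.closure_le _).2 (Set.insert_subset ?_ Subgroup.le_normalizer)
      refine Subgroup.mem_normalizer_iff''.2 fun a => ⟨fun ha => ?_, fun ha => ?_⟩
      · have hsR : MonoidHom.comp (MulAut.conj s).toMonoidHom R.subtype = MonoidHom.comp (MulAut.conj s).toMonoidHom R.subtype := rfl
        have hmap : R.map (MulAut.conj s).toMonoidHom = R :=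
          Subgroup.eq_of_le_of_card_ge (by rintro _ ⟨b, hb, rfl⟩; exact hn b hb)
            (by rw [Subgroup.card_map_of_injective (MulAut.conj s).injective])
        obtain ⟨b, hb, rfl⟩ := hmap.ge ha
        simpa [MulAut.conj_apply, mul_assoc] using hb
      · have := hn _ ha
        simpa [mul_assoc] using this
    haveI : (R.subgroupOf M).Normal := Subgroup.normal_subgroupOf_of_le_normalizer hnorm
    let π := QuotientGroup.mk' (R.subgroupOf M)
    have hcyc : ∀ m : M, π m ∈ Subgroup.zpowers (π ⟨s, hsM⟩) := by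
      rintro ⟨m, hm⟩
      induction hm using Subgroup.closure_induction with
      | mem a ha =>
        rcases ha with rfl | ha
        · exact Subgroup.mem_zpowers _
        · rw [show π ⟨a, _⟩ = 1 from (QuotientGroup.eq_one_iff _).2 ha]
          exact Subgroup.one_mem _
      | one => exact Subgroup.one_mem _
      | mul a b ha hb iha ihb => exact Subgroup.mul_mem _ iha ihb
      | inv a ha iha => exact Subgroup.inv_mem _ iha
    have hcomm : (commutator K).map ψ ≤ ((R.subgroupOf K).map ψ) := by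
      refine Subgroup.map_mono ?_
      rw [commutator_def, Subgroup.commutator_le]
      intro a _ b _
      have hab : π ((⟨a, hKM a.2⟩ : M) * ⟨b, hKM b.2⟩ * (⟨a, hKM a.2⟩ : M)⁻¹ * (⟨b, hKM b.2⟩ : M)⁻¹) = 1 := by
        obtain ⟨i, hi⟩ := Subgroup.mem_zpowers_iff.1 (hcyc ⟨a, hKM a.2⟩)
        obtain ⟨j, hj⟩ := Subgroup.mem_zpowers_iff.1 (hcyc ⟨b, hKM b.2⟩)
        rw [map_mul, map_mul, map_mul, map_inv, map_inv, ← hi, ← hj,
          (Commute.zpow_zpow_self (π ⟨s, hsM⟩) i j).eq, mul_inv_cancel_right, mul_inv_cancel]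
      have hmem : _ ∈ R.subgroupOf M := (QuotientGroup.eq_one_iff _).1 hab
      exact hmem
    have hperf : ∀ A, A ∈ commutator (Matrix.SpecialLinearGroup (Fin 2) (ZMod p)) := fun A =>
      CfsgLib.Fusion.RankTwo.mem_commutator_sl (k := ZMod p) A 2
        (by
          intro h0
          have h1 := (ZMod.natCast_eq_zero_iff 2 p).1 (by simpa using h0)
          have := Nat.le_of_dvd (by norm_num) h1
          omega)
        (by
          intro h0
          have h1 : ((3 : ℕ) : ZMod p) = 0 := by push_cast; linear_combination h0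
          have := Nat.le_of_dvd (by norm_num) ((ZMod.natCast_eq_zero_iff 3 p).1 h1)
          omega)
    have hall : (R.subgroupOf K).map ψ = ⊤ := top_le_iff.1 fun A _ => by
      refine hcomm ?_
      rw [commutator_def, Subgroup.map_commutator, Subgroup.map_top_of_surjective ψ hψ, ← commutator_def]
      exact hperf A
    refine hR (dvd_trans ?_ (dvd_trans ((R.subgroupOf K).card_map_dvd ψ) ?_))
    · rw [hall, Subgroup.card_top]
      have := orderOf_dvd_natCard (CfsgLib.Qd.up (1 : ZMod p))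
      rwa [orderOf_eq_prime (p := p) (by rw [CfsgLib.Qd.up_pow, ZMod.natCast_self, zero_mul]; simp)
        (fun h => by
          have h1 := congrArg (fun A : Matrix.SpecialLinearGroup (Fin 2) (ZMod p) => A.1 0 1) h
          simp [CfsgLib.Qd.up] at h1)] at this
    · exact Subgroup.card_dvd_of_injective
        (({ toFun := fun a => ⟨((a : K) : GLw p w), a.2⟩, map_one' := rfl, map_mul' := fun _ _ => rfl } :
          R.subgroupOf K →* R)) fun a b h => Subtype.ext (Subtype.ext (congrArg Subtype.val h :))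

/-- The data of a quadratic pair. -/
theorem exists_involution_of_core (hp5 : 5 ≤ p) {s : GLw p w} {d : ℕ} (hsX : s ∈ X) (hs1 : s ≠ 1)
    (hdS : Deg (dg w) (dg w) ((s : M2 p w) - 1) (d : ℤ)) (h2d : w ≤ 2 * d)
    (hnp : ∀ R : Subgroup X, R.Normal → IsPGroup p R → R = ⊥) :
    ∃ (K : Subgroup (GLw p w)) (τ : GLw p w), K ≤ X ∧ s ∈ K ∧ τ ∈ K ∧ τ ≠ 1 ∧ τ * τ = 1 ∧
      (∀ k ∈ K, k * τ = τ * k) ∧ 4 ∣ Nat.card K ∧
      (∀ k ∈ K, k * k = 1 → ∀ i j, i < d → w - d ≤ j → ent ((k : M2 p w) - 1) i j = 0) ∧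
      (∀ k ∈ K, Commute ((k : M2 p w) + ((k⁻¹ : GLw p w) : M2 p w)) ((s : M2 p w) - 1)) ∧
      (∀ k ∈ K, k * s = s * k →
        ((k : M2 p w) - ((k⁻¹ : GLw p w) : M2 p w)) * (((τ : M2 p w) - 1) * ((s : M2 p w) - 1)) = 0) := by
  set S := (s : M2 p w) - 1 with hSdef
  have hSS : S * S = 0 := eq_zero_of_deg (Deg.mul hdS hdS) (by omega)
  -- two conjugates of `s` generating a group that is not a `p`-group
  obtain ⟨g₀, hg₀, hnp⟩ : ∃ g ∈ X, ¬ IsPGroup p (Subgroup.closure ({s, g * s * g⁻¹} : Set (GLw p w))) := by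
    by_contra hall
    push Not at hall
    obtain ⟨R₀, hRn, hRp, hsR⟩ := CfsgLib.Invol.exists_normal_pGroup_mem (p := p) (x := (⟨s, hsX⟩ : X))
      (fun g => by
        refine (hall g g.2).of_injective (((X.subtype).comp (Subgroup.subtype _)).codRestrict
          (Subgroup.closure ({s, (g : GLw p w) * s * (g : GLw p w)⁻¹} : Set (GLw p w))) fun a => ?_) ?_
        · have ha := Subgroup.mem_map_of_mem X.subtype a.2
          rw [MonoidHom.map_closure, Set.image_insert_eq, Set.image_singleton] at ha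
          exact ha
        · intro a b h
          exact Subtype.ext (Subtype.ext (congrArg Subtype.val h :)))
    refine hs1 ?_
    have h1 := hsR
    rw [hnp R₀ hRn hRp, Subgroup.mem_bot] at h1
    exact congrArg Subtype.val h1
  -- a pair mapping onto `SL₂(p)`
  have hconj : ∀ g : GLw p w, ((g * s * g⁻¹ : GLw p w) : M2 p w) - 1
      = (g : M2 p w) * S * ((g⁻¹ : GLw p w) : M2 p w) := fun g => conj_sub_one g s
  have hquad : ∀ g : GLw p w, (((g * s * g⁻¹ : GLw p w) : M2 p w) - 1)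
      * (((g * s * g⁻¹ : GLw p w) : M2 p w) - 1) = 0 := fun g => by
    rw [hconj]
    simp only [mul_assoc]
    rw [← mul_assoc ((g⁻¹ : GLw p w) : M2 p w) (g : M2 p w), ← Units.val_mul, inv_mul_cancel,
      Units.val_one, one_mul, ← mul_assoc S S, hSS, zero_mul, mul_zero]
  rcases CfsgLib.Qd.pair_dichotomy (p := p) (by omega) (Units.coeHom (M2 p w)) s (g₀ * s * g₀⁻¹) hSS
      (hquad g₀) with h | h
  · refine absurd (fun k => ?_) hnp
    obtain ⟨e, he⟩ := h k k.2
    exact ⟨e, Subtype.ext (Units.ext (by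
      rw [SubgroupClass.coe_pow, Units.val_pow_eq_pow_val, OneMemClass.coe_one, Units.val_one]; exact he))⟩
  obtain ⟨g, hg, P, -, ψ, hψ, -⟩ := h
  revert hψ; revert ψ
  set t := g * s * g⁻¹ with ht
  set K := Subgroup.closure ({s, t} : Set (GLw p w)) with hK
  intro ψ hψ
  have hgX : g ∈ X := (Subgroup.closure_le X).2 (Set.insert_subset hsX (Set.singleton_subset_iff.2
    (X.mul_mem (X.mul_mem hg₀ hsX) (X.inv_mem hg₀)))) hg
  have hKX : K ≤ X := (Subgroup.closure_le X).2 (Set.insert_subset hsX (Set.singleton_subset_iff.2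
    (X.mul_mem (X.mul_mem hgX hsX) (X.inv_mem hgX))))
  have h4 : 4 ∣ Nat.card K := by
    refine dvd_trans ?_ (Subgroup.card_dvd_of_surjective ψ hψ)
    let J : Matrix.SpecialLinearGroup (Fin 2) (ZMod p) := ⟨!![0, 1; -1, 0], by simp [Matrix.det_fin_two_of]⟩
    have hJJ : J * J = -1 := by
      apply Subtype.ext
      show J.1 * J.1 = -(1 : Matrix (Fin 2) (Fin 2) (ZMod p))
      ext i j
      fin_cases i <;> fin_cases j <;> simp [J, Matrix.mul_apply, Fin.sum_univ_two]
    have hJ2 : J ^ 2 ≠ 1 := fun h => by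
      rw [sq, hJJ] at h
      have h1 := congrArg (fun A : Matrix.SpecialLinearGroup (Fin 2) (ZMod p) => A.1 0 0) h
      simp at h1
      have h2 : ((2 : ℕ) : ZMod p) = 0 := by push_cast; linear_combination -h1
      have := Nat.le_of_dvd (by norm_num) ((ZMod.natCast_eq_zero_iff 2 p).1 h2)
      omega
    have hJ4 : J ^ 4 = 1 := by
      rw [show (4 : ℕ) = 2 + 2 from rfl, pow_add, sq, hJJ, neg_mul_neg, one_mul]
    have := orderOf_dvd_natCard J
    rwa [orderOf_eq_prime_pow (p := 2) (n := 1) (by simpa using hJ2) (by simpa using hJ4)] at this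
  haveI : Fact (Nat.Prime 2) := ⟨Nat.prime_two⟩
  obtain ⟨⟨τ, hτK⟩, hτ⟩ := exists_prime_orderOf_dvd_card' (G := K) 2 (dvd_trans (by norm_num) h4)
  rw [Subgroup.orderOf_mk] at hτ
  have hτ1 : τ ≠ 1 := fun h => by rw [h, orderOf_one] at hτ; norm_num at hτ
  have hτ2 : τ * τ = 1 := by rw [← pow_two, ← hτ, pow_orderOf_eq_one]
  -- the quadratic algebra
  set T := (t : M2 p w) - 1 with hTdef
  have hTT : T * T = 0 := hquad g
  set C := S * T + T * S with hC
  set Cz := Subring.centralizer ({C} : Set (M2 p w))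
  have hSC : S ∈ Cz := Subring.mem_centralizer_iff.2 fun z hz => by
    rw [Set.mem_singleton_iff.1 hz, hC]
    simp only [add_mul, mul_add, mul_assoc, hSS, mul_zero, zero_add, add_zero]
    rw [← mul_assoc S S, hSS, zero_mul, zero_add]
  have hTC : T ∈ Cz := Subring.mem_centralizer_iff.2 fun z hz => by
    rw [Set.mem_singleton_iff.1 hz, hC]
    simp only [add_mul, mul_add, mul_assoc, hTT, mul_zero, zero_add, add_zero]
    rw [← mul_assoc T T, hTT, zero_mul, add_zero]
  have hCC : C ∈ Cz := Subring.mem_centralizer_iff.2 fun z hz => by rw [Set.mem_singleton_iff.1 hz]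
  let Sz : Cz := ⟨S, hSC⟩
  let Tz : Cz := ⟨T, hTC⟩
  let c : Subring.center Cz := ⟨⟨C, hCC⟩, Subring.mem_center_iff.2 fun a => Subtype.ext
    (Subring.mem_centralizer_iff.1 a.2 C rfl).symm⟩
  have hval : ∀ (a : Subring.center Cz) (z : Cz),
      ((a • z : Cz) : M2 p w) = ((a : Cz) : M2 p w) * (z : M2 p w) := fun a z => rfl
  have hS' : Sz * Sz = 0 := Subtype.ext hSS
  have hT' : Tz * Tz = 0 := Subtype.ext hTT
  have hc' : Tz * Sz = c • (1 : Cz) - Sz * Tz := Subtype.ext (by
    rw [AddSubgroupClass.coe_sub, hval]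
    simp only [Subring.coe_mul, Subring.coe_one, Sz, Tz, c, mul_one, hC]
    abel)
  -- the pairs
  let G₀ : Subgroup (GLw p w) := subgroupOfFinite
    {k | ∃ a b : Cz, (a : M2 p w) = (k : M2 p w) ∧ (b : M2 p w) = ((k⁻¹ : GLw p w) : M2 p w) ∧
      QPair Sz Tz c a b}
    ⟨1, 1, by simp, by simp, qpair_one⟩
    (fun {k l} => by
      rintro ⟨a, b, ha, hb, hab⟩ ⟨a', b', ha', hb', hab'⟩
      exact ⟨a * a', b' * b, by rw [Subring.coe_mul, ha, ha', Units.val_mul],
        by rw [Subring.coe_mul, hb, hb', mul_inv_rev, Units.val_mul], hab.mul hS' hT' hc' hab'⟩)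
  have hinv : ∀ k : GLw p w, ((k : M2 p w) - 1) * ((k : M2 p w) - 1) = 0 →
      ((k⁻¹ : GLw p w) : M2 p w) = 1 - ((k : M2 p w) - 1) := fun k hk => by
    refine (left_inv_eq_right_inv ?_ (Units.mul_inv k)).symm
    have : (1 - ((k : M2 p w) - 1)) * (k : M2 p w) = 1 - ((k : M2 p w) - 1) * ((k : M2 p w) - 1) := by
      simp only [sub_mul, mul_sub, one_mul, mul_one]; abel
    rw [this, hk, sub_zero]
  have hKG : K ≤ G₀ := by
    refine (Subgroup.closure_le G₀).2 (Set.insert_subset ?_ (Set.singleton_subset_iff.2 ?_))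
    · refine ⟨1 + Sz, 1 - Sz, by simp [Sz, hSdef], ?_, 0, 1, 0, 0, by simp [nf], ?_⟩
      · rw [hinv s hSS]; simp [Sz, hSdef]
      · simp [nf, sub_eq_add_neg]
    · refine ⟨1 + Tz, 1 - Tz, by simp [Tz, hTdef], ?_, 0, 0, 1, 0, by simp [nf], ?_⟩
      · rw [hinv t (hquad g)]; simp [Tz, hTdef]
      · simp [nf, sub_eq_add_neg]
  have h2 : (2 : ZMod p) ≠ 0 := by
    intro h0
    have := Nat.le_of_dvd (by norm_num) ((ZMod.natCast_eq_zero_iff 2 p).1 (by simpa using h0))
    omega
  have hhalf : (2 : ZMod p)⁻¹ • (1 : M2 p w) ∈ Cz := Subring.mem_centralizer_iff.2 fun z _ => by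
    rw [Matrix.mul_smul, Matrix.smul_mul, mul_one, one_mul]
  let u : Subring.center Cz := ⟨⟨_, hhalf⟩, Subring.mem_center_iff.2 fun a => Subtype.ext (by
    show (a : M2 p w) * ((2 : ZMod p)⁻¹ • (1 : M2 p w)) = ((2 : ZMod p)⁻¹ • (1 : M2 p w)) * (a : M2 p w)
    rw [Matrix.mul_smul, Matrix.smul_mul, mul_one, one_mul])⟩
  have hu : u * 2 = 1 := by
    rw [mul_two]
    refine Subtype.ext (Subtype.ext ?_)
    show (2 : ZMod p)⁻¹ • (1 : M2 p w) + (2 : ZMod p)⁻¹ • (1 : M2 p w) = 1
    rw [← two_smul (ZMod p), smul_smul, mul_inv_cancel₀ h2, one_smul]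
  have hcomm : ∀ (a : Subring.center Cz) {z : M2 p w}, z ∈ Cz → Commute ((a : Cz) : M2 p w) z :=
    fun a z hz => (congrArg Subtype.val (Subring.mem_center_iff.1 a.2 ⟨z, hz⟩)).symm
  obtain ⟨az, bz, haz, hbz, hτp⟩ := hKG hτK
  have habz : az = bz := Subtype.ext (by rw [haz, hbz, inv_eq_of_mul_eq_one_right hτ2])
  subst habz
  obtain ⟨f, hf⟩ := hτp.involution hu
  have hτf : (τ : M2 p w) - 1 = ((f : Cz) : M2 p w) * C := by
    have := congrArg Subtype.val hf
    rw [AddSubgroupClass.coe_sub, hval, Subring.coe_one, haz, mul_one, Subring.coe_mul, Subring.coe_mul] at this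
    exact this
  have hcs : ∀ {z : M2 p w}, z ∈ Cz → Commute ((τ : M2 p w) - 1) z := fun {z} hz => by
    rw [hτf]
    exact (hcomm f hz).mul_left (Subring.mem_centralizer_iff.1 hz C rfl)
  refine ⟨K, τ, hKX, Subgroup.subset_closure (Or.inl rfl), hτK, hτ1, hτ2, fun k hk => ?_, h4,
    fun k hk hk2 i j hi hj => ?_, fun k hk => ?_, fun k hk hks => ?_⟩
  · obtain ⟨a, b, ha, -, -⟩ := hKG hk
    have h := (hcs a.2).add_left (Commute.one_left _)
    rw [sub_add_cancel, ha] at h
    exact Units.ext (by rw [Units.val_mul, Units.val_mul]; exact h.eq.symm)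
  · by_cases hlt : i < w ∧ j < w
    · obtain ⟨ak, bk, hak, hbk, hkp⟩ := hKG hk
      have hab : ak = bk := Subtype.ext (by rw [hak, hbk, inv_eq_of_mul_eq_one_right hk2])
      subst hab
      obtain ⟨f, hf⟩ := hkp.involution hu
      have hτf : (k : M2 p w) - 1 = ((f : Cz) : M2 p w) * C := by
        have := congrArg Subtype.val hf
        rw [AddSubgroupClass.coe_sub, hval, Subring.coe_one, hak, mul_one, Subring.coe_mul, Subring.coe_mul] at this
        exact this
      rw [hτf, hC, mul_add, ← mul_assoc, (hcomm f hSC).eq, mul_assoc, ← mul_assoc _ T S, ent_add,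
        ent_mul hlt.1, ent_mul hlt.1]
      rw [Finset.sum_eq_zero fun l _ => by rw [hdS.ent_eq (by push_cast; omega), zero_mul],
        Finset.sum_eq_zero fun l _ => by
          rw [hdS.ent_eq (i := (l : ℕ)) (j := j) (by have := l.2; push_cast; omega), mul_zero],
        add_zero]
    · exact ent_of_le (by omega)
  · obtain ⟨a, b, ha, hb, hab⟩ := hKG hk
    obtain ⟨r, hr⟩ := hab.sum_eq
    have h := congrArg Subtype.val hr
    rw [Subring.coe_add, ha, hb, hval, Subring.coe_one, mul_one] at h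
    rw [h]
    exact hcomm r hSC
  · obtain ⟨a, b, ha, hb, hab⟩ := hKG hk
    have hcS : a * Sz = Sz * a := Subtype.ext (by
      rw [Subring.coe_mul, Subring.coe_mul, ha]
      exact commute_sub_one hks)
    have h := congrArg Subtype.val (hab.of_commute hS' hT' hc' hcS)
    rw [Subring.coe_mul, AddSubgroupClass.coe_sub, hval, ha, hb, ZeroMemClass.coe_zero, Subring.coe_mul,
      Subring.coe_mul] at h
    change _ * (C * C * S) = 0 at h
    set D := (k : M2 p w) - ((k⁻¹ : GLw p w) : M2 p w)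
    set E := (τ : M2 p w) - 1 with hE
    set F := ((f : Cz) : M2 p w)
    have hsq : D * (E * E * S) = 0 := by
      have hFC : Commute F C := hcomm f hCC
      have hFS : Commute F S := hcomm f hSC
      rw [hτf, show F * C * (F * C) * S = C * C * S * (F * F) by
        rw [show F * C * (F * C) = F * F * (C * C) by
          rw [mul_assoc F C, ← mul_assoc C F C, ← hFC.eq, mul_assoc F C C, ← mul_assoc F F],
          mul_assoc]
        exact (((hFC.mul_right hFC).mul_right hFS).mul_left ((hFC.mul_right hFC).mul_right hFS)).eq,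
        ← mul_assoc, h, zero_mul]
    have hEE : E * E = -((2 : ℕ) • E) := by
      have h1 : (τ : M2 p w) * (τ : M2 p w) = 1 := by rw [← Units.val_mul, hτ2, Units.val_one]
      rw [hE, sub_mul, mul_sub, mul_one, one_mul, h1]
      abel
    rw [hEE, neg_mul, mul_neg, neg_eq_zero, smul_mul_assoc, mul_smul_comm, ← Nat.cast_smul_eq_nsmul (ZMod p)] at hsq
    exact (smul_eq_zero.1 hsq).resolve_left (by exact_mod_cast h2)

/-- The data of a quadratic pair in an irreducible group. -/
theorem Reg.exists_involution (hR : Reg X Q) (hirr : Irr X) (hp5 : 5 ≤ p) {s : GLw p w} {d : ℕ}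
    (hc : Ctr X Q s d) (hwp : w ≤ p) (h2d : w ≤ 2 * d) :
    ∃ (K : Subgroup (GLw p w)) (τ : GLw p w), K ≤ X ∧ s ∈ K ∧ τ ∈ K ∧ τ ≠ 1 ∧ τ * τ = 1 ∧
      (∀ k ∈ K, k * τ = τ * k) ∧ 4 ∣ Nat.card K ∧
      (∀ k ∈ K, k * k = 1 → ∀ i j, i < d → w - d ≤ j → ent ((k : M2 p w) - 1) i j = 0) ∧
      (∀ k ∈ K, Commute ((k : M2 p w) + ((k⁻¹ : GLw p w) : M2 p w)) ((s : M2 p w) - 1)) ∧
      (∀ k ∈ K, k * s = s * k →
        ((k : M2 p w) - ((k⁻¹ : GLw p w) : M2 p w)) * (((τ : M2 p w) - 1) * ((s : M2 p w) - 1)) = 0) := by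
  obtain ⟨x, hxQ, hx⟩ := hR.shift
  have hwd := hc.lt
  have hsQ : s ∈ Q := (hR.mem_Gam.1 hc.mem).1
  refine exists_involution_of_core hp5 (hR.le hsQ) hc.ne (mem_Dg.1 hc.deg) h2d fun R₀ hRn hRp => ?_
  by_contra hRb
  obtain ⟨⟨r₀, hr₀X⟩, hr₀, hr₀1⟩ : ∃ r ∈ R₀, r ≠ 1 := by
    by_contra hall
    push Not at hall
    exact hRb ((Subgroup.eq_bot_iff_forall _).2 hall)
  haveI := hRn
  have hQ' : IsPGroup p (Q.subgroupOf X) := hR.isP.of_equiv (Subgroup.subgroupOfEquivOfLe hR.le).symm
  obtain ⟨S', hS'⟩ := hRp.exists_le_sylow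
  obtain ⟨z, hz⟩ := MulAction.exists_smul_eq X S' (hQ'.toSylow hR.sylow)
  have hRQ : ∀ r ∈ R₀, (r : GLw p w) ∈ Q := by
    intro r hr
    have h1 : z * (z⁻¹ * r * z) * z⁻¹ ∈ ((z • S' : Sylow p X) : Subgroup X) := by
      rw [Sylow.coe_subgroup_smul]
      exact Subgroup.smul_mem_pointwise_smul (z⁻¹ * r * z) (MulAut.conj z) _
        (hS' (by simpa using hRn.conj_mem r hr z⁻¹))
    rw [hz, show z * (z⁻¹ * r * z) * z⁻¹ = r by group] at h1
    have h3 : r ∈ Q.subgroupOf X := h1
    exact h3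
  refine irr_of_kill hirr {A | ∃ r ∈ R₀, A = ((r : GLw p w) : M2 p w) - 1}
    ⟨(r₀ : M2 p w) - 1, ⟨⟨r₀, hr₀X⟩, hr₀, rfl⟩, fun h0 => hr₀1 (Subtype.ext (Units.ext (sub_eq_zero.1 h0)))⟩ ?_ ?_ ?_
  · rintro _ ⟨r, hr, rfl⟩ i
    by_cases hi : i < w
    · exact (mem_Uni.1 (hR.uni (hRQ r hr))).ent_eq (by omega)
    · exact ent_of_le (Or.inl (by omega))
  all_goals
    have key : ∀ g : X, ∀ B : M2 p w, (∀ A ∈ {A | ∃ r ∈ R₀, A = ((r : GLw p w) : M2 p w) - 1}, A * B = 0) →
        ∀ r ∈ R₀, (((r : GLw p w) : M2 p w) - 1) * (((g : GLw p w) : M2 p w) * B) = 0 := by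
      intro g B hB r hr
      have h1 := hB _ ⟨g⁻¹ * r * g, by simpa using hRn.conj_mem r hr g⁻¹, rfl⟩
      have h2 : (((r : GLw p w) : M2 p w) - 1) * ((g : GLw p w) : M2 p w)
          = ((g : GLw p w) : M2 p w) * (((g⁻¹ * r * g : X) : GLw p w) - 1 : M2 p w) := by
        rw [sub_mul, one_mul, mul_sub, mul_one, ← Units.val_mul, ← Units.val_mul]
        congr 2
        simp [mul_assoc]
      rw [← mul_assoc, h2, mul_assoc, h1, mul_zero]
  · rintro B hB _ ⟨r, hr, rfl⟩
    have h1 := key ⟨x, hR.le hxQ⟩ B hB r hr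
    rw [show ((⟨x, hR.le hxQ⟩ : X) : GLw p w) = x from rfl, hx, add_mul, one_mul, mul_add,
      hB _ ⟨r, hr, rfl⟩, zero_add] at h1
    exact h1
  · rintro g hg B hB _ ⟨r, hr, rfl⟩
    exact key ⟨g, hg⟩ B hB r hr

end CfsgLib.RegUnip
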