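import Cfsg.Agent.Lib.RegUnip.Comp

/-!
# The constituents: restriction to an interval of the flag
-/

set_option autoImplicit false
set_option linter.style.haveILetI false

open Finset
open scoped Classical

namespace CfsgLib.RegUnip

/-- A `p`-subgroup is conjugate into a Sylow subgroup. -/
theorem exists_conj_le {G : Type*} [Group G] [Finite G] {p : ℕ} [Fact p.Prime] {A B Z : Subgroup G}
    (hA : IsPGroup p A) (hAZ : A ≤ Z) (hidx : ¬ p ∣ A.relIndex Z) (hB : IsPGroup p B) (hBZ : B ≤ Z) :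
    ∃ z ∈ Z, ∀ b ∈ B, z * b * z⁻¹ ∈ A := by
  haveI : Finite Z := inferInstance
  have hA' : IsPGroup p (A.subgroupOf Z) := hA.of_equiv (Subgroup.subgroupOfEquivOfLe hAZ).symm
  have hB' : IsPGroup p (B.subgroupOf Z) := hB.of_equiv (Subgroup.subgroupOfEquivOfLe hBZ).symm
  obtain ⟨S, hS⟩ := hB'.exists_le_sylow
  obtain ⟨z, hz⟩ := MulAction.exists_smul_eq Z S (hA'.toSylow hidx)
  refine ⟨z, z.2, fun b hb => ?_⟩
  have h1 : z * ⟨b, hBZ hb⟩ * z⁻¹ ∈ (z • S : Sylow p Z) := by
    show _ ∈ ((z • S : Sylow p Z) : Subgroup Z)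
    rw [Sylow.coe_subgroup_smul]
    exact Subgroup.smul_mem_pointwise_smul (⟨b, hBZ hb⟩ : Z) (MulAut.conj z) _ (hS hb)
  rw [hz] at h1
  exact h1

variable {p w : ℕ} [Fact p.Prime] {X Q : Subgroup (GLw p w)}

theorem pow_p_eq_one {g : GLw p w} (hwp : w ≤ p) (hg : g ∈ Uni p w) : g ^ p = 1 := by
  refine Units.ext ?_
  rw [Units.val_pow_eq_pow_val, Units.val_one]
  rcases Nat.eq_zero_or_pos w with rfl | hw
  · exact Matrix.ext fun i => i.elim0
  haveI : Nonempty (Fin w) := ⟨⟨0, hw⟩⟩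
  have h : (g : M2 p w) ^ p - 1 = ((g : M2 p w) - 1) ^ p := by
    rw [sub_pow_char_of_commute p (Commute.one_right _), one_pow]
  have h2 := Deg.pow (mem_Uni.1 hg) p
  rw [← h] at h2
  exact sub_eq_zero.1 (eq_zero_of_deg h2 (by push_cast; omega))

theorem inv_zero_step (g : M2 p w) : Inv g 0 := fun i j hi _ => absurd hi (by omega)

theorem inv_last_step (g : M2 p w) {c : ℕ} (hc : w ≤ c) : Inv g c := fun i j _ hj => ent_of_le (Or.inr (by omega))

/-- A maximal interval without invariant step. -/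
theorem exists_block {Y : Subgroup (GLw p w)} {k : ℕ} (hkw : k ≤ w) (hk : ¬ Y ≤ St p w k) :
    ∃ a b, a < k ∧ k < b ∧ b ≤ w ∧ Y ≤ St p w a ∧ Y ≤ St p w b ∧
      ∀ c, a < c → c < b → ¬ Y ≤ St p w c := by
  have h0 : Y ≤ St p w 0 := fun g _ => inv_zero_step _
  have hex : ∃ b, k ≤ b ∧ Y ≤ St p w b := ⟨w, hkw, fun g _ => inv_last_step _ le_rfl⟩
  obtain ⟨hkb, hb⟩ := Nat.find_spec hex
  have ha := Nat.findGreatest_spec (P := fun c => Y ≤ St p w c) (Nat.zero_le k) h0
  refine ⟨Nat.findGreatest (fun c => Y ≤ St p w c) k, Nat.find hex, ?_, ?_,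
    Nat.find_min' hex ⟨hkw, fun g _ => inv_last_step _ le_rfl⟩, ha, hb, fun c hac hcb hc => ?_⟩
  · exact lt_of_le_of_ne (Nat.findGreatest_le k) fun h => hk (h ▸ ha)
  · exact lt_of_le_of_ne hkb fun h => hk (h ▸ hb)
  · rcases Nat.lt_or_ge c k with h | h
    · exact absurd (Nat.le_findGreatest (P := fun c => Y ≤ St p w c) h.le hc) (by omega)
    · exact Nat.find_min hex hcb ⟨h, hc⟩

/-- The interval of a matrix. -/
noncomputable def res (a m : ℕ) (g : M2 p w) : M2 p m :=
  Matrix.of fun i j => ent g (a + i) (a + j)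

theorem ent_res {a m : ℕ} (g : M2 p w) {i j : ℕ} (hi : i < m) (hj : j < m) :
    ent (res a m g) i j = ent g (a + i) (a + j) := by
  rw [ent, dif_pos ⟨hi, hj⟩]
  rfl

theorem res_one {a m : ℕ} (hm : a + m ≤ w) : res a m (1 : M2 p w) = 1 :=
  ext_ent fun i j hi hj => by
    rw [ent_res _ hi hj, ent_one (by omega), ent_one hi]
    exact if_congr (by omega) rfl rfl

theorem res_mul {a m : ℕ} (hm : a + m ≤ w) {g h : M2 p w} (hg : Inv g (a + m)) (hh : Inv h a) :
    res a m (g * h) = res a m g * res a m h :=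
  ext_ent fun i j hi hj => by
    rw [ent_res _ hi hj, ent_mul (show a + i < w by omega), ent_mul hi]
    set F : ℕ → ZMod p := fun k => ent g (a + i) k * ent h k (a + j) with hF
    rw [Fin.sum_univ_eq_sum_range F, Finset.sum_congr rfl fun (k : Fin m) _ =>
      show ent (res a m g) i k * ent (res a m h) k j = F (a + k) by
        rw [ent_res _ hi k.2, ent_res _ k.2 hj],
      Fin.sum_univ_eq_sum_range (fun k => F (a + k))]
    rw [show w = a + m + (w - (a + m)) by omega, Finset.sum_range_add, Finset.sum_range_add,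
      Finset.sum_eq_zero (s := Finset.range a) fun k hk => ?_,
      Finset.sum_eq_zero (s := Finset.range (w - (a + m))) fun k hk => ?_, zero_add, add_zero]
    · simp only [hF]
      rw [hg (a + i) (a + m + k) (by omega) (by omega), zero_mul]
    · simp only [Finset.mem_range] at hk
      simp only [hF]
      rw [hh k (a + j) hk (by omega), mul_zero]

theorem deg_res {a m : ℕ} {g : M2 p w} {e : ℤ} (h : Deg (dg w) (dg w) g e) :
    Deg (dg m) (dg m) (res a m g) e :=
  deg_iff.2 fun i j hij => by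
    by_cases hlt : i < m ∧ j < m
    · rw [ent_res _ hlt.1 hlt.2, h.ent_eq (by push_cast; omega)]
    · exact ent_of_le (by omega)

variable {a m : ℕ} {Y : Subgroup (GLw p w)}

/-- The restriction to an interval with invariant ends. -/
noncomputable def resHom (hm : a + m ≤ w) (hYa : Y ≤ St p w a) (hYb : Y ≤ St p w (a + m)) :
    Y →* GLw p m :=
  MonoidHom.toHomUnits
    { toFun := fun g => res a m ((g : GLw p w) : M2 p w)
      map_one' := res_one hm
      map_mul' := fun g h => by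
        rw [Subgroup.coe_mul, Units.val_mul]
        exact res_mul hm (hYb g.2) (hYa h.2) }

theorem resHom_val (hm : a + m ≤ w) (hYa : Y ≤ St p w a) (hYb : Y ≤ St p w (a + m)) (g : Y) :
    ((resHom hm hYa hYb g : GLw p m) : M2 p m) = res a m ((g : GLw p w) : M2 p w) := rfl

variable (hR : Reg X Q) (hQY : Q ≤ Y) (hm : a + m ≤ w) (hm1 : 1 < m) (hYa : Y ≤ St p w a)
  (hYb : Y ≤ St p w (a + m)) (hYX : Y ≤ X) (hwp : w ≤ p)

include hR hQY hm1 hYX hwp in
theorem Reg.block : Reg (resHom hm hYa hYb).range ((Q.subgroupOf Y).map (resHom hm hYa hYb)) := by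
  set f := resHom hm hYa hYb with hf
  obtain ⟨x, hxQ, hx⟩ := hR.shift
  have hval : ∀ g : Y, ((f g : GLw p m) : M2 p m) = res a m ((g : GLw p w) : M2 p w) := fun g => rfl
  have hres : ((f ⟨x, hQY hxQ⟩ : GLw p m) : M2 p m) = 1 + shiftN (ZMod p) m := by
    rw [hval]
    refine ext_ent fun i j hi hj => ?_
    rw [ent_res _ hi hj, hx, ent_add, ent_add, ent_one (by omega), ent_one hi, ent_shiftN, ent_shiftN]
    congr 1 <;> exact if_congr (by omega) rfl rfl
  have huni : ∀ g : Y, (g : GLw p w) ∈ Uni p w → f g ∈ Uni p m := fun g hg => by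
    refine mem_Uni.2 ?_
    have h := deg_res (a := a) (m := m) (mem_Uni.1 hg)
    rw [hval]
    convert h using 1
    refine ext_ent fun i j hi hj => ?_
    rw [ent_sub, ent_res _ hi hj, ent_res _ hi hj, ent_sub, ent_one hi, ent_one (by omega)]
    congr 1
    exact if_congr (by omega) rfl rfl
  have hsub : ∀ g : Y, (g : GLw p w) ∈ Q → ∀ i, i + 1 < m →
      ent ((f g : GLw p m) : M2 p m) (i + 1) i = ent ((g : GLw p w) : M2 p w) 1 0 := fun g hg i hi => by
    rw [hval, ent_res _ hi (by omega), ← add_assoc, hR.const _ hg (a + i) (by omega)]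
  refine
    { le := Subgroup.map_le_range _ _
      isP := (hR.isP.of_equiv (Subgroup.subgroupOfEquivOfLe hQY).symm).map f
      sylow := ?_
      uni := ?_
      const := ?_
      shift := ⟨_, Subgroup.mem_map_of_mem f (show (⟨x, hQY hxQ⟩ : Y) ∈ Q.subgroupOf Y from hxQ), hres⟩
      cyc := ?_ }
  · rw [MonoidHom.range_eq_map, Subgroup.relIndex_map_map, top_sup_eq, Subgroup.relIndex_top_right]
    intro hd
    refine hR.sylow ((hd.trans (Subgroup.index_dvd_of_le le_sup_left)).trans ?_)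
    exact Dvd.intro _ (Subgroup.relIndex_mul_relIndex Q Y X hQY hYX)
  · rintro _ ⟨g, hg, rfl⟩
    exact huni g (hR.uni hg)
  · rintro _ ⟨g, hg, rfl⟩ i hi
    rw [hsub g hg i hi, hsub g hg 0 (by omega)]
  · rintro _ ⟨γ, hγ, rfl⟩ _ ⟨δ, hδ, rfl⟩ hγ0 hδ0 hγc hδc hγ1
    rw [hsub γ hγ 0 (by omega)] at hγ0
    rw [hsub δ hδ 0 (by omega)] at hδ0
    set xY : Y := ⟨x, hQY hxQ⟩
    set GY : Subgroup Y := (Gam Q).subgroupOf Y with hGY
    set T : Subgroup Y := GY ⊓ (Subgroup.centralizer {f xY}).comap f with hT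
    set K : Subgroup Y := GY ⊓ f.ker with hK
    have hKT : K ≤ T := fun k hk => ⟨hk.1, by
      show f k ∈ Subgroup.centralizer {f xY}
      rw [show f k = 1 from hk.2]
      exact Subgroup.one_mem _⟩
    have hmemT : ∀ g : Y, (g : GLw p w) ∈ Q → ent ((g : GLw p w) : M2 p w) 1 0 = 0 →
        Commute ((f g : GLw p m) : M2 p m) (shiftN (ZMod p) m) → g ∈ T := fun g hg h0 hc => by
      refine ⟨hR.mem_Gam.2 ⟨hg, h0⟩, ?_⟩
      show f g ∈ Subgroup.centralizer {f xY}
      rw [Subgroup.mem_centralizer_singleton_iff]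
      exact Units.ext (by rw [Units.val_mul, Units.val_mul, hres]; exact ((Commute.one_right _).add_right hc).eq)
    set C : Set Y := {c | c ∈ GY ∧ c * xY = xY * c} with hC
    have hCp : Nat.card C ≤ p := by
      by_cases htriv : ∀ c ∈ C, c = 1
      · haveI : Subsingleton C := ⟨fun c d => Subtype.ext ((htriv c c.2).trans (htriv d d.2).symm)⟩
        rw [Nat.card_eq_fintype_card]
        exact le_trans (Fintype.card_le_one_iff_subsingleton.2 this) (Fact.out : p.Prime).one_le
      · push Not at htriv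
        obtain ⟨c₀, hc₀, hc₀1⟩ := htriv
        have hall : ∀ c : C, (c : Y) ∈ Subgroup.zpowers c₀ := fun c => by
          have h1 := hR.cyc (c₀ : GLw p w) (hR.mem_Gam.1 hc₀.1).1 ((c : Y) : GLw p w) (hR.mem_Gam.1 c.2.1).1
            (hR.mem_Gam.1 hc₀.1).2 (hR.mem_Gam.1 c.2.1).2
            ((hR.commute_shift hx).2 (congrArg Subtype.val hc₀.2)) ((hR.commute_shift hx).2 (congrArg Subtype.val c.2.2))
            fun h => hc₀1 (Subtype.ext h)
          obtain ⟨z, hz⟩ := Subgroup.mem_zpowers_iff.1 h1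
          exact Subgroup.mem_zpowers_iff.2 ⟨z, Subtype.ext (by rw [SubgroupClass.coe_zpow]; exact hz)⟩
        refine le_trans (Nat.card_le_card_of_injective (fun c : C => (⟨c, hall c⟩ : Subgroup.zpowers c₀))
          fun c d h => Subtype.ext (congrArg (fun z => ((z : Subgroup.zpowers c₀) : Y)) h)) ?_
        rw [Nat.card_zpowers]
        exact Nat.le_of_dvd (Fact.out : p.Prime).pos (orderOf_dvd_of_pow_eq_one (Subtype.ext (by
          rw [SubgroupClass.coe_pow, OneMemClass.coe_one]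
          exact pow_p_eq_one hwp (hR.uni (hR.mem_Gam.1 hc₀.1).1))))
    -- commutation with the shift
    have hφ : ∀ t : T, xY * t * xY⁻¹ * (t : Y)⁻¹ ∈ K := fun t => by
      refine ⟨?_, ?_⟩
      · have hq := hR.mem_Gam.1 t.2.1
        have hQ := Q.mul_mem (Q.mul_mem hxQ hq.1) (Q.inv_mem hxQ)
        refine hR.mem_Gam.2 ⟨Q.mul_mem hQ (Q.inv_mem hq.1), ?_⟩
        have h1 := ent_mul_sub (hR.uni hQ) (hR.uni (Q.inv_mem hq.1)) 0
        have h2 := ent_mul_sub (hR.uni hq.1) (hR.uni (Q.inv_mem hq.1)) 0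
        rw [mul_inv_cancel, Units.val_one, hq.2, zero_add, ent_one (by omega), if_neg (by omega), zero_add] at h2
        rw [hR.ent_conj hxQ hq.1, hq.2, zero_add, zero_add, ← h2] at h1
        exact h1
      · have hc : f xY * f t = f t * f xY := (Subgroup.mem_centralizer_singleton_iff.1 t.2.2).symm
        show f _ = 1
        rw [map_mul, map_mul, map_mul, map_inv, map_inv, hc,
          mul_inv_cancel_right, mul_inv_cancel]
    let φ : T → K := fun t => ⟨_, hφ t⟩
    have hfib : ∀ t t' : T, φ t = φ t' → (t' : Y)⁻¹ * t ∈ C := fun t t' h => by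
      refine ⟨GY.mul_mem (GY.inv_mem t'.2.1) t.2.1, ?_⟩
      have h1 : xY * t * xY⁻¹ * (t : Y)⁻¹ = xY * t' * xY⁻¹ * (t' : Y)⁻¹ := congrArg Subtype.val h
      have h2 : (t : Y) * xY⁻¹ * (t : Y)⁻¹ = t' * xY⁻¹ * (t' : Y)⁻¹ := by
        simpa [mul_assoc] using h1
      calc (t' : Y)⁻¹ * t * xY = (t' : Y)⁻¹ * ((t : Y) * xY⁻¹ * (t : Y)⁻¹)⁻¹ * t := by group
        _ = (t' : Y)⁻¹ * ((t' : Y) * xY⁻¹ * (t' : Y)⁻¹)⁻¹ * t := by rw [h2]
        _ = xY * ((t' : Y)⁻¹ * t) := by group
    have hTle : Nat.card T ≤ Nat.card K * Nat.card C := by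
      rw [← Nat.card_prod]
      have hinv : ∀ t, φ (Function.invFun φ (φ t)) = φ t := fun t => Function.invFun_eq ⟨t, rfl⟩
      refine Nat.card_le_card_of_injective
        (fun t : T => (φ t, (⟨_, hfib t (Function.invFun φ (φ t)) (hinv t).symm⟩ : C))) fun t t' h => ?_
      obtain ⟨h1, h2⟩ := Prod.ext_iff.1 h
      have h3 := congrArg Subtype.val h2
      simp only at h3 h1
      rw [← h1] at h3
      exact Subtype.ext (mul_left_cancel h3)
    have himg : Nat.card (T.map f) ≤ p := by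
      have h1 : Nat.card (f.comp T.subtype).ker = Nat.card K := by
        have e : (f.comp T.subtype).ker = K.subgroupOf T := by
          ext t
          exact ⟨fun h => ⟨t.2.1, h⟩, fun h => h.2⟩
        rw [e]
        exact Nat.card_congr (Subgroup.subgroupOfEquivOfLe hKT).toEquiv
      have h2 := Subgroup.card_mul_index (f.comp T.subtype).ker
      rw [Subgroup.index_ker, MonoidHom.range_comp, Subgroup.range_subtype, h1] at h2
      refine Nat.le_of_mul_le_mul_left ?_ (Nat.card_pos (α := K))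
      rw [h2]
      exact hTle.trans (Nat.mul_le_mul_left _ hCp)
    have hmem : f γ ∈ T.map f := Subgroup.mem_map_of_mem f (hmemT γ hγ hγ0 hγc)
    have hord : orderOf (f γ) = p :=
      orderOf_eq_prime (pow_p_eq_one (by omega) (huni γ (hR.uni hγ))) hγ1
    have heq : Subgroup.zpowers (f γ) = T.map f :=
      Subgroup.eq_of_le_of_card_ge (Subgroup.zpowers_le.2 hmem) (by rw [Nat.card_zpowers, hord]; exact himg)
    rw [heq]
    exact Subgroup.mem_map_of_mem f (hmemT δ hδ hδ0 hδc)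

include hR hQY hm1 hYX hwp in
/-- The triangular part of a constituent lifts with the same diagonal. -/
theorem Reg.lift_diag {h : GLw p m} (hh : h ∈ (resHom hm hYa hYb).range) (hl : h ∈ Low p m) :
    ∃ g : Y, (g : GLw p w) ∈ Low p w ∧ ∀ i < m,
      ent (h : M2 p m) i i = ent ((g : GLw p w) : M2 p w) (a + i) (a + i) := by
  set f := resHom hm hYa hYb with hf
  have hB := hR.block hQY hm hm1 hYa hYb hYX hwp
  obtain ⟨g₀, rfl⟩ := hh
  set P := (Q.subgroupOf Y).map f with hP
  set A := Q.subgroupOf Y with hA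
  have hAZ : A ≤ P.comap f := Subgroup.le_comap_map _ _
  have hAp : IsPGroup p A := hR.isP.of_equiv (Subgroup.subgroupOfEquivOfLe hQY).symm
  have hBZ : A.map (MulAut.conj g₀).toMonoidHom ≤ P.comap f := by
    rintro _ ⟨q, hq, rfl⟩
    rw [Subgroup.mem_comap, MulEquiv.coe_toMonoidHom, MulAut.conj_apply, map_mul, map_mul, map_inv]
    exact hB.conj_mem ⟨g₀, rfl⟩ hl (Subgroup.mem_map_of_mem f hq)
  obtain ⟨z, hz, hconj⟩ := exists_conj_le hAp hAZ (fun hd => hR.sylow
    (dvd_trans (hd.trans (Dvd.intro _ (Subgroup.relIndex_mul_relIndex A (P.comap f) ⊤ hAZ le_top)))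
      (by rw [Subgroup.relIndex_top_right]; exact Dvd.intro _ (Subgroup.relIndex_mul_relIndex Q Y X hQY hYX))))
    (hAp.map _) hBZ
  obtain ⟨x, hxQ, hx⟩ := hR.shift
  have hyx := hconj _ ⟨⟨x, hQY hxQ⟩, hxQ, rfl⟩
  have hyl : ((z * g₀ : Y) : GLw p w) ∈ Low p w := by
    refine low_of_conj hx (hR.uni ?_)
    have h1 := Subgroup.mem_subgroupOf.1 hyx
    simpa [MulAut.conj_apply, mul_assoc] using h1
  refine ⟨z * g₀, hyl, fun i hi => ?_⟩
  have hzU : f z ∈ Uni p m := hB.uni hz
  rw [← ent_res (a := a) (m := m) ((((z * g₀ : Y)) : GLw p w) : M2 p w) hi hi, ← resHom_val hm hYa hYb,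
    ← hf, map_mul, ent_diag_low (uni_le_low hzU) hl,
    (mem_Uni_iff_diag (uni_le_low hzU)).1 hzU i hi, one_mul]

include hm in
/-- The constituent has no invariant step. -/
theorem irr_block (hmid : ∀ c, a < c → c < a + m → ¬ Y ≤ St p w c) :
    Irr (resHom hm hYa hYb).range := fun c hc0 hcm hle => by
  refine hmid (a + c) (by omega) (by omega) fun g hg i j hi hj => ?_
  rcases Nat.lt_or_ge i a with hia | hia
  · exact hYa hg i j hia (by omega)
  rcases Nat.lt_or_ge j (a + m) with hjb | hjb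
  · have h := hle ⟨⟨g, hg⟩, rfl⟩ (i - a) (j - a) (by omega) (by omega)
    rw [resHom_val, ent_res _ (by omega) (by omega)] at h
    rwa [Nat.add_sub_cancel' hia, Nat.add_sub_cancel' (by omega : a ≤ j)] at h
  · exact hYb hg i j (by omega) hjb

end CfsgLib.RegUnip
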