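import Cfsg.Agent.Lib.RegUnip.Quad

/-!
# The case of a very short step
-/

set_option autoImplicit false
set_option linter.style.haveILetI false

open Finset
open scoped Classical

namespace CfsgLib.RegUnip

variable {p w : ℕ} [Fact p.Prime] {X Q : Subgroup (GLw p w)}

theorem exists_step {Y : Subgroup (GLw p w)} (h : ¬ Y ≤ Low p w) : ∃ k, k < w ∧ ¬ Y ≤ St p w k := by
  by_contra hall
  push Not at hall
  refine h fun g hg => mem_Low.2 (deg_zero_iff.2 fun a => ?_)
  rcases Nat.lt_or_ge a w with ha | ha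
  · exact hall a ha hg
  · exact inv_last_step _ ha

theorem eq_one_of_invol_uni {τ : GLw p w} (hp : p ≠ 2) (hwp : w ≤ p) (h2 : τ * τ = 1)
    (hτ : τ ∈ Uni p w) : τ = 1 := by
  obtain ⟨k, hk⟩ := ((Fact.out : p.Prime).odd_of_ne_two hp)
  have h : τ ^ (2 * k + 1) = 1 := (congrArg (τ ^ ·) hk.symm).trans (pow_p_eq_one hwp hτ)
  rwa [pow_succ, pow_mul, pow_two, h2, one_pow, one_mul] at h

/-- No step shorter than the middle. -/
theorem Reg.case_big (hR : Reg X Q) (hirr : Irr X) (hp5 : 5 ≤ p) (hwp : w ≤ p - 1) (hind : Small p w)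
    {s : GLw p w} {d : ℕ} (hc : Ctr X Q s d) (hA : w + 2 ≤ 2 * d) : False := by
  have hdw := hc.lt
  have hd2 := hc.two_le
  obtain ⟨K, τ, hKX, hsK, hτK, hτ1, hτ2, hτc, -, hmid, -, -⟩ :=
    hR.exists_involution hirr hp5 hc (by omega) (by omega)
  have hd1 : Cs X s ≤ St p w d := by simpa using hc.le_St 1
  have hd1' := hc.le_St'
  let Y : Subgroup (GLw p w) := subgroupOfFinite
    {g | g ∈ Cs X s ∧ ∀ i j, w - d ≤ i → i ≤ j → j < d →
      ent (g : M2 p w) i j = if i = j then 1 else 0}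
    ⟨one_mem _, fun i j hi hij hj => by rw [Units.val_one, ent_one (by omega)]⟩
    (fun {g h} ⟨hg, hg'⟩ ⟨hh, hh'⟩ => ⟨Subgroup.mul_mem _ hg hh, fun i j hi hij hj => by
      rw [Units.val_mul, ent_mul (by omega)]
      have hk : ∀ k : Fin w, (k : ℕ) ≠ i → ent (g : M2 p w) i k * ent (h : M2 p w) k j = 0 := by
        intro k hk
        rcases Nat.lt_or_gt_of_ne hk with hlt | hgt
        · rcases Nat.lt_or_ge (k : ℕ) (w - d) with h1 | h1
          · rw [hd1' hh k j h1 (by omega), mul_zero]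
          · rw [hh' k j h1 (by omega) hj, if_neg (by omega), mul_zero]
        · rcases Nat.lt_or_ge (k : ℕ) d with h1 | h1
          · rw [hg' i k hi (by omega) h1, if_neg (by omega), zero_mul]
          · rw [hd1 hg i k (by omega) h1, zero_mul]
      rw [Finset.sum_eq_single (⟨i, by omega⟩ : Fin w) (fun k _ hki => hk k fun he => hki (Fin.ext he))
        (fun h => absurd (Finset.mem_univ _) h), hg' i i hi le_rfl (by omega), if_pos rfl, one_mul]
      exact hh' i j hi hij hj⟩)
  have hYmem : ∀ {g}, g ∈ Y ↔ g ∈ Cs X s ∧ ∀ i j, w - d ≤ i → i ≤ j → j < d →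
      ent (g : M2 p w) i j = if i = j then 1 else 0 := Iff.rfl
  have hQY : Q ≤ Y := fun q hq => hYmem.2 ⟨hc.le_Cs hR hq, fun i j hi hij hj => by
    have hU := mem_Uni.1 (hR.uni hq)
    have h := hU.ent_eq (i := i) (j := j) (by omega)
    rw [ent_sub, ent_one (by omega), sub_eq_zero] at h
    exact h⟩
  have hτY : τ ∈ Y := hYmem.2 ⟨mem_Cs.2 ⟨hKX hτK, (hτc s hsK).symm⟩, fun i j hi hij hj => by
    have h := hmid τ hτK hτ2 i j (by omega) (by omega)
    rwa [ent_sub, ent_one (by omega), sub_eq_zero] at h⟩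
  have hYC : Y ≤ Cs X s := fun g hg => (hYmem.1 hg).1
  have hYX : Y ≤ X := hYC.trans inf_le_left
  have hsteps : ∀ c, w - d ≤ c → c ≤ d → Y ≤ St p w c := fun c h1 h2 g hg i j hi hj => by
    rcases Nat.lt_or_ge i (w - d) with h3 | h3
    · exact hd1' (hYC hg) i j h3 (by omega)
    rcases Nat.lt_or_ge j d with h4 | h4
    · rw [(hYmem.1 hg).2 i j h3 (by omega) h4, if_neg (by omega)]
    · exact hd1 (hYC hg) i j (by omega) h4
  have hratio : ∀ g ∈ Y, g ∈ Low p w → ratio g = 1 ∧ ent (g : M2 p w) 0 0 = 1 := by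
    intro g hg hl
    have h1 := (hYmem.1 hg).2 (w - d) (w - d) le_rfl le_rfl (by omega)
    have h2 := (hYmem.1 hg).2 (w - d + 1) (w - d + 1) (by omega) le_rfl (by omega)
    rw [if_pos rfl, hR.diag_step (hYX hg) hl (by omega)] at h1 h2
    rw [pow_succ, ← mul_assoc, h1, one_mul] at h2
    rw [h2, one_pow, mul_one] at h1
    exact ⟨h2, h1⟩
  by_cases hlow : Y ≤ Low p w
  · refine hτ1 (eq_one_of_invol_uni (by omega) (by omega) hτ2 ((mem_Uni_iff_diag (hlow hτY)).2 fun i hi => ?_))
    obtain ⟨h1, h2⟩ := hratio τ hτY (hlow hτY)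
    rw [hR.diag_step (hYX hτY) (hlow hτY) hi, h1, h2, one_pow, mul_one]
  · obtain ⟨k, hkw, hk⟩ := exists_step hlow
    have hshort : ∀ a b, a < k → k < b → b ≤ w → Y ≤ St p w a → Y ≤ St p w b →
        (∀ c, a < c → c < b → ¬ Y ≤ St p w c) → b - a < w ∧ 2 * (b - a) ≤ p - 1 := by
      intro a b hak hkb hbw hYa hYb hm
      rcases Nat.lt_or_ge k (w - d) with hk1 | hk1
      · have : b ≤ w - d := by
          by_contra hb
          exact hm (w - d) (by omega) (by omega) (hsteps _ le_rfl (by omega))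
        omega
      · rcases le_or_gt k d with hk2 | hk2
        · exact absurd (hsteps k hk1 hk2) hk
        · have : d ≤ a := by
            by_contra ha
            exact hm d (by omega) (by omega) (hsteps _ (by omega) le_rfl)
          omega
    obtain ⟨o, ho, -, ho1⟩ := hR.exists_torus_dvd (by omega) (by omega) hind hQY hYX hkw.le hk hshort
      (n := 1) (fun g hg hl => by rw [(hratio g hg hl).1, pow_one])
    have := Nat.eq_one_of_dvd_one ho1
    omega

end CfsgLib.RegUnip
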