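import Cfsg.Agent.Lib.RegUnip.Reg

/-!
# Lowest components: exact degrees, commutators, conjugates
-/

set_option autoImplicit false
set_option linter.style.haveILetI false

open Finset
open scoped Classical

namespace CfsgLib.RegUnip

variable {p w : ℕ} [Fact p.Prime]

theorem exists_top {A : M2 p w} (hA : A ≠ 0) {h₀ : ℕ} (h : Deg (dg w) (dg w) A (h₀ : ℤ)) :
    ∃ h, h₀ ≤ h ∧ h < w ∧ Deg (dg w) (dg w) A (h : ℤ) ∧ ∃ i, i + h < w ∧ ent A (i + h) i ≠ 0 := by
  set P : ℕ → Prop := fun h => Deg (dg w) (dg w) A (h : ℤ) with hP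
  have hlt : ∀ k, P k → k < w := fun k hk => by
    by_contra hc
    exact hA (eq_zero_of_deg hk (by exact_mod_cast (not_lt.1 hc)))
  have h0 := hlt h₀ h
  set m := Nat.findGreatest P w with hm
  have hPm : P m := Nat.findGreatest_spec h0.le h
  refine ⟨m, Nat.le_findGreatest h0.le h, hlt m hPm, hPm, ?_⟩
  by_contra hno
  push Not at hno
  have h1 : P (m + 1) := deg_succ hPm fun i => by
    by_cases hi : i + m < w
    · exact hno i hi
    · exact ent_of_le (Or.inl (by omega))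
  exact absurd (Nat.le_findGreatest (hlt m hPm) h1) (by omega)

/-- The elements congruent to `1` up to degree `h`. -/
def Dg (p w h : ℕ) [Fact p.Prime] : Subgroup (GLw p w) :=
  subgroupOfFinite {g | Deg (dg w) (dg w) ((g : M2 p w) - 1) (h : ℤ)} (by simpa using deg_zero)
    fun {a b} ha hb => by
      rw [Set.mem_ofPred_eq, Units.val_mul,
        show (a : M2 p w) * b - 1 = ((a : M2 p w) - 1) * ((b : M2 p w) - 1) + ((a : M2 p w) - 1)
          + ((b : M2 p w) - 1) by rw [sub_mul, mul_sub, mul_sub, one_mul, mul_one, mul_one]; abel]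
      exact ((Deg.mul' ha hb (by omega)).add ha).add hb

theorem mem_Dg {h : ℕ} {g : GLw p w} :
    g ∈ Dg p w h ↔ Deg (dg w) (dg w) ((g : M2 p w) - 1) (h : ℤ) := Iff.rfl

theorem mem_Dg_one {g : GLw p w} : g ∈ Dg p w 1 ↔ g ∈ Uni p w := by
  rw [mem_Dg, mem_Uni, Nat.cast_one]

theorem dg_anti {h k : ℕ} (hk : h ≤ k) : Dg p w k ≤ Dg p w h := fun _ hg => hg.mono (by exact_mod_cast hk)

theorem eq_one_of_Dg {h : ℕ} {g : GLw p w} (hg : g ∈ Dg p w h) (hh : w ≤ h) : g = 1 :=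
  Units.ext (sub_eq_zero.1 (eq_zero_of_deg (mem_Dg.1 hg) (by exact_mod_cast hh)))

theorem deg_low_conj {g : GLw p w} (hg : g ∈ Low p w) {A : M2 p w} {e : ℤ}
    (hA : Deg (dg w) (dg w) A e) :
    Deg (dg w) (dg w) ((g : M2 p w) * A * ((g⁻¹ : GLw p w) : M2 p w)) e :=
  Deg.mul' (Deg.mul (mem_Low.1 hg) hA) (mem_Low.1 ((Low p w).inv_mem hg)) (by omega)

theorem conj_sub_one (g γ : GLw p w) : ((g * γ * g⁻¹ : GLw p w) : M2 p w) - 1
    = (g : M2 p w) * ((γ : M2 p w) - 1) * ((g⁻¹ : GLw p w) : M2 p w) := by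
  rw [Units.val_mul, Units.val_mul, mul_sub, sub_mul, mul_one, ← Units.val_mul g g⁻¹,
    mul_inv_cancel, Units.val_one]

theorem dg_conj {g γ : GLw p w} {h : ℕ} (hg : g ∈ Low p w) (hγ : γ ∈ Dg p w h) :
    g * γ * g⁻¹ ∈ Dg p w h := by
  rw [mem_Dg, conj_sub_one]
  exact deg_low_conj hg hγ

theorem deg_comm {γ δ : GLw p w} {h k : ℕ} (hγ : γ ∈ Dg p w h) (hδ : δ ∈ Dg p w k) :
    Deg (dg w) (dg w) ((γ : M2 p w) * (δ : M2 p w) - (δ : M2 p w) * (γ : M2 p w)) ((h + k : ℕ) : ℤ) := by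
  rw [show (γ : M2 p w) * (δ : M2 p w) - (δ : M2 p w) * (γ : M2 p w) = ((γ : M2 p w) - 1) * ((δ : M2 p w) - 1)
    - ((δ : M2 p w) - 1) * ((γ : M2 p w) - 1) by
      simp only [sub_mul, mul_sub, mul_one, one_mul]; abel]
  exact (Deg.mul' hγ hδ (by push_cast; omega)).sub (Deg.mul' hδ hγ (by push_cast; omega))

/-- The component of lowest degree of a commutator. -/
theorem comm_top {γ δ : GLw p w} {h k : ℕ} (hγ : γ ∈ Dg p w h) (hδ : δ ∈ Dg p w k) (h1 : 1 ≤ h) (k1 : 1 ≤ k) :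
    γ * δ * γ⁻¹ * δ⁻¹ ∈ Dg p w (h + k) ∧ ∀ i, i + (h + k) < w →
      ent ((γ * δ * γ⁻¹ * δ⁻¹ : GLw p w) : M2 p w) (i + (h + k)) i
        = ent (γ : M2 p w) (i + (h + k)) (i + k) * ent (δ : M2 p w) (i + k) i
          - ent (δ : M2 p w) (i + (h + k)) (i + h) * ent (γ : M2 p w) (i + h) i := by
  set c := γ⁻¹ * δ⁻¹ with hc
  have hcU : c ∈ Uni p w :=
    mem_Dg_one.1 ((Dg p w 1).mul_mem ((Dg p w 1).inv_mem (dg_anti h1 hγ))
      ((Dg p w 1).inv_mem (dg_anti k1 hδ)))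
  have hcL : Deg (dg w) (dg w) (c : M2 p w) ((0 : ℕ) : ℤ) := mem_Low.1 (uni_le_low hcU)
  have e : ((γ * δ * γ⁻¹ * δ⁻¹ : GLw p w) : M2 p w) - 1
      = ((γ : M2 p w) * (δ : M2 p w) - (δ : M2 p w) * (γ : M2 p w)) * (c : M2 p w) := by
    rw [sub_mul, ← Units.val_mul, ← Units.val_mul, ← Units.val_mul, ← Units.val_mul, hc,
      show δ * γ * (γ⁻¹ * δ⁻¹) = 1 by group, Units.val_one,
      show γ * δ * (γ⁻¹ * δ⁻¹) = γ * δ * γ⁻¹ * δ⁻¹ by group]
  have hd := deg_comm hγ hδ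
  refine ⟨?_, fun i hi => ?_⟩
  · rw [mem_Dg, e]
    exact Deg.mul' hd hcL (by push_cast; omega)
  · have h2 := ent_mul_top (i := i) hd hcL
    simp only [Nat.add_zero] at h2
    have hdiag : ent (c : M2 p w) i i = 1 := (mem_Uni_iff_diag (uni_le_low hcU)).1 hcU i (by omega)
    rw [← e, hdiag, mul_one, ent_sub, ent_one hi, if_neg (by omega), sub_zero,
      show (γ : M2 p w) * (δ : M2 p w) - (δ : M2 p w) * (γ : M2 p w) = ((γ : M2 p w) - 1) * ((δ : M2 p w) - 1)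
        - ((δ : M2 p w) - 1) * ((γ : M2 p w) - 1) by
          simp only [sub_mul, mul_sub, mul_one, one_mul]; abel, ent_sub] at h2
    rw [h2]
    have h3 := ent_mul_top (i := i) (mem_Dg.1 hγ) (mem_Dg.1 hδ)
    have h4 := ent_mul_top (i := i) (mem_Dg.1 hδ) (mem_Dg.1 hγ)
    rw [show i + h + k = i + (h + k) by ring] at h3
    rw [show i + k + h = i + (h + k) by ring] at h4
    rw [h3, h4]
    simp only [ent_sub]
    rw [ent_one (show i + (h + k) < w from hi), ent_one (show i + k < w by omega),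
      ent_one (show i + (h + k) < w from hi), ent_one (show i + h < w by omega), if_neg (by omega),
      if_neg (by omega), if_neg (by omega), if_neg (by omega)]
    ring

/-- The commutator with the shift. -/
theorem comm_shift_top {x γ : GLw p w} (hx : (x : M2 p w) = 1 + shiftN (ZMod p) w) {h : ℕ} (h1 : 1 ≤ h)
    (hγ : γ ∈ Dg p w h) : x * γ * x⁻¹ * γ⁻¹ ∈ Dg p w (h + 1) ∧ ∀ i, i + (h + 1) < w →
      ent ((x * γ * x⁻¹ * γ⁻¹ : GLw p w) : M2 p w) (i + (h + 1)) i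
        = ent (γ : M2 p w) (i + h) i - ent (γ : M2 p w) (i + 1 + h) (i + 1) := by
  obtain ⟨h2, h3⟩ := comm_top (mem_Dg_one.2 (uni_shift hx)) hγ le_rfl h1
  rw [show h + 1 = 1 + h by ring]
  refine ⟨h2, fun i hi => ?_⟩
  have e : i + (1 + h) = i + h + 1 := by ring
  rw [h3 i hi, e, ent_one_shift hx (i + h) (by omega), ent_one_shift hx i (by omega), one_mul,
    mul_one, show i + 1 + h = i + h + 1 by ring]

theorem top_const_of_commute {A : M2 p w} (h : Commute A (shiftN (ZMod p) w)) (e : ℕ) :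
    ∀ i, i + e < w → ent A (i + e) i = ent A e 0 := fun i hi => by
  rw [ent_of_commute_shift h hi (show i < w by omega), if_pos (by omega), Nat.add_sub_cancel_left]

/-- The component of lowest degree of a conjugate by the torus. -/
theorem Reg.conj_top {X Q : Subgroup (GLw p w)} (hR : Reg X Q) (hw : 1 < w) {g : GLw p w}
    (hg : g ∈ X) (hl : g ∈ Low p w) {A : M2 p w} {e : ℕ} (hA : Deg (dg w) (dg w) A (e : ℤ)) (i : ℕ) :
    ent ((g : M2 p w) * A * ((g⁻¹ : GLw p w) : M2 p w)) (i + e) i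
      = ratio g ^ e * ent A (i + e) i := by
  by_cases hi : i + e < w
  · have h := conj_entry (hR.tri hg hl) (hR.tri_inv hw hg hl) hA (hR.ratio_ne_zero hw hg hl)
      (i := (⟨i + e, hi⟩ : Fin w)) (j := (⟨i, by omega⟩ : Fin w)) (by simp [dg])
    rw [← ent_fin ((g : M2 p w) * A * ((g⁻¹ : GLw p w) : M2 p w)), ← ent_fin A] at h
    rw [h, mul_inv_cancel₀ (diag_ne_zero hl (by omega)), one_mul, zpow_natCast]
  · rw [ent_of_le (Or.inl (by omega)), ent_of_le (A := A) (Or.inl (by omega)), mul_zero]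

end CfsgLib.RegUnip
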