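import Cfsg.Agent.Lib.RegUnip.Climb

/-!
# Fixed matrices from the gain of degree
-/

set_option autoImplicit false
set_option linter.style.haveILetI false

open Finset
open scoped Classical

namespace CfsgLib.RegUnip

variable {ι κ : Type*} [Fintype ι] [Fintype κ] [DecidableEq ι] [DecidableEq κ] {p : ℕ}
  [Fact p.Prime] {X : Type*} [Group X] [Finite X]
  (ρ₁ : X →* Matrix ι ι (ZMod p)) (ρ₂ : X →* Matrix κ κ (ZMod p))
  (di : ι → ℤ) (dj : κ → ℤ)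

/-- The sum over `Q` raises degrees by `D`. -/
def Gains (Q : Subgroup X) (D : ℤ) : Prop :=
  ∀ (inst : Fintype Q) (A : Matrix ι κ (ZMod p)) (e : ℤ), Deg di dj A e →
    Deg di dj (∑ q : Q, conjRep ρ₁ ρ₂ 1 (q : X) A) (e + D)

variable {ρ₁ ρ₂ di dj}

theorem fixed_of_gain {H H' Q : Subgroup X} (hQH : Q ≤ H)
    (hfree : ∀ g : X, g ∉ H → ∀ q ∈ Q, g⁻¹ * q * g ∈ H → q = 1) {D : ℤ}
    (hgain : Gains ρ₁ ρ₂ di dj Q D) {m M : ℤ} (hm : ∀ i j, m ≤ di i - dj j)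
    (hM : ∀ i j, di i - dj j ≤ M) (hH' : H' ≤ H) {a : X → ZMod p}
    (hW : Weights ρ₁ ρ₂ 1 di dj H' a)
    (hclimb : ∀ z, m + D ≤ z → z ≤ M → ∃ h ∈ H', a h ^ z ≠ 1) {W : Matrix ι κ (ZMod p)}
    (hfix : ∀ h ∈ H, conjRep ρ₁ ρ₂ 1 h W = W) (g : X) : conjRep ρ₁ ρ₂ 1 g W = W := by
  haveI : Fintype (X ⧸ H) := Fintype.ofFinite _
  haveI : Fintype Q := Fintype.ofFinite _
  refine fixed_of_free _ hQH hfree (P := degAdd di dj (m + D))
    (fun A => hgain _ A m fun i j hij => absurd hij (not_lt.2 (hm i j))) (fun A hA hAfix => ?_) hfix g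
  refine Deg.eq_zero (climb_to hW hA (fun h hh => hAfix h (hH' hh)) (f := M + 1)
    fun z hz hz' => hclimb z hz (by omega)) fun i j => ?_
  have := hM i j
  omega

theorem deg_sum_pow {x : X} {d : ℤ} (hd : 0 ≤ d) (h1 : Deg di di (ρ₁ x - 1) d)
    (h2 : Deg dj dj (ρ₂ x - 1) d) {A : Matrix ι κ (ZMod p)} {e : ℤ} (hA : Deg di dj A e) :
    Deg di dj (∑ i ∈ Finset.range p, conjRep ρ₁ ρ₂ 1 (x ^ i) A) (e + ((p - 1 : ℕ) : ℤ) * d) := by
  simp only [map_pow]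
  exact (mem_degAdd di dj).1 (sum_pow_gain (fun z => degAdd (k := ZMod p) di dj z)
    (fun e' B hB => (mem_degAdd di dj).2 (conjRep_sub_deg di dj hd h1 h2 ((mem_degAdd di dj).1 hB)))
    ((mem_degAdd di dj).2 hA))

theorem gains_order_p {Q : Subgroup X} (hcard : Nat.card Q = p) {x : X} (hx : x ∈ Q) (hx1 : x ≠ 1)
    {d : ℤ} (hd : 0 ≤ d) (h1 : Deg di di (ρ₁ x - 1) d) (h2 : Deg dj dj (ρ₂ x - 1) d) :
    Gains ρ₁ ρ₂ di dj Q (((p - 1 : ℕ) : ℤ) * d) := by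
  intro inst A e hA
  have hord : orderOf (⟨x, hx⟩ : Q) = p := orderOf_eq_prime (by
    rw [← hcard]; exact pow_card_eq_one') fun h => hx1 (congrArg Subtype.val h)
  have hinj : Function.Injective fun i : Fin p => (⟨x, hx⟩ : Q) ^ (i : ℕ) := fun i j h =>
    Fin.ext (pow_injOn_Iio_orderOf (by rw [hord]; exact i.2) (by rw [hord]; exact j.2) h)
  have hbij := (Fintype.bijective_iff_injective_and_card _).2
    ⟨hinj, by rw [Fintype.card_fin, ← Nat.card_eq_fintype_card, hcard]⟩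
  rw [← Fintype.sum_bijective _ hbij _ (fun q : Q => conjRep ρ₁ ρ₂ 1 (q : X) A) fun i => rfl]
  simp only [SubgroupClass.coe_pow]
  rw [Fin.sum_univ_eq_sum_range (fun i => conjRep ρ₁ ρ₂ 1 (x ^ i) A)]
  exact deg_sum_pow hd h1 h2 hA

theorem gains_two {Q : Subgroup X} (hcard : Nat.card Q = p ^ 2) {x s : X} (hx : x ∈ Q) (hs : s ∈ Q)
    (hgen : ∀ q ∈ Q, ∃ i j, i < p ∧ j < p ∧ q = x ^ i * s ^ j) {d d' : ℤ} (hd : 0 ≤ d) (hd' : 0 ≤ d')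
    (h1 : Deg di di (ρ₁ x - 1) d) (h2 : Deg dj dj (ρ₂ x - 1) d) (h1' : Deg di di (ρ₁ s - 1) d')
    (h2' : Deg dj dj (ρ₂ s - 1) d') :
    Gains ρ₁ ρ₂ di dj Q (((p - 1 : ℕ) : ℤ) * d' + ((p - 1 : ℕ) : ℤ) * d) := by
  intro inst A e hA
  have hsurj : Function.Surjective fun ij : Fin p × Fin p =>
      (⟨x ^ (ij.1 : ℕ) * s ^ (ij.2 : ℕ), Q.mul_mem (Q.pow_mem hx _) (Q.pow_mem hs _)⟩ : Q) := fun q => by
    obtain ⟨i, j, hi, hj, h⟩ := hgen q q.2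
    exact ⟨(⟨i, hi⟩, ⟨j, hj⟩), Subtype.ext h.symm⟩
  have hbij := (Fintype.bijective_iff_surjective_and_card _).2
    ⟨hsurj, by rw [Fintype.card_prod, Fintype.card_fin, ← Nat.card_eq_fintype_card, hcard, sq]⟩
  rw [← Fintype.sum_bijective _ hbij _ (fun q : Q => conjRep ρ₁ ρ₂ 1 (q : X) A) fun i => rfl,
    Fintype.sum_prod_type]
  simp only [map_mul, Module.End.mul_apply, ← map_sum]
  rw [Fin.sum_univ_eq_sum_range (fun i => conjRep ρ₁ ρ₂ 1 (x ^ i)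
      (∑ j : Fin p, conjRep ρ₁ ρ₂ 1 (s ^ (j : ℕ)) A)),
    Fin.sum_univ_eq_sum_range (fun j => conjRep ρ₁ ρ₂ 1 (s ^ j) A)]
  rw [← add_assoc]
  exact deg_sum_pow hd h1 h2 (deg_sum_pow hd' h1' h2' hA)

end CfsgLib.RegUnip
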