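import Cfsg.Agent.Lib.RegUnip.Climb
import Mathlib.Algebra.BigOperators.Ring.Finset
import Mathlib.LinearAlgebra.Matrix.Kronecker

/-!
# Kronecker products of a family of square matrices
-/

set_option autoImplicit false

open Finset
open scoped Classical Kronecker

namespace CfsgLib.RegUnip

variable {ι k : Type*} [CommRing k] {q : ℕ}

/-- The Kronecker product of a family. -/
def kron (F : Fin q → Matrix ι ι k) : Matrix (Fin q → ι) (Fin q → ι) k :=
  Matrix.of fun a b => ∏ t, F t (a t) (b t)

theorem kron_apply (F : Fin q → Matrix ι ι k) (a b : Fin q → ι) :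
    kron F a b = ∏ t, F t (a t) (b t) := rfl

theorem kron_mul [Fintype ι] [DecidableEq ι] (F G : Fin q → Matrix ι ι k) :
    kron F * kron G = kron fun t => F t * G t := by
  ext a b
  simp only [Matrix.mul_apply, kron_apply, Finset.prod_univ_sum, Fintype.piFinset_univ,
    Finset.prod_mul_distrib]

theorem kron_one [DecidableEq ι] : kron (fun _ : Fin q => (1 : Matrix ι ι k)) = 1 := by
  ext a b
  by_cases h : a = b
  · subst h
    simp [kron_apply]
  · obtain ⟨t, ht⟩ := Function.ne_iff.1 h
    rw [Matrix.one_apply_ne h, kron_apply]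
    exact Finset.prod_eq_zero (Finset.mem_univ t) (Matrix.one_apply_ne ht)

/-- The power of a representation. -/
def kronRep [Fintype ι] [DecidableEq ι] {X : Type*} [Group X] (ρ : X →* Matrix ι ι k) (q : ℕ) :
    X →* Matrix (Fin q → ι) (Fin q → ι) k where
  toFun g := kron fun _ => ρ g
  map_one' := by simp only [map_one]; exact kron_one
  map_mul' g h := by simp only [map_mul]; rw [kron_mul]

theorem kronRep_apply [Fintype ι] [DecidableEq ι] {X : Type*} [Group X] (ρ : X →* Matrix ι ι k)
    (g : X) : kronRep ρ q g = kron fun _ => ρ g := rfl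

/-- The degree of a tuple. -/
def dsum (d : ι → ℤ) : (Fin q → ι) → ℤ := fun a => ∑ t, d (a t)

theorem deg_kron {d : ι → ℤ} {F : Fin q → Matrix ι ι k} {e : Fin q → ℤ}
    (h : ∀ t, Deg d d (F t) (e t)) : Deg (dsum d) (dsum d) (kron F) (∑ t, e t) := by
  intro a b hab
  obtain ⟨t, ht⟩ : ∃ t, d (a t) - d (b t) < e t := by
    by_contra hall
    push Not at hall
    have := Finset.sum_le_sum fun t (_ : t ∈ Finset.univ) => hall t
    simp only [dsum, ← Finset.sum_sub_distrib] at hab
    omega
  exact Finset.prod_eq_zero (Finset.mem_univ t) (h t _ _ ht)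

theorem deg_kron_sub_one [DecidableEq ι] {dd : ι → ℤ} {A : Matrix ι ι k} {d : ℤ} (hd : 1 ≤ d)
    (h : Deg dd dd (A - 1) d) :
    Deg (dsum dd) (dsum dd) ((kron fun _ : Fin q => A) - 1) d := by
  have hent : ∀ i j, dd i - dd j < d → A i j = (1 : Matrix ι ι k) i j := fun i j hij =>
    sub_eq_zero.1 (by simpa using h i j hij)
  intro a b hab
  rw [Matrix.sub_apply, sub_eq_zero, kron_apply, ← kron_one, kron_apply]
  by_cases hall : ∀ t, dd (a t) - dd (b t) < d
  · exact Finset.prod_congr rfl fun t _ => hent _ _ (hall t)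
  · obtain ⟨t, ht⟩ : ∃ t, dd (a t) - dd (b t) < 0 := by
      by_contra hno
      push Not at hno
      push Not at hall
      obtain ⟨t₀, ht₀⟩ := hall
      have := Finset.single_le_sum (f := fun t => dd (a t) - dd (b t)) (fun t _ => hno t)
        (Finset.mem_univ t₀)
      simp only [dsum, ← Finset.sum_sub_distrib] at hab
      omega
    have h0 : (1 : Matrix ι ι k) (a t) (b t) = 0 := Matrix.one_apply_ne fun he => by
      rw [he] at ht; omega
    rw [Finset.prod_eq_zero (Finset.mem_univ t) ((hent _ _ (by omega)).trans h0),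
      Finset.prod_eq_zero (Finset.mem_univ t) h0]

theorem tri_kron {k : Type*} [Field k] [DecidableEq ι] {d : ι → ℤ} {A : Matrix ι ι k} {α a : k}
    (ha : a ≠ 0) (h : Tri d A α a) : Tri (dsum d) (kron fun _ : Fin q => A) (α ^ q) a where
  off u v huv hne := by
    obtain ⟨t, ht⟩ := Function.ne_iff.1 hne
    by_cases hle : d (u t) ≤ d (v t)
    · exact Finset.prod_eq_zero (Finset.mem_univ t) (h.off _ _ hle ht)
    · obtain ⟨s, hs⟩ : ∃ s, d (u s) < d (v s) := by
        by_contra hno
        push Not at hno
        have := Finset.sum_lt_sum (fun s _ => hno s) ⟨t, Finset.mem_univ t, not_le.1 hle⟩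
        simp only [dsum] at huv
        omega
      exact Finset.prod_eq_zero (Finset.mem_univ s) (h.off _ _ hs.le fun e => by rw [e] at hs; omega)
  diag u := by
    simp only [kron_apply, h.diag, dsum, Finset.prod_mul_distrib, Finset.prod_const, Finset.card_univ,
      Fintype.card_fin]
    congr 1
    symm
    refine Finset.induction_on (Finset.univ : Finset (Fin q)) (by simp) fun t s ht ih => ?_
    rw [Finset.sum_insert ht, Finset.prod_insert ht, zpow_add₀ ha, ih]

/-- Equal nonzero Kronecker products have proportional factors. -/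
theorem kron_proportional {k : Type*} [Field k] {F G : Fin q → Matrix ι ι k} (h : kron F = kron G)
    (hG : ∀ t, G t ≠ 0) (t : Fin q) : ∃ c : k, c ≠ 0 ∧ F t = c • G t := by
  have hex : ∀ s, ∃ u v, G s u v ≠ 0 := fun s => by
    by_contra hno
    push Not at hno
    exact hG s (Matrix.ext hno)
  choose u v huv using hex
  have h1 : ∀ i j, F t i j * ∏ s ∈ Finset.univ.erase t, F s (u s) (v s)
      = G t i j * ∏ s ∈ Finset.univ.erase t, G s (u s) (v s) := by
    intro i j
    have h2 := congrFun (congrFun h (Function.update u t i)) (Function.update v t j)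
    simp only [kron_apply, ← Finset.mul_prod_erase _ _ (Finset.mem_univ t), Function.update_self] at h2
    have hF : ∀ (K : Fin q → Matrix ι ι k), ∏ s ∈ Finset.univ.erase t,
        K s (Function.update u t i s) (Function.update v t j s)
        = ∏ s ∈ Finset.univ.erase t, K s (u s) (v s) := fun K => Finset.prod_congr rfl fun s hs => by
      rw [Function.update_of_ne (Finset.ne_of_mem_erase hs), Function.update_of_ne (Finset.ne_of_mem_erase hs)]
    rwa [hF F, hF G] at h2
  have hB : ∏ s ∈ Finset.univ.erase t, G s (u s) (v s) ≠ 0 :=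
    Finset.prod_ne_zero_iff.2 fun s _ => huv s
  set A := ∏ s ∈ Finset.univ.erase t, F s (u s) (v s)
  set B := ∏ s ∈ Finset.univ.erase t, G s (u s) (v s)
  have hA : A ≠ 0 := fun h0 => by
    have := h1 (u t) (v t)
    rw [h0, mul_zero] at this
    exact mul_ne_zero (huv t) hB this.symm
  refine ⟨B / A, div_ne_zero hB hA, Matrix.ext fun i j => ?_⟩
  rw [Matrix.smul_apply, smul_eq_mul, div_mul_eq_mul_div, eq_div_iff hA, h1, mul_comm]

end CfsgLib.RegUnip
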