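import Cfsg.Agent.Lib.RegUnip.Comp
import Cfsg.Agent.Lib.RegUnip.Kron
import Cfsg.Agent.Lib.RegUnip.Gain

/-!
# Eigen powers of the shift give a fixed tensor
-/

set_option autoImplicit false
set_option linter.style.haveILetI false

open Finset
open scoped Classical

namespace CfsgLib.RegUnip

variable {p w : ℕ} [Fact p.Prime] {X Q : Subgroup (GLw p w)}

/-- The natural representation of a subgroup. -/
def nat₀ (X : Subgroup (GLw p w)) : X →* M2 p w := (Units.coeHom _).comp X.subtype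

@[simp] theorem nat₀_apply (g : X) : nat₀ X g = ((g : GLw p w) : M2 p w) := rfl

theorem ratio_uni {g : GLw p w} (hw : 1 < w) (hg : g ∈ Uni p w) : ratio g = 1 := by
  have h := (mem_Uni_iff_diag (uni_le_low hg)).1 hg
  rw [ratio, h 1 hw, h 0 (by omega), div_one]

theorem exists_parts (v : ℕ) : ∀ q o : ℕ, q ≤ o → o ≤ q * v →
    ∃ e : Fin q → ℕ, (∀ t, 1 ≤ e t ∧ e t ≤ v) ∧ ∑ t, e t = o := by
  intro q
  induction q with
  | zero => intro o _ h; exact ⟨Fin.elim0, fun t => t.elim0, by simp at h ⊢; omega⟩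
  | succ q ih =>
    intro o h1 h2
    have h3 : (q + 1) * v = q * v + v := by ring
    have hv : 1 ≤ v := by
      by_contra hv
      obtain rfl : v = 0 := by omega
      omega
    obtain ⟨e₀, he₀, he₁, hq₁, hq₂⟩ : ∃ e₀, 1 ≤ e₀ ∧ e₀ ≤ v ∧ q + e₀ ≤ o ∧ o ≤ q * v + e₀ := by
      rcases le_or_gt (o - q * v) 1 with h | h
      · exact ⟨1, le_rfl, hv, by omega, by omega⟩
      · refine ⟨o - q * v, by omega, by omega, ?_, by omega⟩
        have := Nat.le_mul_of_pos_right q hv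
        omega
    obtain ⟨e, he, hes⟩ := ih (o - e₀) (by omega) (by omega)
    refine ⟨Fin.cons e₀ e, fun t => ?_, by rw [Fin.sum_cons, hes]; omega⟩
    induction t using Fin.cases with
    | zero => simpa using ⟨he₀, he₁⟩
    | succ t => simpa using he t

theorem kron_smul {ι k : Type*} [CommRing k] {q : ℕ} (c : Fin q → k) (F : Fin q → Matrix ι ι k) :
    kron (fun t => c t • F t) = (∏ t, c t) • kron F := by
  ext a b
  simp only [kron_apply, Matrix.smul_apply, smul_eq_mul, Finset.prod_mul_distrib]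

theorem kronRep_conj {G : Type*} [Group G] (ρ : G →* M2 p w) {q : ℕ} (g : G) (F : Fin q → M2 p w) :
    conjRep (kronRep ρ q) (kronRep ρ q) 1 g (kron F) = kron fun t => ρ g * F t * ρ g⁻¹ := by
  rw [conjRep_one_apply, kronRep_apply, kronRep_apply, kron_mul, kron_mul]

theorem dsum_bound {q : ℕ} (a : Fin q → Fin w) :
    0 ≤ dsum (dg w) a ∧ dsum (dg w) a ≤ (q : ℤ) * ((w - 1 : ℕ) : ℤ) := by
  refine ⟨Finset.sum_nonneg fun t _ => by simp [dg], ?_⟩
  have h := Finset.sum_le_card_nsmul Finset.univ (fun t => dg w (a t)) ((w - 1 : ℕ) : ℤ) fun t _ => by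
    have := (a t).2
    simp only [dg]
    omega
  simpa [dsum] using h

theorem Reg.kron_weights (hR : Reg X Q) (hw : 1 < w) {H : Subgroup (GLw p w)} (hH : H ≤ X ⊓ Low p w)
    (q : ℕ) : Weights (kronRep (nat₀ X) q) (kronRep (nat₀ X) q) 1 (dsum (dg w)) (dsum (dg w))
      (H.subgroupOf X) (fun g => ratio (g : GLw p w)) := by
  intro h hh
  have hh' : (h : GLw p w) ∈ H := hh
  obtain ⟨hX, hL⟩ := Subgroup.mem_inf.1 (hH hh')
  have hr := hR.ratio_ne_zero hw hX hL
  refine ⟨hr, ent ((h : GLw p w) : M2 p w) 0 0 ^ q, (ent ((h : GLw p w) : M2 p w) 0 0)⁻¹ ^ q, ?_,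
    tri_kron hr (hR.tri hX hL), ?_⟩
  · rw [MonoidHom.one_apply, one_mul, ← mul_pow, mul_inv_cancel₀ (diag_ne_zero hL (by omega)), one_pow]
  · exact tri_kron (inv_ne_zero hr) (hR.tri_inv hw hX hL)

/-- The eigen modifications of the powers of the shift. -/
theorem Reg.exists_eigen (hR : Reg X Q) (hw : 1 < w)
    (hN : ∀ q ∈ Q, Commute (q : M2 p w) (shiftN (ZMod p) w)) {H : Subgroup (GLw p w)}
    (hH : H ≤ X ⊓ Low p w) (hQH : Q ≤ H) {e : ℕ} (he : 1 ≤ e) (hew : e < w) :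
    ∃ P : M2 p w, P ≠ 0 ∧ Deg (dg w) (dg w) P 1 ∧ Commute P (shiftN (ZMod p) w) ∧
      ∀ h ∈ H, (h : M2 p w) * P * ((h⁻¹ : GLw p w) : M2 p w) = ratio h ^ e • P := by
  set N := shiftN (ZMod p) w with hNdef
  let tH : H →* (ZMod p)ˣ := (hR.torus hw).comp (Subgroup.inclusion hH)
  let χ : H →* ZMod p := (Units.coeHom _).comp (tH ^ e)⁻¹
  have hχ : ∀ h : H, χ h = (ratio (h : GLw p w) ^ e)⁻¹ := fun h => by
    simp [χ, tH, hR.torus_apply hw]
  have hidx : ¬ p ∣ (Q.subgroupOf H).index := fun hd => hR.sylow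
    (dvd_trans hd (Dvd.intro _ (Subgroup.relIndex_mul_relIndex Q H X hQH (hH.trans inf_le_left))))
  have hX : ∀ {g}, g ∈ H → g ∈ X := fun hg => (Subgroup.mem_inf.1 (hH hg)).1
  have hL : ∀ {g}, g ∈ H → g ∈ Low p w := fun hg => (Subgroup.mem_inf.1 (hH hg)).2
  have hNe : Deg (dg w) (dg w) (N ^ e) ((e : ℕ) : ℤ) := by simpa using Deg.pow deg_shiftN e
  obtain ⟨P, hPfix, hPdeg, hPspan⟩ := exists_avg (ρ₁ := nat₀ H) (ρ₂ := nat₀ H) (χ := χ)
    (di := dg w) (dj := dg w) hidx (P₀ := N ^ e) (f := ((e + 1 : ℕ) : ℤ)) (fun q hq => by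
      rw [conjRep_apply, hχ, ratio_uni hw (hR.uni (show (q : GLw p w) ∈ Q from hq)), one_pow, _root_.inv_one, one_smul, nat₀_apply, nat₀_apply,
        ((hN _ (show (q : GLw p w) ∈ Q from hq)).pow_right e).eq, mul_assoc, ← Units.val_mul, ← Subgroup.coe_mul, mul_inv_cancel,
        OneMemClass.coe_one, Units.val_one, mul_one]) (fun h => by
      rw [conjRep_apply, hχ, nat₀_apply, nat₀_apply]
      refine deg_succ (((deg_low_conj (hL h.2) hNe).smul _).sub hNe) fun i => ?_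
      rw [ent_sub, ent_smul, InvMemClass.coe_inv, hR.conj_top hw (hX h.2) (hL h.2) hNe, ← mul_assoc,
        inv_mul_cancel₀ (pow_ne_zero _ (hR.ratio_ne_zero hw (hX h.2) (hL h.2))), one_mul, sub_self])
  obtain ⟨x, hxQ, hx⟩ := hR.shift
  have hP2 : Deg (dg w) (dg w) P ((e : ℕ) : ℤ) ∧ Commute P N := by
    refine Submodule.span_induction (p := fun A _ => Deg (dg w) (dg w) A ((e : ℕ) : ℤ) ∧ Commute A N)
      ?_ ⟨deg_zero, Commute.zero_left _⟩ (fun A B _ _ hA hB => ⟨hA.1.add hB.1, hA.2.add_left hB.2⟩)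
      (fun c A _ hA => ⟨hA.1.smul c, hA.2.smul_left c⟩) hPspan
    rintro _ ⟨h, rfl⟩
    simp only [conjRep_apply, nat₀_apply, InvMemClass.coe_inv]
    refine ⟨(deg_low_conj (hL h.2) hNe).smul _, Commute.smul_left ?_ _⟩
    set g : GLw p w := (h : GLw p w)
    set x' := g⁻¹ * x * g with hx'
    have hx'Q : x' ∈ Q := by
      have := hR.conj_mem (X.inv_mem (hX h.2)) ((Low p w).inv_mem (hL h.2)) hxQ
      rwa [inv_inv] at this
    have h1 : Commute ((g : M2 p w) * N ^ e * ((g⁻¹ : GLw p w) : M2 p w)) (x : M2 p w) := by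
      show _ = _
      rw [show x = g * x' * g⁻¹ by rw [hx']; group, Units.val_mul, Units.val_mul]
      simp only [mul_assoc]
      rw [← mul_assoc ((g⁻¹ : GLw p w) : M2 p w) (g : M2 p w),
        ← mul_assoc ((g⁻¹ : GLw p w) : M2 p w) (g : M2 p w), ← Units.val_mul, inv_mul_cancel,
        Units.val_one, one_mul, one_mul, ← mul_assoc (N ^ e), ← mul_assoc (x' : M2 p w),
        ((hN x' hx'Q).pow_right e).eq]
    have h2 := h1.sub_right (Commute.one_right _)
    rwa [hx, add_sub_cancel_left] at h2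
  refine ⟨P, fun h0 => ?_, hP2.1.mono (by omega), hP2.2, fun h hh => ?_⟩
  · have h1 := hPdeg.ent_eq (i := e) (j := 0) (by push_cast; omega)
    rw [h0, ent_sub, ent_zero, ent_shiftN_pow, if_pos ⟨by omega, hew⟩, zero_sub, neg_eq_zero] at h1
    exact one_ne_zero h1
  · have h1 := hPfix ⟨h, hh⟩
    rw [conjRep_apply, hχ, nat₀_apply, nat₀_apply] at h1
    have hne := pow_ne_zero e (hR.ratio_ne_zero hw (hX hh) (hL hh))
    conv_rhs => rw [← h1]
    rw [smul_smul, InvMemClass.coe_inv]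
    simp [hne]

/-- No group with these data: the gain exceeds the room. -/
theorem Reg.eigen_contra (hR : Reg X Q) (hirr : Irr X) (hw : 1 < w)
    (hN : ∀ q ∈ Q, Commute (q : M2 p w) (shiftN (ZMod p) w)) {H : Subgroup (GLw p w)}
    (hH : H ≤ X ⊓ Low p w) (hQH : Q ≤ H)
    (hfree : ∀ g ∈ X, g ∉ H → ∀ q ∈ Q, g⁻¹ * q * g ∈ H → q = 1) {D : ℤ}
    (hgain : ∀ q, Gains (kronRep (nat₀ X) q) (kronRep (nat₀ X) q) (dsum (dg w)) (dsum (dg w))
      (Q.subgroupOf X) D) {o : ℕ} (ho : o = valOrd ((hR.torus hw).comp (Subgroup.inclusion hH)))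
    (h1 : 2 * ((w - 1 : ℕ) : ℤ) < D)
    (h2 : o < w ∨ 2 * (o : ℤ) + (w : ℤ) - 2 < D) : False := by
  have ho1 : 1 ≤ o := by rw [ho]; exact Nat.card_pos
  have hpow : ∀ h ∈ H, ratio h ^ o = 1 := fun h hh => by
    have h3 := (forall_zpow_iff ((hR.torus hw).comp (Subgroup.inclusion hH)) (o : ℤ)).2 (by rw [ho]) ⟨h, hh⟩
    rw [zpow_natCast] at h3
    simpa [hR.torus_apply hw] using congrArg Units.val h3
  have hex : ∃ q, o ≤ q * (w - 1) := ⟨o, Nat.le_mul_of_pos_right o (by omega)⟩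
  set q := Nat.find hex with hq
  have hq0 : o ≤ q * (w - 1) := Nat.find_spec hex
  have hqo : q ≤ o := Nat.find_min' hex (Nat.le_mul_of_pos_right o (by omega))
  have hq1 : 1 ≤ q := Nat.one_le_iff_ne_zero.2 fun h0 => by rw [h0, Nat.zero_mul] at hq0; omega
  have hqlt : (q - 1) * (w - 1) < o := not_le.1 (Nat.find_min hex (show q - 1 < q by omega))
  obtain ⟨e, he, hes⟩ := exists_parts (w - 1) q o hqo hq0
  choose P hP0 hP1 hPN hPfix using fun t => hR.exists_eigen hw hN hH hQH (he t).1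
    (show e t < w by have := (he t).2; omega)
  set W := kron P with hW
  have hfix : ∀ h ∈ H.subgroupOf X, conjRep (kronRep (nat₀ X) q) (kronRep (nat₀ X) q) 1 h W = W := by
    intro h hh
    have hh' : (h : GLw p w) ∈ H := hh
    rw [kronRep_conj, funext fun t => show nat₀ X h * P t * nat₀ X h⁻¹ = ratio (h : GLw p w) ^ e t • P t
      from hPfix t _ hh', kron_smul, Finset.prod_pow_eq_pow_sum, hes, hpow _ hh', one_smul]
  have hall := fixed_of_gain (H := H.subgroupOf X) (H' := H.subgroupOf X) (Q := Q.subgroupOf X)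
    (fun g hg => hQH hg) (fun g hg r hr h => Subtype.ext (hfree g g.2 hg r hr h)) (hgain q)
    (m := -((q : ℤ) * ((w - 1 : ℕ) : ℤ))) (M := (q : ℤ) * ((w - 1 : ℕ) : ℤ))
    (fun a b => by have := dsum_bound a; have := dsum_bound b; omega)
    (fun a b => by have := dsum_bound a; have := dsum_bound b; omega)
    le_rfl (hR.kron_weights hw hH q) (fun z hz hz' => ?_) hfix
  · refine irr_semicomm hirr (hP0 ⟨0, hq1⟩) (hP1 _) (hPN _) fun g hg => ?_
    have h3 := hall ⟨g, hg⟩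
    rw [kronRep_conj] at h3
    obtain ⟨c, hc0, hc⟩ := kron_proportional h3 hP0 ⟨0, hq1⟩
    simp only [nat₀_apply, InvMemClass.coe_inv] at hc
    refine ⟨c⁻¹, ?_⟩
    have h4 := congrArg (fun A => A * (g : M2 p w)) hc
    rw [mul_assoc _ ((g⁻¹ : GLw p w) : M2 p w), ← Units.val_mul, inv_mul_cancel, Units.val_one, mul_one,
      Matrix.smul_mul] at h4
    rw [h4, smul_smul, inv_mul_cancel₀ hc0, one_smul]
  · obtain ⟨h, hne⟩ : ∃ h : ↥H, ¬ ((hR.torus hw).comp (Subgroup.inclusion hH)) h ^ z = 1 := by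
      by_contra hall
      push Not at hall
      have hdvd := (forall_zpow_iff _ z).1 hall
      rw [← ho] at hdvd
      have hq2 : ((q : ℤ) - 1) * ((w - 1 : ℕ) : ℤ) < (o : ℤ) := by
        have : ((((q - 1) * (w - 1) : ℕ)) : ℤ) < (o : ℤ) := by exact_mod_cast hqlt
        push_cast [Nat.cast_sub hq1] at this
        exact this
      rcases Nat.lt_or_ge o w with how | how
      · obtain hq1' : q = 1 := by
          have : q ≤ 1 := Nat.find_min' hex (by omega)
          omega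
        rw [hq1', Nat.cast_one, one_mul] at hz hz'
        omega
      · rw [sub_mul, one_mul] at hq2
        have hlo : (o : ℤ) < z := by omega
        have hhi : z < 2 * (o : ℤ) := by omega
        obtain ⟨k, hk⟩ := hdvd
        rw [hk] at hlo hhi
        have ho' : (0 : ℤ) < o := by exact_mod_cast ho1
        have hk1 : 1 < k := (mul_lt_mul_iff_of_pos_left ho').1 (by rwa [mul_one])
        have hk2 : k < 2 := (mul_lt_mul_iff_of_pos_left ho').1 (by rw [mul_comm (o : ℤ) 2]; exact hhi)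
        omega
    refine ⟨⟨h, (Subgroup.mem_inf.1 (hH h.2)).1⟩, h.2, fun hz1 => hne (Units.ext ?_)⟩
    rw [Units.val_zpow_eq_zpow_val, MonoidHom.comp_apply, hR.torus_apply hw]
    exact hz1

end CfsgLib.RegUnip
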