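import Cfsg.Agent.Lib.RegUnip.Block
import Cfsg.Agent.Lib.RegUnip.Eigen

/-!
# The central element, and the torus of a constituent
-/

set_option autoImplicit false
set_option linter.style.haveILetI false

open Finset
open scoped Classical

namespace CfsgLib.RegUnip

variable {p w : ℕ} [Fact p.Prime] {X Q : Subgroup (GLw p w)}

/-- The statement for smaller sizes. -/
def Small (p w : ℕ) [Fact p.Prime] : Prop :=
  ∀ m, m < w → ∀ X' Q' : Subgroup (GLw p m), Reg X' Q' → Irr X' → Gam Q' = ⊥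

theorem card_zmod_units : Nat.card (ZMod p)ˣ = p - 1 := by
  rw [Nat.card_eq_fintype_card, ZMod.card_units p]

theorem ent_shift_pow {x : GLw p w} (hx : (x : M2 p w) = 1 + shiftN (ZMod p) w) (hw : 1 < w) :
    ∀ i : ℕ, ent ((x ^ i : GLw p w) : M2 p w) 1 0 = (i : ZMod p) := by
  intro i
  induction i with
  | zero => rw [pow_zero, Units.val_one, ent_one hw, if_neg one_ne_zero, Nat.cast_zero]
  | succ i ih =>
    have h := ent_mul_sub ((Uni p w).pow_mem (uni_shift hx) i) (uni_shift hx) 0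
    simp only [zero_add] at h
    rw [pow_succ, h, ih]
    have h1 := ent_one_shift hx 0 (by omega)
    simp only [zero_add] at h1
    rw [h1, Nat.cast_succ]

theorem Reg.exists_pow_mul (hR : Reg X Q) (hw : 1 < w) {x : GLw p w}
    (hx : (x : M2 p w) = 1 + shiftN (ZMod p) w) (hxQ : x ∈ Q) {q : GLw p w} (hq : q ∈ Q) :
    ∃ i < p, (x ^ i)⁻¹ * q ∈ Gam Q := by
  haveI : NeZero p := ⟨(Fact.out : p.Prime).ne_zero⟩
  set i := (ent (q : M2 p w) 1 0).val with hi
  have hy : x ^ i ∈ Q := Q.pow_mem hxQ i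
  refine ⟨i, ZMod.val_lt _, hR.mem_Gam.2 ⟨Q.mul_mem (Q.inv_mem hy) hq, ?_⟩⟩
  have h1 := ent_mul_sub (hR.uni hy) (hR.uni (Q.mul_mem (Q.inv_mem hy) hq)) 0
  simp only [zero_add] at h1
  rw [mul_inv_cancel_left, ent_shift_pow hx hw, hi, ZMod.natCast_zmod_val] at h1
  linear_combination -h1

theorem orderOf_shift {x : GLw p w} (hx : (x : M2 p w) = 1 + shiftN (ZMod p) w) (hw : 1 < w)
    (hwp : w ≤ p) : orderOf x = p := by
  refine orderOf_eq_prime (pow_p_eq_one hwp (uni_shift hx)) fun h1 => ?_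
  have h := ent_shift_pow hx hw 1
  rw [pow_one, h1, Units.val_one, ent_one hw, if_neg one_ne_zero, Nat.cast_one] at h
  exact zero_ne_one h

/-- A conjugate inside a Sylow subgroup of a regular element comes from a triangular element. -/
theorem Reg.low_of_regular (hR : Reg X Q) {g q : GLw p w} (hq : q ∈ Q) (hq0 : ent (q : M2 p w) 1 0 ≠ 0)
    (h : g * q * g⁻¹ ∈ Uni p w) : g ∈ Low p w :=
  low_of_conj_regular (hR.uni hq) (fun i hi => hR.const q hq i hi) hq0 h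

/-- Sylow subgroups of order `p`: commutation, order, free orbits. -/
theorem Reg.of_gam_bot (hR : Reg X Q) (hG : Gam Q = ⊥) (hw : 1 < w) (hwp : w ≤ p) :
    ∃ x ∈ Q, (x : M2 p w) = 1 + shiftN (ZMod p) w ∧ Nat.card (Q.subgroupOf X) = p ∧
      (∀ q ∈ Q, Commute (q : M2 p w) (shiftN (ZMod p) w)) ∧
      ∀ g ∈ X, g ∉ X ⊓ Low p w → ∀ q ∈ Q, g⁻¹ * q * g ∈ X ⊓ Low p w → q = 1 := by
  obtain ⟨x, hxQ, hx⟩ := hR.shift
  have hQx : ∀ q ∈ Q, q ∈ Subgroup.zpowers x := fun q hq => by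
    obtain ⟨i, -, hi⟩ := hR.exists_pow_mul hw hx hxQ hq
    rw [hG, Subgroup.mem_bot, inv_mul_eq_one] at hi
    rw [← hi]
    exact Subgroup.pow_mem _ (Subgroup.mem_zpowers x) i
  have hQ : Q = Subgroup.zpowers x := le_antisymm hQx (Subgroup.zpowers_le.2 hxQ)
  have hcard : Nat.card (Q.subgroupOf X) = p := by
    rw [Nat.card_congr (Subgroup.subgroupOfEquivOfLe hR.le).toEquiv, hQ, Nat.card_zpowers,
      orderOf_shift hx hw hwp]
  have hN : ∀ q ∈ Q, Commute (q : M2 p w) (shiftN (ZMod p) w) := fun q hq => by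
    refine (hR.commute_shift hx).2 ?_
    obtain ⟨z, rfl⟩ := Subgroup.mem_zpowers_iff.1 (hQx q hq)
    exact ((Commute.refl x).zpow_left z).eq
  have hfree : ∀ g ∈ X, g ∉ X ⊓ Low p w → ∀ q ∈ Q, g⁻¹ * q * g ∈ X ⊓ Low p w → q = 1 := by
    intro g hg hgH q hq hc
    by_contra hq1
    have hq0 : ent (q : M2 p w) 1 0 ≠ 0 := fun h0 => hq1 (by
      have := hR.mem_Gam.2 ⟨hq, h0⟩
      rwa [hG, Subgroup.mem_bot] at this)
    have h1 : g⁻¹ * q * g ∈ Uni p w := mem_Uni_of_pow (Subgroup.mem_inf.1 hc).2 (k := 1) (by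
      have hconj : g⁻¹ * q * g = MulAut.conj g⁻¹ q := by simp [MulAut.conj_apply]
      rw [pow_one, hconj, ← map_pow, pow_p_eq_one hwp (hR.uni hq), map_one])
    have h2 := hR.low_of_regular (g := g⁻¹) hq hq0 (by rwa [inv_inv])
    exact hgH (Subgroup.mem_inf.2 ⟨hg, by simpa using (Low p w).inv_mem h2⟩)
  exact ⟨x, hxQ, hx, hcard, hN, hfree⟩

/-- The torus of an irreducible group with Sylow subgroups of order `p` is big. -/
theorem Reg.small_torus (hR : Reg X Q) (hirr : Irr X) (hG : Gam Q = ⊥) (hw : 1 < w)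
    (h2 : 2 * w ≤ p - 1) : p ≤ 3 * valOrd (hR.torus hw) := by
  by_contra hlt
  push Not at hlt
  have hwp : w ≤ p := by omega
  obtain ⟨x, hxQ, hx, hcard, hN, hfree⟩ := hR.of_gam_bot hG hw hwp
  have hxX : x ∈ X := hR.le hxQ
  have hdeg : Deg (dg w) (dg w) (nat₀ X ⟨x, hxX⟩ - 1) 1 := mem_Uni.1 (uni_shift hx)
  refine hR.eigen_contra hirr hw hN (H := X ⊓ Low p w) le_rfl (le_inf hR.le (hR.uni.trans uni_le_low))
    hfree (D := ((p - 1 : ℕ) : ℤ) * 1) (fun q => gains_order_p hcard (x := (⟨x, hxX⟩ : X)) hxQ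
      (fun h => ?_) zero_le_one (deg_kron_sub_one le_rfl hdeg) (deg_kron_sub_one le_rfl hdeg)) rfl ?_ ?_
  · have := orderOf_shift hx hw hwp
    rw [show x = 1 from congrArg Subtype.val h, orderOf_one] at this
    exact absurd this.symm (Fact.out : p.Prime).ne_one
  · rw [mul_one]; omega
  · have hid : (hR.torus hw).comp (Subgroup.inclusion (le_refl (X ⊓ Low p w))) = hR.torus hw :=
      MonoidHom.ext fun g => rfl
    rw [hid]
    rcases Nat.lt_or_ge (valOrd (hR.torus hw)) w with h | h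
    · exact Or.inl h
    · right; rw [mul_one]; omega

/-- A central element with its degree. -/
structure Ctr (X Q : Subgroup (GLw p w)) (s : GLw p w) (d : ℕ) : Prop where
  mem : s ∈ Gam Q
  ne : s ≠ 1
  comm : ∀ q ∈ Q, q * s = s * q
  deg : s ∈ Dg p w d
  two_le : 2 ≤ d
  lt : d < w
  top : ∀ i, i + d < w → ent ((s : M2 p w) - 1) (i + d) i = ent ((s : M2 p w) - 1) d 0
  top_ne : ent ((s : M2 p w) - 1) d 0 ≠ 0

theorem Reg.exists_ctr (hR : Reg X Q) (hne : Gam Q ≠ ⊥) : ∃ s d, Ctr X Q s d := by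
  obtain ⟨x, hxQ, hx⟩ := hR.shift
  obtain ⟨s, hs, hs1, hsc⟩ := hR.exists_central hne
  have hS0 : (s : M2 p w) - 1 ≠ 0 := fun h => hs1 (Units.ext (sub_eq_zero.1 h))
  obtain ⟨d, hd, hdw, hdeg, i, hi, hi0⟩ := exists_top hS0 (hR.gam_deg hs)
  have hcomm : Commute ((s : M2 p w) - 1) (shiftN (ZMod p) w) :=
    ((hR.commute_shift hx).2 (hsc x hxQ).symm).sub_left (Commute.one_left _)
  refine ⟨s, d, hs, hs1, hsc, hdeg, hd, hdw, top_const_of_commute hcomm d, ?_⟩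
  rwa [top_const_of_commute hcomm d i hi] at hi0

/-- The centralizer of `s` in `X`. -/
def Cs (X : Subgroup (GLw p w)) (s : GLw p w) : Subgroup (GLw p w) := X ⊓ Subgroup.centralizer {s}

theorem mem_Cs {s g : GLw p w} : g ∈ Cs X s ↔ g ∈ X ∧ g * s = s * g := by
  rw [Cs, Subgroup.mem_inf, Subgroup.mem_centralizer_singleton_iff]

variable {s : GLw p w} {d : ℕ}

theorem Ctr.le_Cs (hR : Reg X Q) (hc : Ctr X Q s d) : Q ≤ Cs X s :=
  fun q hq => mem_Cs.2 ⟨hR.le hq, hc.comm q hq⟩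

theorem commute_sub_one {g : GLw p w} (h : g * s = s * g) :
    (g : M2 p w) * ((s : M2 p w) - 1) = ((s : M2 p w) - 1) * (g : M2 p w) := by
  rw [mul_sub, sub_mul, mul_one, one_mul, ← Units.val_mul, ← Units.val_mul, h]

theorem Ctr.pow_top (hc : Ctr X Q s d) : ∀ k i, i + k * d < w →
    ent (((s : M2 p w) - 1) ^ k) (i + k * d) i = ent ((s : M2 p w) - 1) d 0 ^ k := by
  intro k
  induction k with
  | zero => intro i hi; rw [Nat.zero_mul, Nat.add_zero, pow_zero, pow_zero, ent_one (by omega), if_pos rfl]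
  | succ k ih =>
    intro i hi
    have h3 : (k + 1) * d = k * d + d := by ring
    have h4 := ent_mul_top (i := i) (show Deg (dg w) (dg w) (((s : M2 p w) - 1) ^ k) ((k * d : ℕ) : ℤ) by
      simpa using Deg.pow (mem_Dg.1 hc.deg) k) (mem_Dg.1 hc.deg)
    rw [pow_succ, show i + (k + 1) * d = i + k * d + d by omega, h4,
      show i + k * d + d = i + d + k * d by omega, ih (i + d) (by omega), hc.top i (by omega), pow_succ]

theorem Ctr.le_St (hc : Ctr X Q s d) (k : ℕ) : Cs X s ≤ St p w (k * d) := fun g hg => by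
  refine mem_St.2 (inv_of_intertwine (A := ((s : M2 p w) - 1) ^ k) (B := ((s : M2 p w) - 1) ^ k) ?_ ?_
    (hc.pow_top k) (pow_ne_zero _ hc.top_ne) ?_)
  · simpa using Deg.pow (mem_Dg.1 hc.deg) k
  · simpa using Deg.pow (mem_Dg.1 hc.deg) k
  · exact (show Commute (g : M2 p w) ((s : M2 p w) - 1) from commute_sub_one (mem_Cs.1 hg).2).pow_right k

theorem Ctr.le_St' (hc : Ctr X Q s d) : Cs X s ≤ St p w (w - d) := fun _ hg =>
  mem_St.2 (inv_of_intertwine' hc.deg hc.deg hc.top hc.top_ne (commute_sub_one (mem_Cs.1 hg).2))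

theorem Ctr.ratio_pow (hc : Ctr X Q s d) (hR : Reg X Q) {g : GLw p w} (hg : g ∈ Cs X s)
    (hl : g ∈ Low p w) : ratio g ^ d = 1 := by
  have hd := hc.lt
  have h2 := hc.two_le
  have h := hR.conj_top (by omega) (mem_Cs.1 hg).1 hl (mem_Dg.1 hc.deg) 0
  rw [zero_add, commute_sub_one (mem_Cs.1 hg).2, mul_assoc, ← Units.val_mul, mul_inv_cancel,
    Units.val_one, mul_one] at h
  exact mul_right_cancel₀ hc.top_ne (by rw [one_mul]; exact h.symm)

/-- The order of the torus of a constituent. -/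
theorem Reg.exists_torus (hR : Reg X Q) (hw : 1 < w) (hwp : w ≤ p) (hind : Small p w)
    {Y : Subgroup (GLw p w)} (hQY : Q ≤ Y) (hYX : Y ≤ X) {a m : ℕ} (hm1 : 1 < m) (hmw : m < w)
    (hm : a + m ≤ w) (h2 : 2 * m ≤ p - 1) (hYa : Y ≤ St p w a) (hYb : Y ≤ St p w (a + m))
    (hmid : ∀ c, a < c → c < a + m → ¬ Y ≤ St p w c) :
    ∃ hB : Reg (resHom hm hYa hYb).range ((Q.subgroupOf Y).map (resHom hm hYa hYb)),
      p ≤ 3 * valOrd (hB.torus hm1) ∧ valOrd (hB.torus hm1) ∣ p - 1 ∧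
      (∀ h ∈ (resHom hm hYa hYb).range, h ∈ Low p m → ∃ g ∈ Y, g ∈ Low p w ∧ ratio h = ratio g ∧
        ∀ i < m, ent (h : M2 p m) i i = ent (g : M2 p w) (a + i) (a + i)) ∧
      ∀ n : ℕ, (∀ g ∈ Y, g ∈ Low p w → ratio g ^ n = 1) → valOrd (hB.torus hm1) ∣ n := by
  have hB := hR.block hQY hm hm1 hYa hYb hYX hwp
  have hirr := irr_block hm hYa hYb hmid
  have hlift : ∀ h ∈ (resHom hm hYa hYb).range, h ∈ Low p m → ∃ g ∈ Y, g ∈ Low p w ∧ ratio h = ratio g ∧
      ∀ i < m, ent (h : M2 p m) i i = ent (g : M2 p w) (a + i) (a + i) := by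
    intro h hh hl
    obtain ⟨g, hgl, hg⟩ := hR.lift_diag hQY hm hm1 hYa hYb hYX hwp hh hl
    refine ⟨g, g.2, hgl, ?_, hg⟩
    have h00 := diag_ne_zero (i := 0) hgl (by omega)
    have hr := hR.ratio_ne_zero hw (hYX g.2) hgl
    rw [ratio, hg 1 hm1, hg 0 (by omega), hR.diag_step (hYX g.2) hgl (show a + 1 < w by omega),
      hR.diag_step (hYX g.2) hgl (show a + 0 < w by omega), pow_succ, ← mul_assoc]
    simp only [Nat.add_zero]
    rw [
      mul_div_cancel_left₀ _ (mul_ne_zero h00 (pow_ne_zero _ hr))]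
  refine ⟨hB, hB.small_torus hirr (hind m hmw _ _ hB hirr) hm1 h2,
    valOrd_dvd _ (by rw [card_zmod_units]), hlift, fun n hn => ?_⟩
  have h1 := (forall_zpow_iff (hB.torus hm1) (n : ℤ)).1 fun h => ?_
  · exact_mod_cast h1
  · obtain ⟨g, hgY, hgl, hr, -⟩ := hlift _ (Subgroup.mem_inf.1 h.2).1 (Subgroup.mem_inf.1 h.2).2
    refine Units.ext ?_
    rw [zpow_natCast, Units.val_pow_eq_pow_val, hB.torus_apply hm1, hr, hn g hgY hgl, Units.val_one]

/-- A group that is not triangular, with short constituents, has a large torus. -/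
theorem Reg.exists_torus_dvd (hR : Reg X Q) (hw : 1 < w) (hwp : w ≤ p) (hind : Small p w)
    {Y : Subgroup (GLw p w)} (hQY : Q ≤ Y) (hYX : Y ≤ X) {k : ℕ} (hkw : k ≤ w) (hk : ¬ Y ≤ St p w k)
    (hshort : ∀ a b, a < k → k < b → b ≤ w → Y ≤ St p w a → Y ≤ St p w b →
      (∀ c, a < c → c < b → ¬ Y ≤ St p w c) → b - a < w ∧ 2 * (b - a) ≤ p - 1)
    {n : ℕ} (hn : ∀ g ∈ Y, g ∈ Low p w → ratio g ^ n = 1) :
    ∃ o, p ≤ 3 * o ∧ o ∣ p - 1 ∧ o ∣ n := by
  obtain ⟨a, b, hak, hkb, hbw, hYa, hYb, hmid⟩ := exists_block hkw hk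
  obtain ⟨h1, h2⟩ := hshort a b hak hkb hbw hYa hYb hmid
  obtain ⟨m, rfl⟩ : ∃ m, b = a + m := ⟨b - a, by omega⟩
  rw [Nat.add_sub_cancel_left] at h1 h2
  obtain ⟨hB, h3, h4, -, h5⟩ := hR.exists_torus hw hwp hind hQY hYX (show 1 < m by omega) h1 hbw h2 hYa hYb hmid
  exact ⟨_, h3, h4, h5 n hn⟩

end CfsgLib.RegUnip
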