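import Cfsg.Agent.Lib.RegUnip.Gen

/-!
Two commuting reflections: an involution of determinant one conjugating the Jordan block to a partner.
-/

set_option autoImplicit false

namespace CfsgLib.RegUnip

open Matrix CfsgLib.Perm.Trans CfsgLib.AutPSL

variable {F : Type*} [Field F] {n : ℕ}

local notation "SLn" => Matrix.SpecialLinearGroup (Fin n) F
local notation "GLn" => GL (Fin n) F

/-- the auxiliary functional -/
def auxVec (n : ℕ) (F : Type*) [Field F] : Fin n → F :=
  fun i => if i.val = 0 then 8 else if i.val = 1 then 14 else if i.val = 2 then 4 else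
    if i.val = 3 then -2 else 0

theorem dot_auxVec (hn : 4 ≤ n) (x : Fin n → F) : auxVec n F ⬝ᵥ x =
    8 * x ⟨0, by omega⟩ + 14 * x ⟨1, by omega⟩ + 4 * x ⟨2, by omega⟩ - 2 * x ⟨3, by omega⟩ := by
  classical
  have h : auxVec n F = (8 : F) • ev ⟨0, by omega⟩ + (14 : F) • ev ⟨1, by omega⟩ +
      (4 : F) • ev ⟨2, by omega⟩ + (-2 : F) • ev ⟨3, by omega⟩ := by
    funext i
    simp only [auxVec, ev, Pi.add_apply, Pi.smul_apply, Pi.single_apply, Fin.ext_iff, smul_eq_mul]
    split_ifs <;> first | omega | simp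
  rw [h]
  simp [add_dotProduct, ev]
  ring

/-- the auxiliary vector `e₃ + e₄` -/
def auxCen (n : ℕ) (F : Type*) [Field F] : Fin n → F :=
  fun i => if i.val = 3 ∨ i.val = 4 then 1 else 0

theorem exists_sl_partner [Fintype F] (hn : 5 ≤ n) (α β : F) (hα : α ≠ 0) (L : ℕ) (hL1 : 1 ≤ L)
    (hLn : L + 2 ≤ n) (hnL : n ≤ 2 * L + 2)
    (hzero : ∀ i : ℕ, i ≤ L → α * (i.choose (n - 1) : F) + β * (i.choose (n - 2) : F) = 0)
    (w : F) (hw : α * ((L + 1).choose (n - 1) : F) + β * ((L + 1).choose (n - 2) : F) = w)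
    (hw0 : w ≠ 0) (hd : (-1) ^ (n - 1) * (α - β) = -2) (h2 : (2 : F) ≠ 0) {c : F} (hc : c ≠ 0)
    (hcv : (-1) ^ (n - 1) * (α * (n : F) - β * ((n : F) - 1)) = c)
    (hgen : Subring.closure ({c * w * (c * -2) ^ (L + 1)} : Set F) = ⊤) :
    ∃ s : SLn, Subgroup.closure {jordanSL n F, s * jordanSL n F * s⁻¹} = ⊤ := by
  classical
  set φ := topVec n α β (0 : F) with hφ
  set b := lastVec n F with hb
  set U := jordanGL n F with hU
  have h0 : φ ⬝ᵥ b = 0 := by
    rw [← pairing_zero_dot U, hφ, show (0 : ℤ) = ((0 : ℕ) : ℤ) from rfl, pairing_top_nat α β 0 (by omega)]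
    simpa using hzero 0 (Nat.zero_le _)
  obtain ⟨a, ha, h1, hae, hdet, hsq⟩ := exists_reflection (by omega : 3 ≤ n) α β 0 h0
    (by rw [add_zero]; exact hd) (c := c) (by simpa using hcv)
  set g := refl a φ ha with hg
  set φ' := auxVec n F with hφ'
  set a' := auxCen n F with ha'
  set e : Fin n → F := ev ⟨4, by omega⟩ with he
  have hUe : U.1 *ᵥ e = a' := by
    funext i
    rw [hU, jordan_mulVec_apply, ha', auxCen, he, ev]
    simp only [Pi.single_apply, Fin.ext_iff]
    split_ifs <;> first | omega | simp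
  have hUie : (U⁻¹ : GLn).1 *ᵥ a' = e := by rw [← hUe, gl_inv_mulVec]
  set a'' := U.1 *ᵥ a' with ha''
  have hvals : ∀ i : Fin n, a'' i = (if i.val = 2 then 1 else if i.val = 3 then 2 else
      if i.val = 4 then 1 else 0) := fun i => by
    rw [ha'', hU, jordan_mulVec_apply, ha']
    simp only [auxCen]
    split_ifs <;> first | omega | norm_num
  have hr : φ' ⬝ᵥ a' = -2 := by
    rw [hφ', dot_auxVec (by omega), ha']
    simp [auxCen]
  have t1 : φ ⬝ᵥ a' = 0 := by
    rw [hφ, dot_topVec (by omega), ha']; simp [auxCen]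
  have t2 : φ' ⬝ᵥ a = 0 := by
    rw [hφ', dot_auxVec (by omega), hae, jordan_inv_lastVec, jordan_inv_lastVec, jordan_inv_lastVec,
      jordan_inv_lastVec]
    obtain ⟨k, rfl⟩ := Nat.exists_eq_add_of_le' hn
    dsimp only
    rw [show k + 5 - 1 - 0 = k + 4 by omega, show k + 5 - 1 - 1 = k + 3 by omega,
      show k + 5 - 1 - 2 = k + 2 by omega, show k + 5 - 1 - 3 = k + 1 by omega]
    simp only [pow_succ]
    ring
  have t3 : (φ ᵥ* (U⁻¹ : GLn).1) ⬝ᵥ a' = 0 := by
    rw [← dotProduct_mulVec, hUie, hφ, dot_topVec (by omega), he]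
    simp [ev]
  have t4 : φ' ⬝ᵥ (U.1 *ᵥ a) = 0 := by
    rw [hae, _root_.zpow_neg_one, gl_mulVec_inv, hφ', dot_auxVec (by omega)]
    simp only [lastVec]
    rw [if_neg (by omega), if_neg (by omega), if_neg (by omega), if_neg (by omega)]
    ring
  have t5 : φ ⬝ᵥ a'' = 0 := by
    rw [hφ, dot_topVec (by omega), hvals, hvals, hvals]
    simp
  have t6 : (φ' ᵥ* (U⁻¹ : GLn).1) ⬝ᵥ a = 0 := by
    rw [← dotProduct_mulVec, hae, Matrix.mulVec_mulVec, ← Units.val_mul, ← _root_.zpow_neg_one U,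
      ← _root_.zpow_add, show (-1 : ℤ) + -1 = -2 from rfl, hφ', dot_auxVec (by omega), hU,
      jordan_inv_two_lastVec, jordan_inv_two_lastVec, jordan_inv_two_lastVec, jordan_inv_two_lastVec]
    obtain ⟨k, rfl⟩ := Nat.exists_eq_add_of_le' hn
    dsimp only
    rw [show k + 5 - 1 - 0 = k + 4 by omega, show k + 5 - 1 - 1 = k + 3 by omega,
      show k + 5 - 1 - 2 = k + 2 by omega, show k + 5 - 1 - 3 = k + 1 by omega,
      show k + 5 - 0 = k + 5 by omega, show k + 5 - 1 = k + 4 by omega,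
      show k + 5 - 2 = k + 3 by omega, show k + 5 - 3 = k + 2 by omega]
    simp only [pow_succ]
    push_cast
    ring
  have t7 : φ' ⬝ᵥ a'' = 0 := by
    rw [hφ', dot_auxVec (by omega), hvals, hvals, hvals, hvals]
    simp
    norm_num
  have t8 : (φ' ᵥ* (U⁻¹ : GLn).1) ⬝ᵥ a' = 0 := by
    rw [← dotProduct_mulVec, hUie, hφ', dot_auxVec (by omega), he]
    simp [ev]
  set r := refl a' φ' hr with hrdef
  obtain ⟨hg1, hg1e⟩ := refl_conj ha U
  obtain ⟨hr1, hr1e⟩ := refl_conj hr U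
  set g1 := U * g * U⁻¹ with hg1d
  set r1 := U * r * U⁻¹ with hr1d
  have cgr : Commute g r := refl_commute _ _ t1 t2
  have cg1r : Commute g1 r := by rw [hg1e]; exact refl_commute _ _ t3 t4
  have cgr1 : Commute g r1 := by rw [hr1e]; exact refl_commute _ _ t5 t6
  have crr1 : Commute r r1 := by rw [hr1e]; exact refl_commute _ _ t7 t8
  have cg1r1 : Commute g1 r1 := (Commute.conj_iff U).2 cgr
  have hrr : r * r = 1 := refl_mul_self hr
  have hinv : (g * r)⁻¹ = g * r := inv_eq_of_mul_eq_one_right (by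
    rw [show g * r * (g * r) = g * (r * g) * r by group, ← cgr.eq,
      show g * (g * r) * r = (g * g) * (r * r) by group, refl_mul_self ha, hrr, one_mul])
  have hsq' : (g * r * (U * (g * r) * U⁻¹)) ^ 2 = (g * g1) ^ 2 := by
    rw [show U * (g * r) * U⁻¹ = g1 * r1 by rw [hg1d, hr1d]; group,
      show g * r * (g1 * r1) = g * (r * g1) * r1 by group, ← cg1r.eq,
      show g * (g1 * r) * r1 = (g * g1) * (r * r1) by group]
    have c1 : Commute (g * g1) (r * r1) :=
      (cgr.mul_right cgr1).mul_left (cg1r.mul_right cg1r1)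
    have hr11 : r1 * r1 = 1 := by
      rw [hr1d, show U * r * U⁻¹ * (U * r * U⁻¹) = U * (r * r) * U⁻¹ by group, hrr, mul_one,
        mul_inv_cancel]
    rw [c1.mul_pow, crr1.mul_pow, pow_two r, pow_two r1, hrr, hr11, mul_one, mul_one]
  let s : SLn := ⟨(g * r).1, by
    rw [Units.val_mul, Matrix.det_mul, hdet, refl_det]; ring⟩
  refine ⟨s, ?_⟩
  rw [← conjJordan_of_sl, show Matrix.SpecialLinearGroup.toGL s = g * r from Units.ext rfl]
  exact pair_top_of_sq α β 0 hα (by omega) L hL1 hLn hnL (fun i hi => by simpa using hzero i hi) w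
    (by simpa using hw) hw0 (by rw [add_zero]; exact hd) h2 hc hgen (g * r) hinv h1
    (hsq'.trans hsq)

end CfsgLib.RegUnip
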