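import Mathlib
import Cfsg.Agent.Lib.Perm.Trans.SL

/-!
A matrix group containing one transvection and an element moving its centre and axis cyclically
contains the special linear group.

With centre `b` and functional `φ` put `ε k = φ (U ^ k b)`. If `ε` vanishes on a long enough
interval starting at `0` and is nonzero on both sides of it, then the functionals of the
transvections with centre `b` fill the annihilator of `b`.
-/

set_option autoImplicit false

namespace CfsgLib.RegUnip

open Matrix CfsgLib.Perm.Trans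

variable {F : Type*} [Field F] {n : ℕ}

local notation "Vec" => Fin n → F

/-- the values `φ (U ^ k b)` -/
def pairing (U : GL (Fin n) F) (b φ : Fin n → F) (k : ℤ) : F :=
  φ ⬝ᵥ ((U ^ k : GL (Fin n) F).1 *ᵥ b)

theorem dual_zpow (U : GL (Fin n) F) (b φ : Vec) (i k : ℤ) :
    (φ ᵥ* (U ^ i : GL (Fin n) F).1) ⬝ᵥ ((U ^ k : GL (Fin n) F).1 *ᵥ b) = pairing U b φ (i + k) := by
  rw [← dotProduct_mulVec, mulVec_mulVec, ← Units.val_mul, ← _root_.zpow_add, pairing]

theorem dual_self (U : GL (Fin n) F) (b φ : Vec) (i : ℤ) :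
    (φ ᵥ* (U ^ i : GL (Fin n) F).1) ⬝ᵥ b = pairing U b φ i := by
  rw [← dotProduct_mulVec, pairing]

variable {M : Subgroup (GL (Fin n) F)} {U : GL (Fin n) F} {b φ : Fin n → F}

/-- the commutator of a transvection with a conjugate by a power of `U` -/
theorem Has.step (hU : U ∈ M) {x y : F} {i j k : ℤ}
    (hx : Has M b (x • (φ ᵥ* (U ^ i : GL (Fin n) F).1)))
    (hy : Has M b (y • (φ ᵥ* (U ^ j : GL (Fin n) F).1)))
    (h0 : pairing U b φ (i + k) = 0) :
    Has M b ((y * x * pairing U b φ (j - k)) • (φ ᵥ* (U ^ (i + k) : GL (Fin n) F).1)) := by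
  have hg := M.zpow_mem hU (-k)
  have h2 := Has.conj hx hg
  rw [← _root_.zpow_neg, neg_neg, smul_vecMul, vecMul_vecMul, ← Units.val_mul, ← _root_.zpow_add] at h2
  have h3 := Has.comm hy h2 (by rw [smul_dotProduct, dual_self, h0, smul_zero])
  rw [smul_dotProduct, dual_zpow, smul_smul] at h3
  have he : y • pairing U b φ (j + -k) * x = y * x * pairing U b φ (j - k) := by
    rw [smul_eq_mul, sub_eq_add_neg]; ring
  rwa [he] at h3

/-- moving an axis by a group element -/
theorem axes_move {ψ ψ' : Vec} (hψ : ψ ∈ axes M b) (hψ' : ψ' ∈ axes M b) {g : GL (Fin n) F}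
    (hg : g ∈ M) (h0 : ψ ⬝ᵥ (g.1 *ᵥ b) = 0) (h1 : ψ' ⬝ᵥ ((g⁻¹ : GL (Fin n) F).1 *ᵥ b) ≠ 0) :
    ψ ᵥ* g.1 ∈ axes M b := by
  intro c
  have h2 := Has.conj (has_of_axes hψ) (M.inv_mem hg)
  rw [inv_inv] at h2
  have h3 := Has.comm (hψ' (c / (ψ' ⬝ᵥ ((g⁻¹ : GL (Fin n) F).1 *ᵥ b)))) h2
    (by rw [← dotProduct_mulVec, h0])
  rwa [smul_dotProduct, smul_eq_mul, div_mul_cancel₀ _ h1] at h3

/-- the iterates of a vector under `1 + f` reach those under `f` -/
theorem span_iterates {V : Type*} [AddCommGroup V] [Module F V] (f : Module.End F V) (v : V) :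
    ∀ d : ℕ, (f ^ d) v ∈ Submodule.span F ((fun i : ℕ => ((1 + f) ^ i) v) '' {i | i ≤ d}) := by
  intro d
  induction d with
  | zero => exact Submodule.subset_span ⟨0, le_refl 0, by simp⟩
  | succ d ih =>
    set S := fun k : ℕ => Submodule.span F ((fun i : ℕ => ((1 + f) ^ i) v) '' {i | i ≤ k})
    have hstep : ∀ x ∈ S d, f x ∈ S (d + 1) := by
      intro x hx
      induction hx using Submodule.span_induction with
      | mem y hy =>
        obtain ⟨i, hi, rfl⟩ := hy
        have h1 : f (((1 + f) ^ i) v) = ((1 + f) ^ (i + 1)) v - ((1 + f) ^ i) v := by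
          rw [pow_succ', Module.End.mul_apply, LinearMap.add_apply, Module.End.one_apply]
          abel
        rw [h1]
        exact Submodule.sub_mem _
          (Submodule.subset_span ⟨i + 1, Nat.succ_le_succ hi, rfl⟩)
          (Submodule.subset_span ⟨i, Nat.le_succ_of_le hi, rfl⟩)
      | zero => rw [map_zero]; exact Submodule.zero_mem _
      | add y z _ _ hy hz => rw [map_add]; exact Submodule.add_mem _ hy hz
      | smul a y _ hy => rw [map_smul]; exact Submodule.smul_mem _ a hy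
    rw [pow_succ', Module.End.mul_apply]
    exact hstep _ ih

/-- vectors in triangular position span -/
theorem span_triangular (w : Fin n → Fin n → F) (h0 : ∀ d i : Fin n, i < d → w d i = 0)
    (h1 : ∀ d, w d d ≠ 0) : Submodule.span F (Set.range w) = ⊤ := by
  classical
  have key : ∀ k : ℕ, ∀ x : Fin n → F, (∀ i : Fin n, i.val + k < n → x i = 0) →
      x ∈ Submodule.span F (Set.range w) := by
    intro k
    induction k with
    | zero =>
      intro x hx
      rw [show x = 0 from funext fun i => hx i (by omega)]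
      exact Submodule.zero_mem _
    | succ k ih =>
      intro x hx
      by_cases hk : k < n
      · let d : Fin n := ⟨n - 1 - k, by omega⟩
        have h2 := ih (x - (x d / w d d) • w d) fun i hi => by
          rcases eq_or_ne i d with rfl | hid
          · simp [div_mul_cancel₀ _ (h1 _)]
          · have hlt : i < d := lt_of_le_of_ne (by
              show i.val ≤ n - 1 - k
              omega) hid
            have h3 : i.val < n - 1 - k := hlt
            simp [hx i (by omega), h0 d i hlt]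
        have h4 := Submodule.add_mem _ h2
          (Submodule.smul_mem _ (x d / w d d) (Submodule.subset_span ⟨d, rfl⟩))
        rwa [sub_add_cancel] at h4
      · exact ih x fun i hi => absurd hi (by omega)
  exact Submodule.eq_top_iff'.2 fun x => key n x fun i hi => absurd hi (by omega)

/-- The filling lemma. -/
theorem fill [Fintype F] (hU : U ∈ M) (L : ℕ) (hL1 : 1 ≤ L) (hLn : L + 2 ≤ n) (hn : n ≤ 2 * L + 2)
    (hzero : ∀ i : ℕ, i ≤ L → pairing U b φ i = 0)
    (hneg : pairing U b φ (-1) ≠ 0) (hpos : pairing U b φ ((L : ℤ) + 1) ≠ 0)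
    {c : F} (hc : c ≠ 0)
    (hgen : Subring.closure
      ({c * pairing U b φ ((L : ℤ) + 1) * (c * pairing U b φ (-1)) ^ (L + 1)} : Set F) = ⊤)
    (hT : Has M b (c • φ))
    (hb : Submodule.span F (Set.range fun i : Fin n => (U ^ (i : ℕ) : GL (Fin n) F).1 *ᵥ b) = ⊤)
    (hφ : Submodule.span F (Set.range fun i : Fin n => φ ᵥ* (U ^ (i : ℕ) : GL (Fin n) F).1) = ⊤) :
    Cfsg.Geo.specialLinear (Fin n) F ≤ M := by
  classical
  set ε := pairing U b φ with hε
  set e := c * ε (-1) with he
  set z := ε ((L : ℤ) + 1) with hz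
  set γ := c * z * e ^ (L + 1) with hγ
  let ψ : ℤ → Fin n → F := fun i => φ ᵥ* (U ^ i : GL (Fin n) F).1
  let B : ℕ → F → Prop := fun m x => Has M b ((c * e ^ m * x) • ψ m)
  have he0 : e ≠ 0 := mul_ne_zero hc hneg
  have hzero' : ∀ (i : ℕ) (j : ℤ), i ≤ L → j = i → ε j = 0 := fun i j hi hj => hj ▸ hzero i hi
  have hB0 : B 0 1 := by
    show Has M b ((c * e ^ 0 * 1) • (φ ᵥ* (U ^ ((0 : ℕ) : ℤ) : GL (Fin n) F).1))
    simpa using hT
  -- one step up
  have hup : ∀ i j : ℕ, i + j + 1 ≤ L → ∀ x y, B i x → B j y → B (i + j + 1) (x * y) := by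
    intro i j hij x y hx hy
    have h := Has.step hU (k := (j : ℤ) + 1) hx hy
      (hzero' (i + j + 1) _ hij (by push_cast; ring))
    rw [show (j : ℤ) - (j + 1) = -1 by ring,
      show (i : ℤ) + (j + 1) = ((i + j + 1 : ℕ) : ℤ) by push_cast; ring] at h
    show Has M b ((c * e ^ (i + j + 1) * (x * y)) • ψ (i + j + 1 : ℕ))
    rwa [show c * e ^ j * y * (c * e ^ i * x) * pairing U b φ (-1) =
      c * e ^ (i + j + 1) * (x * y) by rw [pow_succ, pow_add, he]; ring] at h
  -- coming down
  have hdown : ∀ x, B L x → B 1 1 → B 0 (γ * x) := by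
    intro x hx hy
    have h := Has.step hU (k := -(L : ℤ)) hx hy (hzero' 0 _ (Nat.zero_le _) (by push_cast; ring))
    rw [show ((1 : ℕ) : ℤ) - -(L : ℤ) = (L : ℤ) + 1 by push_cast; ring,
      show (L : ℤ) + -(L : ℤ) = ((0 : ℕ) : ℤ) by push_cast; ring] at h
    show Has M b ((c * e ^ 0 * (γ * x)) • ψ (0 : ℕ))
    rwa [show c * e ^ 1 * 1 * (c * e ^ L * x) * pairing U b φ ((L : ℤ) + 1) =
      c * e ^ 0 * (γ * x) by rw [hγ, hz, hε, pow_succ e L, pow_zero]; ring] at h
  have hmono : ∀ m : ℕ, m ≤ L → ∀ x, B 0 x → B m x := by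
    intro m
    induction m with
    | zero => exact fun _ _ h => h
    | succ m ih =>
      intro hm x hx
      simpa using hup 0 m (by omega) 1 x hB0 (ih (by omega) x hx)
  have hadd : ∀ m x y, B m x → B m y → B m (x + y) := fun m x y hx hy => by
    show Has M b ((c * e ^ m * (x + y)) • ψ m)
    rw [mul_add, add_smul]
    exact Has.add_right hx hy
  have hnegB : ∀ m x, B m x → B m (-x) := fun m x hx => by
    show Has M b ((c * e ^ m * -x) • ψ m)
    rw [mul_neg, neg_smul]
    exact Has.neg hx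
  have hBz : ∀ m, B m 0 := fun m => by
    show Has M b ((c * e ^ m * 0) • ψ m)
    rw [mul_zero, zero_smul]
    exact has_zero_right b
  have hB1 : B 1 1 := hmono 1 hL1 1 hB0
  have hpow : ∀ k : ℕ, B L (γ ^ k) := by
    intro k
    induction k with
    | zero => rw [pow_zero]; exact hmono L le_rfl 1 hB0
    | succ k ih => rw [pow_succ']; exact hmono L le_rfl _ (hdown _ ih hB1)
  have hall : ∀ x, B L x := by
    intro x
    have hx : x ∈ Subring.closure ({γ} : Set F) := by rw [hgen]; trivial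
    rw [Subring.mem_closure_iff] at hx
    induction hx using AddSubgroup.closure_induction with
    | mem y hy =>
      obtain ⟨k, rfl⟩ := Submonoid.mem_closure_singleton.1 hy
      exact hpow k
    | zero => exact hBz L
    | add y w _ _ hy hw => exact hadd L y w hy hw
    | neg y _ hy => exact hnegB L y hy
  have hγ0 : γ ≠ 0 := mul_ne_zero (mul_ne_zero hc hpos) (pow_ne_zero _ he0)
  have haxes : ∀ m : ℕ, m ≤ L → ψ m ∈ axes M b := by
    intro m hm d
    have h := hmono m hm (d / (c * e ^ m)) (by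
      have h1 := hdown (d / (c * e ^ m) / γ) (hall _) hB1
      rwa [mul_div_cancel₀ _ hγ0] at h1)
    show Has M b (d • ψ m)
    rwa [show B m (d / (c * e ^ m)) = Has M b ((c * e ^ m * (d / (c * e ^ m))) • ψ m) from rfl,
      mul_div_cancel₀ _ (mul_ne_zero hc (pow_ne_zero m he0))] at h
  -- the two windows span
  set r : ℕ := n - 1 - L with hr
  set W : Submodule F (Fin n → F) := Submodule.span F ((fun i : ℕ => ψ i) '' {i | i ≤ L}) with hW
  set R := Matrix.vecMulLinear (U ^ (r : ℤ) : GL (Fin n) F).1 with hR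
  have hWaxes : W ≤ axes M b := Submodule.span_le.2 (by
    rintro _ ⟨i, hi, rfl⟩
    exact haxes i hi)
  have hspan : (⊤ : Submodule F (Fin n → F)) ≤ W ⊔ W.map R := by
    rw [← hφ, Submodule.span_le]
    rintro _ ⟨i, rfl⟩
    by_cases hi : (i : ℕ) ≤ L
    · exact Submodule.mem_sup_left (Submodule.subset_span ⟨i, hi, by simp [ψ, zpow_natCast]⟩)
    · refine Submodule.mem_sup_right ⟨ψ ((i : ℕ) - r : ℕ), Submodule.subset_span
        ⟨(i : ℕ) - r, by show (i : ℕ) - r ≤ L; omega, rfl⟩, ?_⟩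
      show (φ ᵥ* (U ^ (((i : ℕ) - r : ℕ) : ℤ) : GL (Fin n) F).1) ᵥ* (U ^ (r : ℤ) : GL (Fin n) F).1 = _
      rw [vecMul_vecMul, ← Units.val_mul, ← _root_.zpow_add,
        show ((((i : ℕ) - r : ℕ) : ℤ) + (r : ℤ)) = ((i : ℕ) : ℤ) by omega, zpow_natCast]
  have hWb : ∀ w ∈ W, w ⬝ᵥ b = 0 := fun w hw => axes_orth (hWaxes hw)
  have hfull : FullC M b := fullC_of_axes fun x hx => by
    obtain ⟨a, ha, w, ⟨v, hv, rfl⟩, rfl⟩ := Submodule.mem_sup.1 (hspan (Submodule.mem_top (x := x)))
    refine Submodule.add_mem _ (hWaxes ha) ?_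
    have h0 : (R v) ⬝ᵥ b = 0 := by rwa [add_dotProduct, hWb a ha, zero_add] at hx
    rw [hR, Matrix.vecMulLinear_apply] at h0 ⊢
    refine axes_move (hWaxes hv) (haxes (r - 1) (by omega)) (M.zpow_mem hU _)
      (by rwa [dotProduct_mulVec]) ?_
    rw [← _root_.zpow_neg]
    show (φ ᵥ* (U ^ ((r - 1 : ℕ) : ℤ) : GL (Fin n) F).1) ⬝ᵥ _ ≠ 0
    rw [dual_zpow, show ((r - 1 : ℕ) : ℤ) + -(r : ℤ) = -1 by omega]
    exact hneg
  have htop : fullSub M = ⊤ := by
    refine eq_top_iff.2 ?_
    rw [← hb, Submodule.span_le]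
    rintro _ ⟨i, rfl⟩
    exact fullSub_inv (M.pow_mem hU _) hfull
  have hsl := CfsgLib.Perm.ExtField.subgroup_eq_SL_of_transvections
    (M := M ⊓ Cfsg.Geo.specialLinear (Fin n) F) inf_le_right
    fun u ψ' h => ⟨all_of_fullSub htop u ψ' h, CfsgLib.Perm.Asch.tv_mem_SL u ψ' h⟩
  rw [← hsl]
  exact inf_le_left

end CfsgLib.RegUnip
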