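import Cfsg.Agent.Lib.RegUnip.Fill

/-!
A reflection multiplied by its conjugate under a suitable element squares to a transvection.
-/

set_option autoImplicit false

namespace CfsgLib.RegUnip

open Matrix CfsgLib.Perm.Trans

variable {F : Type*} [Field F] {n : ℕ}

local notation "Vec" => Fin n → F

/-- the reflection `x ↦ x + φ(x) a`, where `φ(a) = -2` -/
def refl (a φ : Fin n → F) (h : φ ⬝ᵥ a = -2) : GL (Fin n) F where
  val := 1 + vecMulVec a φ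
  inv := 1 + vecMulVec a φ
  val_inv := by
    rw [mul_add, add_mul, add_mul, one_mul, one_mul, mul_one, vecMulVec_mul_vecMulVec, h,
      vecMulVec_smul, neg_smul, two_smul]
    abel
  inv_val := by
    rw [mul_add, add_mul, add_mul, one_mul, one_mul, mul_one, vecMulVec_mul_vecMulVec, h,
      vecMulVec_smul, neg_smul, two_smul]
    abel

theorem refl_mulVec {a φ : Vec} (h : φ ⬝ᵥ a = -2) (x : Vec) :
    (refl a φ h).1 *ᵥ x = x + (φ ⬝ᵥ x) • a := by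
  show (1 + vecMulVec a φ) *ᵥ x = _
  rw [add_mulVec, one_mulVec, vecMulVec_mulVec, op_smul_eq_smul]

theorem refl_mul_self {a φ : Vec} (h : φ ⬝ᵥ a = -2) : refl a φ h * refl a φ h = 1 :=
  Units.ext (refl a φ h).val_inv

theorem refl_inv {a φ : Vec} (h : φ ⬝ᵥ a = -2) : (refl a φ h)⁻¹ = refl a φ h :=
  inv_eq_of_mul_eq_one_right (refl_mul_self h)

theorem refl_det {a φ : Vec} (h : φ ⬝ᵥ a = -2) : (refl a φ h).1.det = -1 := by
  show (1 + vecMulVec a φ).det = -1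
  rw [vecMulVec_eq Unit, det_one_add_replicateCol_mul_replicateRow, h]
  ring

theorem refl_commute {a φ a' φ' : Vec} (h : φ ⬝ᵥ a = -2) (h' : φ' ⬝ᵥ a' = -2)
    (h1 : φ ⬝ᵥ a' = 0) (h2 : φ' ⬝ᵥ a = 0) : Commute (refl a φ h) (refl a' φ' h') := by
  refine gl_ext_vec fun x => ?_
  simp only [gl_mul_mulVec, refl_mulVec, dotProduct_add, dotProduct_smul, h1, h2, smul_zero, add_zero]
  abel

theorem refl_conj {a φ : Vec} (h : φ ⬝ᵥ a = -2) (U : GL (Fin n) F) :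
    ∃ h' : (φ ᵥ* (U⁻¹ : GL (Fin n) F).1) ⬝ᵥ (U.1 *ᵥ a) = -2,
      U * refl a φ h * U⁻¹ = refl (U.1 *ᵥ a) (φ ᵥ* (U⁻¹ : GL (Fin n) F).1) h' := by
  refine ⟨by rw [← dotProduct_mulVec, gl_inv_mulVec, h], gl_ext_vec fun x => ?_⟩
  rw [gl_mul_mulVec, gl_mul_mulVec, refl_mulVec, refl_mulVec, mulVec_add, gl_mulVec_inv, mulVec_smul,
    ← dotProduct_mulVec]

/-- two reflections with a triangular pairing -/
theorem refl_pair_sq {a φ b χ : Vec} (h : φ ⬝ᵥ a = -2) (h' : χ ⬝ᵥ b = -2) (h0 : φ ⬝ᵥ b = 0) :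
    ∃ h1 : ((χ ⬝ᵥ a) • φ) ⬝ᵥ b = 0,
      (refl a φ h * refl b χ h') ^ 2 = CfsgLib.Perm.Asch.tv b ((χ ⬝ᵥ a) • φ) h1 := by
  refine ⟨by rw [smul_dotProduct, h0, smul_zero], gl_ext_vec fun x => ?_⟩
  rw [pow_two]
  simp only [gl_mul_mulVec, refl_mulVec, CfsgLib.Perm.Asch.tv_mulVec, dotProduct_add, dotProduct_smul,
    smul_dotProduct, smul_eq_mul, h, h', h0]
  ext i
  simp only [Pi.add_apply, Pi.smul_apply, smul_eq_mul]
  ring

/-- a reflection and its conjugate -/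
theorem refl_conj_sq {a φ : Vec} (h : φ ⬝ᵥ a = -2) (U : GL (Fin n) F) (h0 : φ ⬝ᵥ (U.1 *ᵥ a) = 0) :
    ∃ h1 : ((φ ⬝ᵥ ((U⁻¹ : GL (Fin n) F).1 *ᵥ a)) • φ) ⬝ᵥ (U.1 *ᵥ a) = 0,
      (refl a φ h * (U * refl a φ h * U⁻¹)) ^ 2 =
        CfsgLib.Perm.Asch.tv (U.1 *ᵥ a) ((φ ⬝ᵥ ((U⁻¹ : GL (Fin n) F).1 *ᵥ a)) • φ) h1 := by
  obtain ⟨h', he⟩ := refl_conj h U
  obtain ⟨h1, hsq⟩ := refl_pair_sq h h' h0
  have hd : (φ ᵥ* (U⁻¹ : GL (Fin n) F).1) ⬝ᵥ a = φ ⬝ᵥ ((U⁻¹ : GL (Fin n) F).1 *ᵥ a) :=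
    (dotProduct_mulVec _ _ _).symm
  refine ⟨hd ▸ h1, ?_⟩
  rw [he, hsq]
  congr 2

end CfsgLib.RegUnip
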