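import Cfsg.Agent.Lib.RegUnip.Jordan
import Cfsg.Agent.Lib.RegUnip.Refl
import Cfsg.Agent.Lib.Classical.SLNormalized

/-!
Two regular unipotent elements, conjugate by an involution, generating the special linear group.
-/

set_option autoImplicit false

namespace CfsgLib.RegUnip

open Matrix CfsgLib.Perm.Trans

variable {F : Type*} [Field F] {n : ℕ}

local notation "SLn" => Matrix.SpecialLinearGroup (Fin n) F
local notation "GLn" => GL (Fin n) F
local notation "Mat" => Matrix (Fin n) (Fin n) F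

theorem toGL_val (s : SLn) : (Matrix.SpecialLinearGroup.toGL s).1 = s.1 := rfl

theorem top_of_sl_le_map {H : Subgroup SLn}
    (h : Cfsg.Geo.specialLinear (Fin n) F ≤ H.map Matrix.SpecialLinearGroup.toGL) : H = ⊤ := by
  refine eq_top_iff.2 fun s _ => ?_
  obtain ⟨x, hx, he⟩ := h (show Matrix.SpecialLinearGroup.toGL s ∈ Cfsg.Geo.specialLinear (Fin n) F from
    Units.ext s.2)
  rwa [Matrix.SpecialLinearGroup.toGL_injective he] at hx

theorem natCast_closure_eq_top [Fintype F] (hp : (Fintype.card F).Prime) (x : F) :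
    Subring.closure ({x} : Set F) = ⊤ := by
  haveI := Fact.mk hp
  haveI : CharP F (Fintype.card F) := charP_of_card_eq_prime rfl
  refine eq_top_iff.2 fun y _ => ?_
  obtain ⟨k, rfl⟩ := (ZMod.castHom_bijective F rfl).2 y
  rw [ZMod.castHom_apply, ZMod.cast_eq_val]
  exact natCast_mem _ _

/-- the conjugate of the Jordan block by an element of the general linear group -/
noncomputable def conjJordan (g : GL (Fin n) F) : Matrix.SpecialLinearGroup (Fin n) F :=
  ⟨g.1 * (jordanGL n F).1 * (g⁻¹ : GLn).1, by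
    rw [Matrix.det_units_conj, jordanGL_val, CfsgLib.SLGen.det_one_add_jN]⟩

theorem conjJordan_toGL (g : GLn) :
    Matrix.SpecialLinearGroup.toGL (conjJordan g) = g * jordanGL n F * g⁻¹ := Units.ext rfl

theorem conjJordan_of_sl (s : SLn) :
    conjJordan (Matrix.SpecialLinearGroup.toGL s) = s * jordanSL n F * s⁻¹ :=
  Subtype.ext rfl

/-- the pair -/
noncomputable def pairGroup (g : GL (Fin n) F) : Subgroup (Matrix.SpecialLinearGroup (Fin n) F) :=
  Subgroup.closure {jordanSL n F, conjJordan g}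

theorem jordanGL_mem_map (g : GLn) :
    jordanGL n F ∈ (pairGroup g).map Matrix.SpecialLinearGroup.toGL :=
  ⟨_, Subgroup.subset_closure (Set.mem_insert _ _), rfl⟩

theorem conj_mem_map (g : GLn) :
    g * jordanGL n F * g⁻¹ ∈ (pairGroup g).map Matrix.SpecialLinearGroup.toGL :=
  ⟨_, Subgroup.subset_closure (Set.mem_insert_of_mem _ rfl), conjJordan_toGL g⟩

theorem pairing_zero_dot (U : GLn) (b φ : Fin n → F) : pairing U b φ 0 = φ ⬝ᵥ b := by
  rw [pairing, _root_.zpow_zero, Units.val_one, one_mulVec]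

/-- The window hypotheses with a transvection in hand. -/
theorem top_of_transvection [Fintype F] {H : Subgroup SLn}
    (hU : jordanGL n F ∈ H.map Matrix.SpecialLinearGroup.toGL) (α β z : F) (hα : α ≠ 0)
    (hn : 3 ≤ n) (L : ℕ) (hL1 : 1 ≤ L) (hLn : L + 2 ≤ n) (hnL : n ≤ 2 * L + 2)
    (hzero : ∀ i : ℕ, i ≤ L →
      α * (i.choose (n - 1) : F) + β * (i.choose (n - 2) : F) + z * (i.choose (n - 3) : F) = 0)
    (w : F) (hw : α * ((L + 1).choose (n - 1) : F) + β * ((L + 1).choose (n - 2) : F) +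
      z * ((L + 1).choose (n - 3) : F) = w) (hw0 : w ≠ 0)
    (d : F) (hd : (-1) ^ (n - 1) * (α - β + z) = d) (hd0 : d ≠ 0)
    {c : F} (hc : c ≠ 0) (hgen : Subring.closure ({c * w * (c * d) ^ (L + 1)} : Set F) = ⊤)
    (hT : Has (H.map Matrix.SpecialLinearGroup.toGL) (lastVec n F) (c • topVec n α β z)) : H = ⊤ := by
  refine top_of_sl_le_map (fill hU L hL1 hLn hnL (fun i hi => ?_) ?_ ?_ hc ?_ hT (span_lastVec n)
    (span_topVec α β z hn hα))
  · rw [pairing_top_nat α β z hn]; exact hzero i hi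
  · rw [pairing_top_neg_one α β z hn, hd]; exact hd0
  · rw [show ((L : ℤ) + 1) = ((L + 1 : ℕ) : ℤ) by push_cast; rfl, pairing_top_nat α β z hn, hw]
    exact hw0
  · rwa [pairing_top_neg_one α β z hn, hd, show ((L : ℤ) + 1) = ((L + 1 : ℕ) : ℤ) by push_cast; rfl,
      pairing_top_nat α β z hn, hw]

/-- Characteristic two: conjugation by a transvection. -/
theorem pair_top_char_two [Fintype F] [CharP F 2] (hn : 3 ≤ n) (α β : F) (hα : α ≠ 0)
    (hd : α - β = 1) (L : ℕ) (hL1 : 1 ≤ L) (hLn : L + 2 ≤ n) (hnL : n ≤ 2 * L + 2)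
    (hzero : ∀ i : ℕ, i ≤ L → α * (i.choose (n - 1) : F) + β * (i.choose (n - 2) : F) = 0)
    (w : F) (hw : α * ((L + 1).choose (n - 1) : F) + β * ((L + 1).choose (n - 2) : F) = w)
    (hw0 : w ≠ 0) (hgen : Subring.closure ({w} : Set F) = ⊤) :
    ∃ s : SLn, Subgroup.closure {jordanSL n F, s * jordanSL n F * s⁻¹} = ⊤ := by
  classical
  set φ := topVec n α β (0 : F) with hφ
  have h0 : φ ⬝ᵥ lastVec n F = 0 := by
    rw [← pairing_zero_dot (jordanGL n F), hφ, show (0 : ℤ) = ((0 : ℕ) : ℤ) from rfl,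
      pairing_top_nat α β 0 hn]
    simpa using hzero 0 (Nat.zero_le _)
  let t : SLn := ⟨1 + vecMulVec (lastVec n F) φ, by
    rw [vecMulVec_eq Unit, det_one_add_replicateCol_mul_replicateRow, h0, add_zero]⟩
  have htt : t * t = 1 := Subtype.ext (by
    show (1 + vecMulVec (lastVec n F) φ) * (1 + vecMulVec (lastVec n F) φ) = 1
    rw [mul_add, add_mul, add_mul, one_mul, one_mul, mul_one, vecMulVec_mul_vecMulVec, h0, zero_smul,
      vecMulVec_zero, add_zero, add_assoc]
    ext i j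
    rw [Matrix.add_apply, Matrix.add_apply, CharTwo.add_self_eq_zero, add_zero])
  have htinv : t⁻¹ = t := inv_eq_of_mul_eq_one_right htt
  set u := jordanSL n F with hu
  have hone : ((-1 : F)) = 1 := CharTwo.neg_eq 1
  have hfull : Subgroup.closure ({u, t} : Set SLn) = ⊤ := by
    refine top_of_transvection ⟨_, Subgroup.subset_closure (Set.mem_insert _ _), rfl⟩ α β 0 hα hn
      L hL1 hLn hnL (fun i hi => by simpa using hzero i hi) w (by simpa using hw) hw0 1 ?_ one_ne_zero
      one_ne_zero (by simpa using hgen) ⟨by rw [one_smul]; exact h0, t,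
        Subgroup.subset_closure (Set.mem_insert_of_mem _ rfl), Units.ext ?_⟩
    · rw [hone, one_pow, add_zero, hd, one_mul]
    · show 1 + vecMulVec (lastVec n F) φ = 1 + vecMulVec (lastVec n F) ((1 : F) • φ)
      rw [one_smul]
  set G := Subgroup.closure ({u, t * u * t⁻¹} : Set SLn) with hG
  have huG : u ∈ G := Subgroup.subset_closure (Set.mem_insert _ _)
  have hvG : t * u * t⁻¹ ∈ G := Subgroup.subset_closure (Set.mem_insert_of_mem _ rfl)
  haveI : G.Normal := by
    rw [← Subgroup.normalizer_eq_top_iff, eq_top_iff, ← hfull, Subgroup.closure_le]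
    have hnorm : ∀ g : SLn, (∀ x ∈ ({u, t * u * t⁻¹} : Set SLn), g * x * g⁻¹ ∈ G ∧ g⁻¹ * x * g ∈ G) →
        g ∈ Subgroup.normalizer (G : Set SLn) := by
      intro g hg
      have h1 : ∀ x ∈ G, g * x * g⁻¹ ∈ G ∧ g⁻¹ * x * g ∈ G := by
        intro x hx
        induction hx using Subgroup.closure_induction with
        | mem y hy => exact hg y hy
        | one => simp
        | mul a b _ _ ha hb =>
          refine ⟨?_, ?_⟩
          · rw [show g * (a * b) * g⁻¹ = (g * a * g⁻¹) * (g * b * g⁻¹) by group]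
            exact G.mul_mem ha.1 hb.1
          · rw [show g⁻¹ * (a * b) * g = (g⁻¹ * a * g) * (g⁻¹ * b * g) by group]
            exact G.mul_mem ha.2 hb.2
        | inv a _ ha =>
          refine ⟨?_, ?_⟩
          · rw [show g * a⁻¹ * g⁻¹ = (g * a * g⁻¹)⁻¹ by group]; exact G.inv_mem ha.1
          · rw [show g⁻¹ * a⁻¹ * g = (g⁻¹ * a * g)⁻¹ by group]; exact G.inv_mem ha.2
      refine Subgroup.mem_normalizer_iff.2 fun x => ⟨fun hx => (h1 x hx).1, fun hx => ?_⟩
      have h3 := (h1 _ hx).2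
      rwa [show g⁻¹ * (g * x * g⁻¹) * g = x by group] at h3
    rintro y (rfl | rfl)
    · exact Subgroup.le_normalizer huG
    · refine hnorm t fun x hx => ?_
      have hxx : t * x * t⁻¹ ∈ G ∧ t⁻¹ * x * t = t * x * t⁻¹ := by
        refine ⟨?_, by rw [htinv]⟩
        rcases hx with rfl | rfl
        · exact hvG
        · rw [htinv, show t * (t * u * t) * t = (t * t) * u * (t * t) by group, htt, one_mul, mul_one]
          exact huG
      exact ⟨hxx.1, hxx.2 ▸ hxx.1⟩
  refine ⟨t, ?_⟩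
  rcases CfsgLib.Classical.sl_normal_cases (by omega) (by omega) G with hc | hc
  · obtain ⟨r, -, hr⟩ := Matrix.SpecialLinearGroup.mem_center_iff.1 (hc huG)
    have h1 := congrFun (congrFun hr ⟨0, by omega⟩) ⟨1, by omega⟩
    simp [hu, jordanSL, CfsgLib.SLGen.jN, Fin.ext_iff] at h1
  · exact hc

/-- Odd characteristic: conjugation by a reflection, or by a commuting product involving it. -/
theorem pair_top_of_sq [Fintype F] (α β z : F) (hα : α ≠ 0) (hn : 3 ≤ n) (L : ℕ) (hL1 : 1 ≤ L)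
    (hLn : L + 2 ≤ n) (hnL : n ≤ 2 * L + 2)
    (hzero : ∀ i : ℕ, i ≤ L →
      α * (i.choose (n - 1) : F) + β * (i.choose (n - 2) : F) + z * (i.choose (n - 3) : F) = 0)
    (w : F) (hw : α * ((L + 1).choose (n - 1) : F) + β * ((L + 1).choose (n - 2) : F) +
      z * ((L + 1).choose (n - 3) : F) = w) (hw0 : w ≠ 0)
    (hd : (-1) ^ (n - 1) * (α - β + z) = -2) (h2 : (2 : F) ≠ 0)
    {c : F} (hc : c ≠ 0)
    (hgen : Subring.closure ({c * w * (c * -2) ^ (L + 1)} : Set F) = ⊤)
    (g : GLn) (hg : g⁻¹ = g) (h1 : (c • topVec n α β z) ⬝ᵥ lastVec n F = 0)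
    (hsq : (g * (jordanGL n F * g * (jordanGL n F)⁻¹)) ^ 2 =
      CfsgLib.Perm.Asch.tv (lastVec n F) (c • topVec n α β z) h1) : pairGroup g = ⊤ := by
  refine top_of_transvection (jordanGL_mem_map g) α β z hα hn L hL1 hLn hnL hzero w hw hw0 (-2) hd
    (neg_ne_zero.2 h2) hc hgen ⟨h1, ?_⟩
  rw [← hsq]
  refine Subgroup.pow_mem _ ?_ 2
  have h := Subgroup.mul_mem _ (conj_mem_map g) (Subgroup.inv_mem _ (jordanGL_mem_map g))
  rw [hg] at h
  simpa [mul_assoc] using h

/-- the reflection attached to `topVec` -/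
theorem exists_reflection (hn : 3 ≤ n) (α β z : F)
    (h0 : topVec n α β z ⬝ᵥ lastVec n F = 0) (hd : (-1) ^ (n - 1) * (α - β + z) = -2)
    {c : F} (hc : (-1) ^ (n - 1) * (α * (n : F) - β * ((n : F) - 1) + z * ((n : F) - 2)) = c) :
    ∃ (a : Fin n → F) (h : topVec n α β z ⬝ᵥ a = -2)
      (h1 : (c • topVec n α β z) ⬝ᵥ lastVec n F = 0),
      a = (jordanGL n F ^ (-1 : ℤ) : GLn).1 *ᵥ lastVec n F ∧ (refl a _ h).1.det = -1 ∧
      (refl a _ h * (jordanGL n F * refl a _ h * (jordanGL n F)⁻¹)) ^ 2 =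
        CfsgLib.Perm.Asch.tv (lastVec n F) (c • topVec n α β z) h1 := by
  set a := (jordanGL n F ^ (-1 : ℤ) : GLn).1 *ᵥ lastVec n F with ha
  have h : topVec n α β z ⬝ᵥ a = -2 := by
    rw [← hd, ← pairing_top_neg_one α β z hn]; rfl
  have hUa : (jordanGL n F).1 *ᵥ a = lastVec n F := by
    rw [ha, _root_.zpow_neg_one, gl_mulVec_inv]
  have hcc : topVec n α β z ⬝ᵥ (((jordanGL n F)⁻¹ : GLn).1 *ᵥ a) = c := by
    rw [ha, Matrix.mulVec_mulVec, ← Units.val_mul, ← _root_.zpow_neg_one, ← _root_.zpow_add, ← hc,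
      ← pairing_top_neg_two α β z hn]
    rfl
  have hcb : (c • topVec n α β z) ⬝ᵥ lastVec n F = 0 := by rw [smul_dotProduct, h0, smul_zero]
  obtain ⟨h1, hsq⟩ := refl_conj_sq h (jordanGL n F) (by rw [hUa]; exact h0)
  refine ⟨a, h, hcb, rfl, refl_det h, ?_⟩
  rw [hsq]
  exact tv_congr_gl _ _ fun x => by rw [hcc, hUa]

end CfsgLib.RegUnip
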