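import Cfsg.Agent.Lib.RegUnip.Fill
import Cfsg.Agent.Lib.SLGen.Three

/-!
The regular unipotent Jordan matrix and its pairings with the last basis vector.
-/

set_option autoImplicit false

namespace CfsgLib.RegUnip

open Matrix CfsgLib.Perm.Trans CfsgLib.AutPSL

variable {F : Type*} [Field F] {n : ℕ}

/-- the Jordan block in the special linear group -/
def jordanSL (n : ℕ) (F : Type*) [Field F] : Matrix.SpecialLinearGroup (Fin n) F :=
  ⟨1 + CfsgLib.SLGen.jN n F, CfsgLib.SLGen.det_one_add_jN⟩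

/-- the Jordan block in the general linear group -/
noncomputable def jordanGL (n : ℕ) (F : Type*) [Field F] : GL (Fin n) F :=
  Matrix.SpecialLinearGroup.toGL (jordanSL n F)

theorem jordanGL_val : (jordanGL n F).1 = 1 + CfsgLib.SLGen.jN n F := rfl

theorem jordanSL_regular (hn : 0 < n) :
    IsNilpotent ((jordanSL n F : Matrix (Fin n) (Fin n) F) - 1) ∧
      ((jordanSL n F : Matrix (Fin n) (Fin n) F) - 1) ^ (n - 1) ≠ 0 := by
  rw [show (jordanSL n F : Matrix (Fin n) (Fin n) F) - 1 = CfsgLib.SLGen.jN n F from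
    add_sub_cancel_left _ _]
  exact ⟨⟨n, CfsgLib.SLGen.jN_pow_card⟩, CfsgLib.SLGen.jN_pow_ne_zero hn⟩

/-- conjugates of the Jordan block are regular -/
theorem conj_regular (hn : 0 < n) (g : GL (Fin n) F) :
    IsNilpotent (g.1 * (jordanGL n F).1 * (g⁻¹ : GL (Fin n) F).1 - 1) ∧
      (g.1 * (jordanGL n F).1 * (g⁻¹ : GL (Fin n) F).1 - 1) ^ (n - 1) ≠ 0 := by
  have hpow : ∀ k : ℕ, (g.1 * CfsgLib.SLGen.jN n F * (g⁻¹ : GL (Fin n) F).1) ^ k =
      g.1 * CfsgLib.SLGen.jN n F ^ k * (g⁻¹ : GL (Fin n) F).1 := fun k => Units.conj_pow g _ k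
  rw [show g.1 * (jordanGL n F).1 * (g⁻¹ : GL (Fin n) F).1 - 1 =
      g.1 * CfsgLib.SLGen.jN n F * (g⁻¹ : GL (Fin n) F).1 by
    rw [jordanGL_val, mul_add, add_mul, mul_one, ← Units.val_mul, mul_inv_cancel, Units.val_one,
      add_sub_cancel_left]]
  refine ⟨⟨n, by rw [hpow, CfsgLib.SLGen.jN_pow_card, mul_zero, zero_mul]⟩, fun h => ?_⟩
  rw [hpow] at h
  refine CfsgLib.SLGen.jN_pow_ne_zero (F := F) hn ?_
  calc CfsgLib.SLGen.jN n F ^ (n - 1)
      = (g⁻¹ : GL (Fin n) F).1 * (g.1 * CfsgLib.SLGen.jN n F ^ (n - 1) * (g⁻¹ : GL (Fin n) F).1) *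
          g.1 := by simp [mul_assoc]
    _ = 0 := by rw [h, mul_zero, zero_mul]

/-- the last basis vector -/
def lastVec (n : ℕ) (F : Type*) [Field F] : Fin n → F := fun i => if i.val + 1 = n then 1 else 0

theorem lastVec_eq (hn : 0 < n) : lastVec n F = ev ⟨n - 1, by omega⟩ := by
  funext i
  simp only [lastVec, ev, Pi.single_apply, Fin.ext_iff]
  congr 1
  simp only [eq_iff_iff]
  omega

theorem jN_mulVec_apply (x : Fin n → F) (i : Fin n) :
    (CfsgLib.SLGen.jN n F *ᵥ x) i = if h : i.val + 1 < n then x ⟨i.val + 1, h⟩ else 0 := by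
  rw [Matrix.mulVec, dotProduct]
  split_ifs with h
  · rw [Finset.sum_eq_single ⟨i.val + 1, h⟩]
    · simp [CfsgLib.SLGen.jN]
    · intro j _ hj
      have : j.val ≠ i.val + 1 := fun e => hj (Fin.ext e)
      simp [CfsgLib.SLGen.jN, this]
    · simp
  · refine Finset.sum_eq_zero fun j _ => ?_
    have : j.val ≠ i.val + 1 := by omega
    simp [CfsgLib.SLGen.jN, this]

theorem jordan_mulVec_apply (x : Fin n → F) (i : Fin n) :
    ((jordanGL n F).1 *ᵥ x) i = x i + if h : i.val + 1 < n then x ⟨i.val + 1, h⟩ else 0 := by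
  rw [jordanGL_val, Matrix.add_mulVec, Matrix.one_mulVec, Pi.add_apply, jN_mulVec_apply]

theorem jordan_pow_lastVec (k : ℕ) (i : Fin n) :
    ((jordanGL n F ^ k : GL (Fin n) F).1 *ᵥ lastVec n F) i = (k.choose (n - 1 - i.val) : F) := by
  induction k generalizing i with
  | zero =>
    rw [pow_zero, Units.val_one, Matrix.one_mulVec, lastVec]
    split_ifs with h
    · rw [show n - 1 - i.val = 0 by omega]; simp
    · rw [show n - 1 - i.val = (n - 2 - i.val) + 1 by omega]; simp
  | succ k ih =>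
    rw [pow_succ', Units.val_mul, ← Matrix.mulVec_mulVec, jordan_mulVec_apply, ih]
    split_ifs with h
    · rw [ih, show n - 1 - i.val = (n - 2 - i.val) + 1 by omega,
        show n - 1 - (i.val + 1) = n - 2 - i.val by omega, Nat.choose_succ_succ, Nat.cast_add]
      ring
    · rw [show n - 1 - i.val = 0 by omega]
      simp

theorem neg_one_pow_step {d : ℕ} (hd : 1 ≤ d) : ((-1 : F) ^ d) = -((-1) ^ (d - 1)) := by
  conv_lhs => rw [← Nat.sub_add_cancel hd, pow_succ]
  ring

theorem jordan_inv_lastVec (i : Fin n) :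
    ((jordanGL n F ^ (-1 : ℤ) : GL (Fin n) F).1 *ᵥ lastVec n F) i = (-1) ^ (n - 1 - i.val) := by
  set v : Fin n → F := fun i => (-1) ^ (n - 1 - i.val) with hv
  have h : (jordanGL n F).1 *ᵥ v = lastVec n F := by
    funext j
    rw [jordan_mulVec_apply, lastVec, hv]
    dsimp only
    split_ifs with h h' h'
    · omega
    · rw [neg_one_pow_step (d := n - 1 - j.val) (by omega),
        show n - 1 - j.val - 1 = n - 1 - (j.val + 1) by omega]
      ring
    · rw [show n - 1 - j.val = 0 by omega]; simp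
    · omega
  rw [_root_.zpow_neg_one, ← h, gl_inv_mulVec]

theorem jordan_inv_two_lastVec (i : Fin n) :
    ((jordanGL n F ^ (-2 : ℤ) : GL (Fin n) F).1 *ᵥ lastVec n F) i =
      (-1) ^ (n - 1 - i.val) * ((n - i.val : ℕ) : F) := by
  set v : Fin n → F := fun i => (-1) ^ (n - 1 - i.val) * ((n - i.val : ℕ) : F) with hv
  have h : (jordanGL n F).1 *ᵥ v = (jordanGL n F ^ (-1 : ℤ) : GL (Fin n) F).1 *ᵥ lastVec n F := by
    funext j
    rw [jordan_mulVec_apply, jordan_inv_lastVec, hv]
    dsimp only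
    split_ifs with h
    · rw [neg_one_pow_step (d := n - 1 - j.val) (by omega),
        show n - 1 - j.val - 1 = n - 1 - (j.val + 1) by omega,
        show n - j.val = n - (j.val + 1) + 1 by omega, Nat.cast_add, Nat.cast_one]
      ring
    · rw [show n - j.val = 1 by omega, Nat.cast_one]; ring
  rw [show (-2 : ℤ) = -1 + -1 from rfl, _root_.zpow_add, Units.val_mul, ← Matrix.mulVec_mulVec, ← h,
    _root_.zpow_neg_one, gl_inv_mulVec]

/-- a functional supported on the first three coordinates -/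
def topVec (n : ℕ) {F : Type*} [Field F] (α β z : F) : Fin n → F :=
  fun i => if i.val = 0 then α else if i.val = 1 then β else if i.val = 2 then z else 0

theorem dot_topVec (hn : 3 ≤ n) (α β z : F) (x : Fin n → F) :
    topVec n α β z ⬝ᵥ x = α * x ⟨0, by omega⟩ + β * x ⟨1, by omega⟩ + z * x ⟨2, by omega⟩ := by
  classical
  have h : topVec n α β z = α • ev ⟨0, by omega⟩ + β • ev ⟨1, by omega⟩ + z • ev ⟨2, by omega⟩ := by
    funext i
    simp only [topVec, ev, Pi.add_apply, Pi.smul_apply, Pi.single_apply, Fin.ext_iff, smul_eq_mul]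
    split_ifs <;> first | omega | simp
  rw [h]
  simp [add_dotProduct, ev, smul_dotProduct]

variable (α β z : F)

theorem pairing_top_nat (hn : 3 ≤ n) (k : ℕ) :
    pairing (jordanGL n F) (lastVec n F) (topVec n α β z) k =
      α * (k.choose (n - 1) : F) + β * (k.choose (n - 2) : F) + z * (k.choose (n - 3) : F) := by
  rw [pairing, dot_topVec hn, zpow_natCast, jordan_pow_lastVec, jordan_pow_lastVec, jordan_pow_lastVec]
  simp only [Nat.sub_zero, Nat.sub_sub]

theorem pairing_top_neg_one (hn : 3 ≤ n) :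
    pairing (jordanGL n F) (lastVec n F) (topVec n α β z) (-1) =
      (-1) ^ (n - 1) * (α - β + z) := by
  rw [pairing, dot_topVec hn, jordan_inv_lastVec, jordan_inv_lastVec, jordan_inv_lastVec]
  obtain ⟨k, rfl⟩ := Nat.exists_eq_add_of_le' hn
  dsimp only
  rw [show k + 3 - 1 - 0 = k + 2 by omega, show k + 3 - 1 - 1 = k + 1 by omega,
    show k + 3 - 1 - 2 = k by omega, show k + 3 - 1 = k + 2 by omega]
  simp only [pow_succ]
  ring

theorem pairing_top_neg_two (hn : 3 ≤ n) :
    pairing (jordanGL n F) (lastVec n F) (topVec n α β z) (-2) =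
      (-1) ^ (n - 1) * (α * (n : F) - β * ((n : F) - 1) + z * ((n : F) - 2)) := by
  rw [pairing, dot_topVec hn, jordan_inv_two_lastVec, jordan_inv_two_lastVec, jordan_inv_two_lastVec]
  obtain ⟨k, rfl⟩ := Nat.exists_eq_add_of_le' hn
  dsimp only
  rw [show k + 3 - 1 - 0 = k + 2 by omega, show k + 3 - 1 - 1 = k + 1 by omega,
    show k + 3 - 1 - 2 = k by omega, show k + 3 - 0 = k + 3 by omega,
    show k + 3 - 2 = k + 1 by omega, show k + 3 - 1 = k + 2 by omega]
  simp only [pow_succ]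
  push_cast
  ring

theorem span_lastVec (n : ℕ) :
    Submodule.span F (Set.range fun i : Fin n =>
      (jordanGL n F ^ (i : ℕ) : GL (Fin n) F).1 *ᵥ lastVec n F) = ⊤ := by
  rcases Nat.eq_zero_or_pos n with rfl | hn
  · exact Subsingleton.elim _ _
  refine eq_top_iff.2 fun x _ => ?_
  rw [pi_eq_sum_univ' x]
  refine Submodule.sum_mem _ fun i _ => Submodule.smul_mem _ _ ?_
  have h1 := span_iterates (Matrix.toLinAlgEquiv' (CfsgLib.SLGen.jN n F)) (lastVec n F)
    (n - 1 - i.val)
  rw [← map_pow, Matrix.toLinAlgEquiv'_apply, lastVec_eq hn, CfsgLib.SLGen.jN_pow_mulVec_ev,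
    if_pos (by simp)] at h1
  have he : (Pi.single i 1 : Fin n → F) = ev (⟨n - 1 - (n - 1 - i.val), by omega⟩ : Fin n) := by
    rw [ev]
    congr 1
    exact Fin.ext (by simp only; omega)
  rw [he]
  refine Submodule.span_mono ?_ h1
  rintro _ ⟨k, hk, rfl⟩
  have hkle : k ≤ n - 1 - i.val := hk
  refine ⟨⟨k, by omega⟩, ?_⟩
  rw [show (1 : Module.End F (Fin n → F)) + Matrix.toLinAlgEquiv' (CfsgLib.SLGen.jN n F) =
    Matrix.toLinAlgEquiv' (jordanGL n F).1 by rw [jordanGL_val, map_add, map_one]]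
  show (jordanGL n F ^ k : GL (Fin n) F).1 *ᵥ lastVec n F = ((Matrix.toLinAlgEquiv' (jordanGL n F).1) ^ k) (ev ⟨n - 1, _⟩)
  rw [← map_pow, Matrix.toLinAlgEquiv'_apply, ← Units.val_pow_eq_pow_val, ← lastVec_eq hn]

theorem span_topVec (hn : 3 ≤ n) (hα : α ≠ 0) :
    Submodule.span F (Set.range fun i : Fin n =>
      topVec n α β z ᵥ* (jordanGL n F ^ (i : ℕ) : GL (Fin n) F).1) = ⊤ := by
  have hentry : ∀ d i : Fin n, (topVec n α β z ᵥ* CfsgLib.SLGen.jN n F ^ (d : ℕ)) i =
      if h : d.val ≤ i.val then topVec n α β z ⟨i.val - d.val, by omega⟩ else 0 := by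
    intro d i
    have h1 : (topVec n α β z ᵥ* CfsgLib.SLGen.jN n F ^ (d : ℕ)) i =
        topVec n α β z ⬝ᵥ (CfsgLib.SLGen.jN n F ^ (d : ℕ) *ᵥ ev i) := by
      rw [Matrix.dotProduct_mulVec, ev, dotProduct_single, mul_one]
    rw [h1, CfsgLib.SLGen.jN_pow_mulVec_ev]
    split_ifs with h
    · rw [ev, dotProduct_single, mul_one]
    · exact dotProduct_zero _
  have htri := span_triangular (fun d : Fin n => topVec n α β z ᵥ* CfsgLib.SLGen.jN n F ^ (d : ℕ))
    (fun d i hid => by
      have h' : i.val < d.val := hid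
      rw [hentry, dif_neg (by omega)])
    (fun d => by
      rw [hentry, dif_pos le_rfl]
      simpa [topVec] using hα)
  refine eq_top_iff.2 ?_
  rw [← htri, Submodule.span_le]
  rintro _ ⟨d, rfl⟩
  let f : Module.End F (Fin n → F) := Matrix.vecMulLinear (CfsgLib.SLGen.jN n F)
  have hfpow : ∀ (k : ℕ) (x : Fin n → F), (f ^ k) x = x ᵥ* CfsgLib.SLGen.jN n F ^ k := by
    intro k
    induction k with
    | zero => intro x; simp
    | succ k ih =>
      intro x
      rw [pow_succ', Module.End.mul_apply, ih, pow_succ, ← Matrix.vecMul_vecMul]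
      rfl
  have hgpow : ∀ (k : ℕ) (x : Fin n → F),
      ((1 + f) ^ k) x = x ᵥ* (jordanGL n F ^ k : GL (Fin n) F).1 := by
    intro k
    induction k with
    | zero => intro x; simp
    | succ k ih =>
      intro x
      rw [pow_succ', Module.End.mul_apply, ih, pow_succ, Units.val_mul, ← Matrix.vecMul_vecMul,
        jordanGL_val, Matrix.vecMul_add, Matrix.vecMul_one]
      rfl
  have h1 := span_iterates f (topVec n α β z) d.val
  rw [hfpow] at h1
  refine Submodule.span_mono ?_ h1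
  rintro _ ⟨k, hk, rfl⟩
  have hkle : k ≤ d.val := hk
  exact ⟨⟨k, lt_of_le_of_lt hkle d.isLt⟩, (hgpow k _).symm⟩

end CfsgLib.RegUnip
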