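import Cfsg.Agent.Lib.RegUnip.CaseBig
import Mathlib.LinearAlgebra.Matrix.Kronecker

/-!
# The centralizer is not triangular
-/

set_option autoImplicit false
set_option linter.style.haveILetI false

open Finset
open scoped Classical Kronecker

namespace CfsgLib.RegUnip

variable {p w : ℕ} [Fact p.Prime] {X Q : Subgroup (GLw p w)}

theorem ent_diag_inv {g h : GLw p w} {i : ℕ} (hi : i < w) (hg : g ∈ St p w (i + 1)) (hh : h ∈ St p w i) :
    ent ((g * h : GLw p w) : M2 p w) i i = ent (g : M2 p w) i i * ent (h : M2 p w) i i := by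
  rw [Units.val_mul, ent_mul hi, Finset.sum_eq_single (⟨i, hi⟩ : Fin w)]
  · intro k _ hk
    have hk' : (k : ℕ) ≠ i := fun h => hk (Fin.ext h)
    rcases Nat.lt_or_gt_of_ne hk' with h1 | h1
    · rw [hh k i h1 le_rfl, mul_zero]
    · rw [hg i k (by omega) h1, zero_mul]
  · exact fun h => absurd (Finset.mem_univ _) h

/-- The kernel of the character at a step of width one. -/
def Fix1 (Y : Subgroup (GLw p w)) {i : ℕ} (hi : i < w) (h0 : Y ≤ St p w i) (h1 : Y ≤ St p w (i + 1)) :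
    Subgroup (GLw p w) :=
  subgroupOfFinite {g | g ∈ Y ∧ ent (g : M2 p w) i i = 1}
    ⟨Y.one_mem, by rw [Units.val_one, ent_one hi, if_pos rfl]⟩
    fun {a b} ha hb => ⟨Y.mul_mem ha.1 hb.1, by
      rw [ent_diag_inv hi (h1 ha.1) (h0 hb.1), ha.2, hb.2, one_mul]⟩

theorem mem_Fix1 {Y : Subgroup (GLw p w)} {i : ℕ} {hi : i < w} {h0 : Y ≤ St p w i}
    {h1 : Y ≤ St p w (i + 1)} {g : GLw p w} :
    g ∈ Fix1 Y hi h0 h1 ↔ g ∈ Y ∧ ent (g : M2 p w) i i = 1 := Iff.rfl

theorem Reg.fix1_props (hR : Reg X Q) {Y : Subgroup (GLw p w)} (hQY : Q ≤ Y) (hYX : Y ≤ X) {i : ℕ}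
    (hi : i < w) (h0 : Y ≤ St p w i) (h1 : Y ≤ St p w (i + 1)) :
    Q ≤ Fix1 Y hi h0 h1 ∧ ∀ c, Fix1 Y hi h0 h1 ≤ St p w c → Y ≤ St p w c := by
  have hQZ : Q ≤ Fix1 Y hi h0 h1 := fun q hq =>
    mem_Fix1.2 ⟨hQY hq, (mem_Uni_iff_diag (uni_le_low (hR.uni hq))).1 (hR.uni hq) i hi⟩
  refine ⟨hQZ, fun c hc g hg => ?_⟩
  obtain ⟨x, hxQ, hx⟩ := hR.shift
  have hB : Q.map (MulAut.conj g).toMonoidHom ≤ Fix1 Y hi h0 h1 := by
    rintro _ ⟨q, hq, rfl⟩
    have h2 : ent ((g * q * g⁻¹ : GLw p w) : M2 p w) i i = 1 := by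
      rw [ent_diag_inv hi (h1 (Y.mul_mem hg (hQY hq))) (h0 (Y.inv_mem hg)),
        ent_diag_inv hi (h1 hg) (h0 (hQY hq)), (mem_Fix1.1 (hQZ hq)).2, mul_one,
        ← ent_diag_inv hi (h1 hg) (h0 (Y.inv_mem hg)), mul_inv_cancel, Units.val_one, ent_one hi,
        if_pos rfl]
    exact mem_Fix1.2 ⟨by simpa [MulAut.conj_apply] using Y.mul_mem (Y.mul_mem hg (hQY hq)) (Y.inv_mem hg),
      by simpa [MulAut.conj_apply] using h2⟩
  obtain ⟨z, hz, hconj⟩ := exists_conj_le hR.isP hQZ (fun hd => hR.sylow (dvd_trans hd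
    (Dvd.intro _ (Subgroup.relIndex_mul_relIndex Q _ X hQZ (fun a ha => hYX (mem_Fix1.1 ha).1)))))
    (hR.isP.map _) hB
  have hlow : z * g ∈ Low p w := by
    refine low_of_conj hx (hR.uni ?_)
    have := hconj _ ⟨x, hxQ, rfl⟩
    simpa [MulAut.conj_apply, mul_assoc] using this
  have h3 := (St p w c).mul_mem ((St p w c).inv_mem (hc hz)) (mem_St.2 (deg_zero_iff.1 (mem_Low.1 hlow) c))
  rwa [inv_mul_cancel_left] at h3

variable {s : GLw p w} {d : ℕ}

theorem torus_arith {o : ℕ} (hp5 : 5 ≤ p) (h3 : p ≤ 3 * o) (ho : o ∣ p - 1) (hod : o ∣ d) (hd : 0 < d)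
    (h2 : 2 * d ≤ p - 1) : o = d ∧ 2 * d = p - 1 := by
  obtain ⟨t, ht⟩ := ho
  have hle := Nat.le_of_dvd hd hod
  match t, ht with
  | 0, h => omega
  | 1, h => omega
  | 2, h => omega
  | t + 3, h =>
    have : 3 * o ≤ o * (t + 3) := by rw [Nat.mul_add, Nat.mul_comm 3]; exact Nat.le_add_left _ _
    omega

theorem Ctr.short (hc : Ctr X Q s d) {Y : Subgroup (GLw p w)} (hY : Y ≤ Cs X s) {a b : ℕ}
    (hm : ∀ c, a < c → c < b → ¬ Y ≤ St p w c) : b - a ≤ d := by
  by_contra hlt
  have hd := hc.two_le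
  have h1 := Nat.lt_div_mul_add (a := a) (show 0 < d by omega)
  have h2 := Nat.div_mul_le_self a d
  have h3 : (a / d + 1) * d = a / d * d + d := by ring
  exact hm ((a / d + 1) * d) (by omega) (by omega) (hY.trans (hc.le_St _))

/-- A centralizer that is not triangular has degree `(p - 1) / 2`. -/
theorem Reg.nonclosed_val (hR : Reg X Q) (hp5 : 5 ≤ p) (hwp : w ≤ p - 1) (hind : Small p w)
    (hc : Ctr X Q s d) (hA : 2 * d ≤ w + 1) (hnc : ¬ Cs X s ≤ Low p w) : 2 * d = p - 1 := by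
  have hdw := hc.lt
  have hd2 := hc.two_le
  have hodd : p % 2 = 1 := Nat.odd_iff.1 ((Fact.out : p.Prime).odd_of_ne_two (by omega))
  obtain ⟨k, hkw, hk⟩ := exists_step hnc
  obtain ⟨o, ho3, hop, hod⟩ := hR.exists_torus_dvd (by omega) (by omega) hind (hc.le_Cs hR) inf_le_left
    hkw.le hk (fun a b _ _ _ _ _ hm => by have := hc.short le_rfl hm; omega)
    (n := d) (fun g hg hl => hc.ratio_pow hR hg hl)
  exact (torus_arith hp5 ho3 hop hod (by omega) (by omega)).2

/-- The centralizer is triangular when `w = 2 d - 1`. -/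
theorem Reg.case_corner (hR : Reg X Q) (hp5 : 5 ≤ p) (hwp : w ≤ p - 1) (hind : Small p w)
    (hc : Ctr X Q s d) (hw2 : w + 1 = 2 * d) : Cs X s ≤ Low p w := by
  by_contra hnc
  have hdw := hc.lt
  have hd2 := hc.two_le
  have hdp := hR.nonclosed_val hp5 hwp hind hc (by omega) hnc
  have hd0 : Cs X s ≤ St p w (d - 1) := by
    have := hc.le_St'
    rwa [show w - d = d - 1 by omega] at this
  have hd1 : Cs X s ≤ St p w (d - 1 + 1) := by
    have := hc.le_St 1
    rwa [one_mul, show d = d - 1 + 1 by omega] at this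
  set L := Fix1 (Cs X s) (show d - 1 < w by omega) hd0 hd1 with hL
  obtain ⟨hQL, hLsteps⟩ := hR.fix1_props (hc.le_Cs hR) inf_le_left (show d - 1 < w by omega) hd0 hd1
  have hLC : L ≤ Cs X s := fun g hg => (mem_Fix1.1 hg).1
  have hLX : L ≤ X := hLC.trans inf_le_left
  by_cases h2 : L ≤ St p w (d - 2)
  · -- two trivial characters kill the torus
    have h21 : L ≤ St p w (d - 2 + 1) := by
      rw [show d - 2 + 1 = d - 1 by omega]
      exact hLC.trans hd0
    set L2 := Fix1 L (show d - 2 < w by omega) h2 h21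
    obtain ⟨hQ2, hsteps2⟩ := hR.fix1_props hQL hLX (show d - 2 < w by omega) h2 h21
    have hL2L : L2 ≤ L := fun g hg => (mem_Fix1.1 hg).1
    have hnlow : ¬ L2 ≤ Low p w := fun hlow => hnc fun g hg => mem_Low.2 (deg_zero_iff.2 fun c =>
      hLsteps c (hsteps2 c fun a ha => mem_St.2 (deg_zero_iff.1 (mem_Low.1 (hlow ha)) c)) hg)
    obtain ⟨k, hkw, hk⟩ := exists_step hnlow
    obtain ⟨o, ho3, -, ho1⟩ := hR.exists_torus_dvd (by omega) (by omega) hind hQ2 (hL2L.trans hLX)
      hkw.le hk (fun a b _ _ _ _ _ hm => by have := hc.short (hL2L.trans hLC) hm; omega)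
      (n := 1) (fun g hg hl => by
        have e1 := (mem_Fix1.1 hg).2
        have e2 := (mem_Fix1.1 (hL2L hg)).2
        rw [hR.diag_step (hLX (hL2L hg)) hl (by omega)] at e1 e2
        rw [show d - 1 = d - 2 + 1 by omega, pow_succ, ← mul_assoc, e1, one_mul] at e2
        rw [pow_one, e2])
    have := Nat.eq_one_of_dvd_one ho1
    omega
  -- the constituent next to the middle
  obtain ⟨a, b, hab, hkb, hbw, hLa, hLb, hmid⟩ := exists_block (show d - 2 ≤ w by omega) h2
  have hb : b = d - 1 := by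
    by_contra hne
    exact hmid (d - 1) (by omega) (by omega) (hLC.trans hd0)
  obtain ⟨m, rfl⟩ : ∃ m, b = a + m := ⟨b - a, by omega⟩
  obtain ⟨hB, ho3, hop, hlift, hdvd⟩ := hR.exists_torus (by omega) (by omega) hind hQL hLX
    (show 1 < m by omega) (show m < w by omega) hbw (by omega) hLa hLb hmid
  obtain ⟨hod, -⟩ := torus_arith hp5 ho3 hop (hdvd d fun g hg hl => hc.ratio_pow hR (hLC hg) hl)
    (by omega) (by omega)
  set G := (resHom hbw hLa hLb).range with hG
  have hirrG := irr_block hbw hLa hLb hmid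
  obtain ⟨x, hxP, hx, hcard, hN, hfree⟩ :=
    hB.of_gam_bot (hind m (by omega) _ _ hB hirrG) (show 1 < m by omega) (by omega)
  obtain ⟨P, hP0, -, -, hPfix⟩ := hB.exists_eigen (show 1 < m by omega) hN (H := G ⊓ Low p m) le_rfl
    (le_inf hB.le (hB.uni.trans uni_le_low)) (e := 1) le_rfl (by omega)
  let ρ₁ : G →* Matrix (Fin m × Fin m) (Fin m × Fin m) (ZMod p) :=
    { toFun := fun g => nat₀ G g ⊗ₖ nat₀ G g
      map_one' := by simp only [map_one]; exact Matrix.one_kronecker_one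
      map_mul' := fun g h => by simp only [map_mul]; exact Matrix.mul_kronecker_mul _ _ _ _ }
  let di : Fin m × Fin m → ℤ := fun ij => dg m ij.1 - (m : ℤ) + dg m ij.2
  let last : Fin m := ⟨m - 1, by omega⟩
  let W : Matrix (Fin m × Fin m) (Fin m) (ZMod p) :=
    Matrix.of fun ij j => if ij.1 = last then P ij.2 j else 0
  have hconj : ∀ (g : G) (i i' j : Fin m), conjRep ρ₁ (nat₀ G) 1 g W (i, i') j
      = nat₀ G g i last * (nat₀ G g * P * nat₀ G g⁻¹) i' j := by
    intro g i i' j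
    rw [conjRep_one_apply, Matrix.mul_assoc (nat₀ G g) P, Matrix.mul_assoc (ρ₁ g) W]
    simp only [Matrix.mul_apply, Fintype.sum_prod_type]
    rw [Finset.sum_eq_single last]
    · simp only [Finset.mul_sum]
      refine Finset.sum_congr rfl fun k _ => Finset.sum_congr rfl fun l _ => ?_
      simp only [ρ₁, MonoidHom.coe_mk, OneHom.coe_mk, Matrix.kroneckerMap_apply, W, Matrix.of_apply,
        if_true]
      ring
    · intro k _ hk
      exact Finset.sum_eq_zero fun l _ => by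
        rw [Finset.sum_eq_zero fun u _ => by simp [W, hk], mul_zero]
    · exact fun h => absurd (Finset.mem_univ _) h
  -- the torus on the top of the constituent
  have htop : ∀ g ∈ G, g ∈ Low p m → ent (g : M2 p m) (m - 1) (m - 1) * ratio g = 1 := by
    intro g hg hl
    obtain ⟨g', hg'L, hg'l, hr, hdiag⟩ := hlift g hg hl
    have e1 := (mem_Fix1.1 hg'L).2
    rw [hdiag (m - 1) (by omega), hr, hR.diag_step (hLX hg'L) hg'l (by omega), mul_assoc, ← pow_succ]
    rw [hR.diag_step (hLX hg'L) hg'l (by omega)] at e1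
    rwa [show a + (m - 1) + 1 = d - 1 by omega]
  have hfix : ∀ h ∈ (G ⊓ Low p m).subgroupOf G, conjRep ρ₁ (nat₀ G) 1 h W = W := by
    intro h hh
    have hh' : (h : GLw p m) ∈ G ⊓ Low p m := hh
    have hl := (Subgroup.mem_inf.1 hh').2
    ext ⟨i, i'⟩ j
    rw [hconj, show nat₀ G h * P * nat₀ G h⁻¹ = ratio (h : GLw p m) • P by
      rw [← pow_one (ratio (h : GLw p m))]; exact hPfix _ hh']
    rw [Matrix.smul_apply, smul_eq_mul]
    simp only [W, Matrix.of_apply, nat₀_apply]
    rw [← ent_fin ((h : GLw p m) : M2 p m) i last, ← mul_assoc]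
    split_ifs with hi
    · rw [hi, htop _ h.2 hl, one_mul]
    · have hi' : (i : ℕ) < m - 1 := by
        have := i.2
        by_contra
        exact hi (Fin.ext (by simp only [last]; omega))
      rw [(mem_Low.1 hl).ent_eq (by simp only [last]; omega), zero_mul, zero_mul]
  have hW : Weights ρ₁ (nat₀ G) 1 di (dg m) ((G ⊓ Low p m).subgroupOf G)
      (fun g => ratio (g : GLw p m)) := by
    intro h hh
    have hh' : (h : GLw p m) ∈ G ⊓ Low p m := hh
    obtain ⟨hX, hl⟩ := Subgroup.mem_inf.1 hh'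
    set r := ratio (h : GLw p m) with hrdef
    set α := ent ((h : GLw p m) : M2 p m) 0 0
    have hr := hB.ratio_ne_zero (by omega) hX hl
    have htri := hB.tri hX hl
    have hα : α * r ^ m = 1 := by
      have := htop _ hX hl
      rwa [hB.diag_step hX hl (by omega), mul_assoc, ← pow_succ, Nat.sub_add_cancel (by omega)] at this
    refine ⟨hr, α ^ 2 * r ^ m, α⁻¹, ?_, ⟨?_, ?_⟩, hB.tri_inv (by omega) hX hl⟩
    · rw [MonoidHom.one_apply, one_mul, sq, mul_assoc α α, hα, mul_one, mul_inv_cancel₀ (diag_ne_zero hl (by omega))]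
    · rintro ⟨i, i'⟩ ⟨k, k'⟩ hle hne
      simp only [di, dg] at hle
      show nat₀ G h i k * nat₀ G h i' k' = 0
      rcases eq_or_ne i k with rfl | hik
      · rw [show nat₀ G h i' k' = 0 from htri.off i' k' (by simp only [dg]; omega)
          (fun h => hne (by rw [h])), mul_zero]
      · rcases Nat.lt_or_gt_of_ne (Fin.val_ne_of_ne hik) with h1 | h1
        · rw [show nat₀ G h i k = 0 from htri.off i k (by simp only [dg]; omega) hik, zero_mul]
        · rw [show nat₀ G h i' k' = 0 from htri.off i' k' (by simp only [dg]; omega)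
            (fun h => by rw [h] at hle; omega), mul_zero]
    · rintro ⟨i, i'⟩
      show nat₀ G h i i * nat₀ G h i' i' = _
      rw [show nat₀ G h i i = α * r ^ dg m i from htri.diag i,
        show nat₀ G h i' i' = α * r ^ dg m i' from htri.diag i']
      have e : r ^ m * r ^ di (i, i') = r ^ dg m i * r ^ dg m i' := by
        rw [← zpow_natCast, ← zpow_add₀ hr, ← zpow_add₀ hr]
        congr 1
        simp only [di]
        omega
      rw [mul_assoc (α ^ 2), e]
      ring
  have hxG : x ∈ G := hB.le hxP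
  have hdeg : Deg (dg m) (dg m) (nat₀ G ⟨x, hxG⟩ - 1) 1 := mem_Uni.1 (uni_shift hx)
  have hdeg₁ : Deg di di (ρ₁ ⟨x, hxG⟩ - 1) 1 := by
    rintro ⟨i, i'⟩ ⟨k, k'⟩ hlt
    simp only [di] at hlt
    have hent : ∀ u v : Fin m, dg m u - dg m v < 1 →
        nat₀ G ⟨x, hxG⟩ u v = (1 : M2 p m) u v := fun u v huv =>
      sub_eq_zero.1 (by simpa using hdeg u v huv)
    show nat₀ G ⟨x, hxG⟩ i k * nat₀ G ⟨x, hxG⟩ i' k'
      - (1 : Matrix (Fin m × Fin m) (Fin m × Fin m) (ZMod p)) (i, i') (k, k') = 0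
    rw [sub_eq_zero, ← Matrix.one_kronecker_one, Matrix.kroneckerMap_apply]
    by_cases h1 : dg m i - dg m k < 1
    · by_cases h2 : dg m i' - dg m k' < 1
      · rw [hent _ _ h1, hent _ _ h2]
      · have h3 : (1 : M2 p m) i k = 0 := Matrix.one_apply_ne fun e => by rw [e] at hlt; omega
        rw [hent _ _ h1, h3, zero_mul, zero_mul]
    · have h3 : (1 : M2 p m) i' k' = 0 := Matrix.one_apply_ne fun e => by rw [e] at hlt; omega
      rw [hent i' k' (by omega), h3, mul_zero, mul_zero]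
  have hbd : ∀ (ij : Fin m × Fin m) (j : Fin m),
      1 - 2 * (m : ℤ) ≤ di ij - dg m j ∧ di ij - dg m j ≤ (m : ℤ) - 2 := fun ij j => by
    have := ij.1.2; have := ij.2.2; have := j.2
    simp only [di, dg]
    omega
  have hall := fixed_of_gain (H := (G ⊓ Low p m).subgroupOf G)
    (Q := ((Q.subgroupOf L).map (resHom hbw hLa hLb)).subgroupOf G)
    (fun g hg => Subgroup.mem_inf.2 ⟨g.2, uni_le_low (hB.uni hg)⟩)
    (fun g hg q hq h => Subtype.ext (hfree g g.2 hg q hq h))
    (gains_order_p hcard (x := (⟨x, hxG⟩ : G)) hxP (fun h => by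
      have := orderOf_shift hx (show 1 < m by omega) (by omega)
      rw [show x = 1 from congrArg Subtype.val h, orderOf_one] at this
      omega) zero_le_one hdeg₁ hdeg)
    (fun a b => (hbd a b).1) (fun a b => (hbd a b).2) le_rfl hW (fun z hz hz' => ?_) hfix
  · refine hirrG (m - 1) (by omega) (by omega) fun g hg i j hi hj => ?_
    by_cases hlt : i < m ∧ j < m
    · obtain rfl : j = m - 1 := by omega
      set g' : G := ⟨g, hg⟩
      have hne : nat₀ G g' * P * nat₀ G g'⁻¹ ≠ 0 := fun h0 => hP0 (by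
        have h1 := congrArg (fun z => nat₀ G g'⁻¹ * z * nat₀ G g') h0
        simpa [mul_assoc, ← map_mul, ← Subgroup.coe_mul, nat₀] using h1)
      obtain ⟨i', j', hij⟩ : ∃ i' j', (nat₀ G g' * P * nat₀ G g'⁻¹) i' j' ≠ 0 := by
        by_contra hno
        push Not at hno
        exact hne (Matrix.ext hno)
      have h1 := congrFun (congrFun (hall g') (⟨i, hlt.1⟩, i')) j'
      rw [hconj] at h1
      simp only [W, Matrix.of_apply] at h1
      rw [if_neg (fun h => by simp only [last, Fin.ext_iff] at h; omega)] at h1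
      rw [ent, dif_pos hlt]
      exact (mul_eq_zero.1 h1).resolve_right hij
    · exact ent_of_le (by omega)
  · have hz0 : 0 < z := by omega
    have hnd : ¬ (valOrd (hB.torus (show 1 < m by omega)) : ℤ) ∣ z := by
      rw [hod]
      intro hdz
      have := Int.le_of_dvd hz0 hdz
      omega
    rw [← forall_zpow_iff] at hnd
    push Not at hnd
    obtain ⟨h, hh⟩ := hnd
    refine ⟨⟨h, (Subgroup.mem_inf.1 h.2).1⟩, h.2, fun h1 => hh (Units.ext ?_)⟩
    rw [Units.val_zpow_eq_zpow_val, hB.torus_apply]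
    exact h1

end CfsgLib.RegUnip
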