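import Cfsg.Agent.Lib.Perm.Dickson.TwoTransv

/-!
Generation of `SL_2` in characteristic two by three transvections, and by two products of opposite
transvections.
-/

set_option autoImplicit false
set_option linter.all false

namespace CfsgLib.RegUnip

open Matrix CfsgLib.Perm.Dickson

variable {F : Type*} [Field F] [Fintype F]

theorem slToG2_injective_of_two [CharP F 2] : Function.Injective (slToG2 (F := F)) := by
  rw [injective_iff_map_eq_one]
  intro g hg
  rcases slToG2_eq_one g hg with h | h
  · exact Subtype.ext h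
  · refine Subtype.ext (h.trans ?_)
    show -(1 : Matrix (Fin 2) (Fin 2) F) = 1
    ext i j
    rw [Matrix.neg_apply, CharTwo.neg_eq]

theorem mem_subfield_of_sq [CharP F 2] {F1 : Subfield F} {x : F} (h : x ^ 2 ∈ F1) : x ∈ F1 := by
  obtain ⟨n, hpp, hn⟩ := FiniteField.card F 2
  have h0 : 0 < (n : ℕ) := n.pos
  have hx : (x ^ 2) ^ (2 ^ ((n : ℕ) - 1)) = x := by
    rw [← pow_mul, ← pow_succ', Nat.sub_add_cancel h0, ← hn, FiniteField.pow_card]
  rw [← hx]
  exact pow_mem h _

variable [CharP F 2]

/-- the subfield case of the classification -/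
theorem closure_top_of_subfield {L : Subgroup (SL2F F)} (σ : G2 F) (F1 : Subfield F)
    (h : conjG σ (L.map slToG2) = (mapG F1.subtype).range ∨
      (Odd (Nat.card F1) ∧ conjG σ (L.map slToG2) = (psl F1).map (mapG F1.subtype)))
    {g : SL2F F} (hg : g ∈ L) {l : F} (hl : (g.1 0 0 + g.1 1 1) = l ∨ (g.1 0 0 + g.1 1 1) = l ^ 2)
    (hgen : Subfield.closure ({l} : Set F) = ⊤) : L = ⊤ := by
  classical
  haveI := finite_G2 (F := F)
  haveI : Fact (Nat.Prime 2) := ⟨Nat.prime_two⟩
  have hle : conjG σ (L.map slToG2) ≤ pglSub F1 := by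
    rcases h with e | ⟨-, e⟩
    · exact e.le
    · rw [e]; exact pslSub_le_pglSub F1
  have hm := slToG2_trace_sq (σ := σ) (F1 := F1) (g := g) (hle ⟨_, ⟨g, hg, rfl⟩, rfl⟩)
  have htop : F1 = ⊤ := by
    have hlm : l ∈ F1 := by
      rcases hl with e | e <;> rw [e] at hm
      · exact mem_subfield_of_sq hm
      · exact mem_subfield_of_sq (mem_subfield_of_sq hm)
    rw [eq_top_iff, ← hgen, Subfield.closure_le]
    exact Set.singleton_subset_iff.2 hlm
  have hc1 : Nat.card F1 = Nat.card F := by
    rw [htop]; exact Nat.card_congr (Subfield.topEquiv (K := F)).toEquiv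
  have hmap : L.map slToG2 = psl F := by
    refine Subgroup.eq_of_le_of_card_ge (by rintro _ ⟨x, -, rfl⟩; exact ⟨x, rfl⟩) ?_
    have h1 : Nat.card (pslSub F1) = Nat.card (psl F) := by
      have e := card_pslSub F1
      rw [card_pglSub, hc1, ← card_G2, ← psl_index] at e
      exact Nat.eq_of_mul_eq_mul_left (Nat.gcd_pos_of_pos_left _ (by norm_num)) e
    rw [← h1, ← card_conjG (G := L.map slToG2) σ]
    refine Nat.card_le_card_of_injective _ (Subgroup.inclusion_injective ?_)
    rcases h with e | ⟨-, e⟩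
    · rw [e]; exact pslSub_le_pglSub F1
    · exact e ▸ le_rfl
  refine eq_top_iff.2 fun x _ => ?_
  obtain ⟨y, hy, hxy⟩ : slToG2 x ∈ L.map slToG2 := by rw [hmap]; exact ⟨x, rfl⟩
  exact slToG2_injective_of_two hxy ▸ hy

/-- three transvections -/
theorem closure_three_transv {l m : F} (hm : m ≠ 0) (hlm : l ≠ m) (hl : l ≠ 0)
    (hgen : Subfield.closure ({l} : Set F) = ⊤) :
    Subgroup.closure {trA l, trA m, (trB : SL2F F)} = ⊤ := by
  classical
  haveI := finite_G2 (F := F)
  haveI : Fact (Nat.Prime 2) := ⟨Nat.prime_two⟩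
  set L := Subgroup.closure {trA l, trA m, (trB : SL2F F)} with hL
  have hlL : trA l ∈ L := Subgroup.subset_closure (Set.mem_insert _ _)
  have hmL : trA m ∈ L := Subgroup.subset_closure (Set.mem_insert_of_mem _ (Set.mem_insert _ _))
  have hBm : (trB : SL2F F) ∈ L :=
    Subgroup.subset_closure (Set.mem_insert_of_mem _ (Set.mem_insert_of_mem _ rfl))
  have hnot : ∀ a b : P2 (Kc F), GoodPair a b → ∀ x : F, x ≠ 0 → tr x ∉ pairFix a b := by
    intro a b hg x hx h1
    have hord : orderOf (tr x : G2 F) = 2 := by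
      refine orderOf_eq_prime (by rw [tr_pow, CharP.cast_eq_zero, zero_mul, tr_zero]) fun e => hx ?_
      exact tr_injective (e.trans tr_zero.symm)
    refine not_p_dvd_torus 2 hg ?_
    have h2 : orderOf (⟨tr x, h1⟩ : pairFix a b) ∣ Nat.card (pairFix a b) := orderOf_dvd_natCard _
    rwa [Subgroup.orderOf_mk, hord] at h2
  have hpair : ∀ a b : P2 (Kc F), GoodPair a b → ¬ L.map slToG2 ≤ pairSet a b := by
    intro a b hg h
    have h1 : tr l ∈ pairSet a b := h ⟨_, hlL, slToG2_trA l⟩
    have h2 : tr m ∈ pairSet a b := h ⟨_, hmL, slToG2_trA m⟩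
    have h3 : tr (l + m) ∈ pairFix a b := by
      rw [← tr_mul]
      rcases mem_pairSet.1 h1 with e1 | e1
      · exact absurd (mem_pairFix.2 e1) (hnot a b hg l hl)
      rcases mem_pairSet.1 h2 with e2 | e2
      · exact absurd (mem_pairFix.2 e2) (hnot a b hg m hm)
      refine mem_pairFix.2 ⟨?_, ?_⟩
      · rw [map_mul, mul_smul, e2.1, e1.2]
      · rw [map_mul, mul_smul, e2.2, e1.1]
    exact hnot a b hg _ (fun e => hlm (by linear_combination e - m * CharTwo.two_eq_zero (R := F))) h3
  cases classify_finite 2 (L.map slToG2) with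
  | borel x hx =>
    exfalso
    obtain rfl | ⟨z, rfl⟩ := point_cases x
    · have := hx _ ⟨_, hBm, rfl⟩
      rw [slToG2, MonoidHom.comp_apply, ip, mk_smul, mk_eq_fp] at this
      · exact fp_ne_ip _ this
      · simp [trB, Matrix.SpecialLinearGroup.toGL, Matrix.mulVec, dotProduct, Fin.sum_univ_two]
    · have := fp_inj ((tr_fp l z).symm.trans (hx _ ⟨_, hlL, slToG2_trA l⟩))
      exact hl (by linear_combination this)
  | cyclic a b hg h hne => exact absurd (h.trans (pairFix_le_pairSet a b)) (hpair a b hg)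
  | dihedral a b hg h hn hC => exact absurd h (hpair a b hg)
  | a4 hN h2 h3 e => exact absurd rfl h2
  | s4 hN h2 h3 e => exact absurd rfl h2
  | a5 hN h2 h5 e => exact absurd rfl h2
  | subfield σ F1 h3 h =>
    refine closure_top_of_subfield σ F1 h (mul_mem hlL hBm) (Or.inl ?_) hgen
    rw [trA_mul_trB]
    simp only [of_apply, cons_val', cons_val_zero, cons_val_one, cons_val_fin_one]
    linear_combination CharTwo.two_eq_zero (R := F)

/-- the product of two opposite transvections -/
def opp (a : F) : SL2F F := ⟨!![1 + a * a, a; a, 1], by rw [det_fin_two_of]; ring⟩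

theorem closure_two_opp {ω : F} (h0 : ω ≠ 0) (h1 : ω ≠ 1)
    (hgen : Subfield.closure ({ω} : Set F) = ⊤) : Subgroup.closure {opp (1 : F), opp ω} = ⊤ := by
  classical
  haveI := finite_G2 (F := F)
  haveI : Fact (Nat.Prime 2) := ⟨Nat.prime_two⟩
  have htwo := CharTwo.two_eq_zero (R := F)
  set L := Subgroup.closure {opp (1 : F), opp ω} with hL
  have h1L : opp (1 : F) ∈ L := Subgroup.subset_closure (Set.mem_insert _ _)
  have hωL : opp ω ∈ L := Subgroup.subset_closure (Set.mem_insert_of_mem _ rfl)
  have hpair : ∀ a b : P2 (Kc F), GoodPair a b → ¬ L.map slToG2 ≤ pairSet a b := by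
    intro a b hg h
    have hfix : ∀ s : F, s ≠ 0 → opp s ∈ L → slToG2 (opp s) ∈ pairFix a b := by
      intro s hs hsL
      by_contra hn
      have hsq := sq_of_swap hg.1 (h ⟨_, hsL, rfl⟩) hn
      rw [← map_mul, ← map_one (slToG2 (F := F))] at hsq
      have he := congrArg (fun g : SL2F F => g.1 1 1) (slToG2_injective_of_two hsq)
      simp only [Matrix.SpecialLinearGroup.coe_mul] at he
      simp [opp, Matrix.mul_apply, Fin.sum_univ_two] at he
      exact hs he
    haveI := isCyclic_pairFix (F := F) hg.1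
    have hc := congrArg Subtype.val (mul_comm'
      (⟨_, hfix 1 one_ne_zero h1L⟩ : pairFix a b) ⟨_, hfix ω h0 hωL⟩)
    simp only [Subgroup.coe_mul, ← map_mul] at hc
    have he := congrArg (fun g : SL2F F => g.1 0 1) (slToG2_injective_of_two hc)
    simp only [Matrix.SpecialLinearGroup.coe_mul] at he
    simp [opp, Matrix.mul_apply, Fin.sum_univ_two] at he
    refine mul_ne_zero h0 (fun e => h1 (by linear_combination e - htwo)) (?_ : ω * (ω + 1) = 0)
    linear_combination -he + ω * htwo
  cases classify_finite 2 (L.map slToG2) with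
  | borel x hx =>
    exfalso
    obtain rfl | ⟨z, rfl⟩ := point_cases x
    · have := hx _ ⟨_, hωL, rfl⟩
      rw [slToG2, MonoidHom.comp_apply, ip, mk_smul, mk_eq_fp] at this
      · exact fp_ne_ip _ this
      · simpa [opp, Matrix.SpecialLinearGroup.toGL, Matrix.mulVec, dotProduct, Fin.sum_univ_two] using h0
    · have key : ∀ s : F, opp s ∈ L → s * z + 1 ≠ 0 → (1 + s * s) * z + s = z * (s * z + 1) := by
        intro s hs hne
        have := hx _ ⟨_, hs, rfl⟩
        rw [slToG2, MonoidHom.comp_apply, fp, mk_smul, mk_eq_fp] at this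
        · have h2 := fp_inj this
          simp [opp, Matrix.SpecialLinearGroup.toGL, Matrix.mulVec, dotProduct, Fin.sum_univ_two] at h2
          rw [div_eq_iff hne] at h2
          exact h2
        · simpa [opp, Matrix.SpecialLinearGroup.toGL, Matrix.mulVec, dotProduct, Fin.sum_univ_two] using hne
      have key0 : ∀ s : F, opp s ∈ L → s * z + 1 ≠ 0 := by
        intro s hs he
        have := hx _ ⟨_, hs, rfl⟩
        rw [slToG2, MonoidHom.comp_apply, fp, mk_smul, mk_eq_ip] at this
        · exact fp_ne_ip _ this.symm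
        · simpa [opp, Matrix.SpecialLinearGroup.toGL, Matrix.mulVec, dotProduct, Fin.sum_univ_two] using he
      have k1 := key 1 h1L (key0 1 h1L)
      have k2 := key ω hωL (key0 ω hωL)
      have e1 : z * z = z + 1 := by linear_combination -k1
      have e2 : ω * (z * z) = ω * (ω * z + 1) := by linear_combination -k2
      have e3 : z * z = ω * z + 1 := mul_left_cancel₀ h0 e2
      have e4 : z * (ω - 1) = 0 := by linear_combination e1 - e3
      rcases mul_eq_zero.1 e4 with e | e
      · rw [e] at e1; simp at e1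
      · exact h1 (sub_eq_zero.1 e)
  | cyclic a b hg h hne => exact absurd (h.trans (pairFix_le_pairSet a b)) (hpair a b hg)
  | dihedral a b hg h hn hC => exact absurd h (hpair a b hg)
  | a4 hN h2 h3 e => exact absurd rfl h2
  | s4 hN h2 h3 e => exact absurd rfl h2
  | a5 hN h2 h5 e => exact absurd rfl h2
  | subfield σ F1 h3 h =>
    refine closure_top_of_subfield σ F1 h hωL (Or.inr ?_) hgen
    simp [opp]
    linear_combination htwo

end CfsgLib.RegUnip
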