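import Cfsg.Agent.Lib.Perm.Trans.SympMax
import Cfsg.Agent.Lib.Perm.Trans.SympDecomp

/-!
A symplectic matrix group whose transvection centres contain a spanning connected family has every
vector as a centre.
-/

set_option autoImplicit false

namespace CfsgLib.RegUnip

open Matrix Cfsg.Geo CfsgLib.Perm.Trans CfsgLib.Perm.Trans.Symp

variable {ι : Type} [Fintype ι] [DecidableEq ι] {F : Type*} [Field F]
variable {f : (ι → F) → (ι → F) → F} (hf : IsSymplecticForm f)
variable {M : Subgroup (GL ι F)} (hle : M ≤ isoSub f)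

local notation "Vec" => ι → F

include hf

theorem sp_add_smul_left (a b : F) (u v w : Vec) : f (a • u + b • v) w = a * f u w + b * f v w := by
  rw [hf.bilinear.add_left, hf.bilinear.smul_left, hf.bilinear.smul_left]

include hle

/-- two non-orthogonal centres give a plane of centres -/
theorem sp_plane_full {e h : Vec} (he : e ∈ centres hf M) (hh : h ∈ centres hf M) (heh : f e h ≠ 0)
    {v : Vec} (hv : v ∈ Submodule.span F ({e, h} : Set Vec)) : v ∈ centres hf M := by
  obtain ⟨a, b, rfl⟩ := Submodule.mem_span_pair.1 hv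
  rcases eq_or_ne a 0 with rfl | ha
  · rw [zero_smul, zero_add]; exact centres_smul hf hh b
  · rw [show a • e + b • h = a • (e + (b / a) • h) by rw [smul_add, smul_smul, mul_div_cancel₀ _ ha]]
    exact centres_smul hf (centres_line hf hle he hh heh _) a

/-- moving the component in a full nondegenerate subspace -/
theorem sp_move {W : Submodule F Vec} (hW : IsNondegenerateOn f W) (hWC : ∀ w ∈ W, w ∈ centres hf M)
    {p q r : Vec} (hp : p ∈ W) (hq : q ∈ W) (hp0 : p ≠ 0) (hq0 : q ≠ 0) (hr : r ∈ perp hf W)
    (h : p + r ∈ centres hf M) : q + r ∈ centres hf M := by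
  obtain ⟨t, ht, htp⟩ := move_vec hf (M := M) (fun u hu c => hWC u hu c) hW hp hq hp0 hq0
  have h1 := centres_conj hf hle ht.1 h
  rwa [mulVec_add, htp, ht.2.2 r hr] at h1

/-- enlarging a full nondegenerate subspace by a plane -/
theorem sp_extend [Fintype F] {W : Submodule F Vec} (hW : IsNondegenerateOn f W)
    (hWC : ∀ w ∈ W, w ∈ centres hf M)
    (hbig : 3 ≤ Fintype.card F ∨ 3 ≤ Module.finrank F W)
    {p p' r r' : Vec} (hp : p ∈ W) (hp' : p' ∈ W) (hp0 : p ≠ 0) (hp0' : p' ≠ 0)
    (hr : r ∈ perp hf W) (hr' : r' ∈ perp hf W) (hrr : f r r' = 1)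
    (h : p + r ∈ centres hf M) (h' : p' + r' ∈ centres hf M) :
    ∀ v ∈ W ⊔ Submodule.span F {r, r'}, v ∈ centres hf M := by
  classical
  have hA : ∀ q ∈ W, q ≠ 0 → ∀ a : F, q + a • r ∈ centres hf M := by
    intro q hq hq0 a
    rcases eq_or_ne a 0 with rfl | ha
    · rw [zero_smul, add_zero]; exact hWC q hq
    · have h1 := centres_smul hf (sp_move hf hle hW hWC hp (W.smul_mem a⁻¹ hq) hp0
        (smul_ne_zero (inv_ne_zero ha) hq0) hr h) a
      rwa [smul_add, smul_smul, mul_inv_cancel₀ ha, one_smul] at h1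
  have hB : ∀ q ∈ W, q ≠ 0 → ∀ a : F, q + a • r' ∈ centres hf M := by
    intro q hq hq0 a
    rcases eq_or_ne a 0 with rfl | ha
    · rw [zero_smul, add_zero]; exact hWC q hq
    · have h1 := centres_smul hf (sp_move hf hle hW hWC hp' (W.smul_mem a⁻¹ hq) hp0'
        (smul_ne_zero (inv_ne_zero ha) hq0) hr' h') a
      rwa [smul_add, smul_smul, mul_inv_cancel₀ ha, one_smul] at h1
  have hform : ∀ q ∈ W, ∀ q₁ ∈ W, ∀ a b : F,
      f (q + a • r) (q₁ + b • r') = f q q₁ + a * b := by
    intro q hq q₁ hq₁ a b
    rw [hf.bilinear.add_left, hf.bilinear.add_right, hf.bilinear.add_right, hf.bilinear.smul_left,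
      hf.bilinear.smul_left, hf.bilinear.smul_right, hf.bilinear.smul_right, hr q₁ hq₁,
      swap_zero hf (hr' q hq), hrr]
    ring
  -- both components present
  have hAB : ∀ q ∈ W, ∀ a b : F, a ≠ 0 → b ≠ 0 → q + (a • r + b • r') ∈ centres hf M := by
    intro q hq a b ha hb
    obtain ⟨q₀, hq₀, hq₀0, hne, hz⟩ : ∃ q₀ ∈ W, q₀ ≠ 0 ∧ q₀ ≠ q ∧ f q₀ q = 0 := by
      rcases eq_or_ne q 0 with rfl | hq0
      · exact ⟨p, hp, hp0, hp0, zero_right hf p⟩
      rcases hbig with hF | hd
      · obtain ⟨c, hc0, hc1⟩ : ∃ c : F, c ≠ 0 ∧ c ≠ 1 := by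
          by_contra hcon
          push Not at hcon
          have hs : (Finset.univ : Finset F) ⊆ {0, 1} := fun c _ => by
            by_cases hc : c = 0
            · simp [hc]
            · simp [hcon c hc]
          have := (Finset.card_le_card hs).trans Finset.card_le_two
          rw [Finset.card_univ] at this
          omega
        exact ⟨c • q, W.smul_mem c hq, smul_ne_zero hc0 hq0,
          fun e => hc1 (smul_left_injective F hq0 (e.trans (one_smul F q).symm)),
          by rw [hf.bilinear.smul_left, hf.alternating, mul_zero]⟩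
      · let L : W →ₗ[F] F := (sfun hf q).comp W.subtype
        have hk : 2 ≤ Module.finrank F (LinearMap.ker L) := by
          have h1 := LinearMap.finrank_range_add_finrank_ker L
          have h2 : Module.finrank F (LinearMap.range L) ≤ 1 :=
            (Submodule.finrank_le _).trans (Module.finrank_self F).le
          omega
        have hle' : ¬ LinearMap.ker L ≤ Submodule.span F {(⟨q, hq⟩ : W)} := fun hcon => by
          have h3 := Submodule.finrank_mono hcon
          rw [finrank_span_singleton (fun e => hq0 (congrArg Subtype.val e))] at h3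
          omega
        obtain ⟨z, hz, hzn⟩ := SetLike.not_le_iff_exists.1 hle'
        refine ⟨z.1, z.2, fun e => hzn ?_, fun e => hzn ?_, LinearMap.mem_ker.1 hz⟩
        · rw [show z = 0 from Subtype.ext e]; exact Submodule.zero_mem _
        · rw [show z = ⟨q, hq⟩ from Subtype.ext e]; exact Submodule.mem_span_singleton_self _
    have hfne : f (q₀ + a • r) ((q - q₀) + b • r') ≠ 0 := by
      rw [hform q₀ hq₀ _ (W.sub_mem hq hq₀), sub_right hf, hz, hf.alternating, sub_zero, zero_add]
      exact mul_ne_zero ha hb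
    have h1 := centres_line hf hle (hA q₀ hq₀ hq₀0 a)
      (hB _ (W.sub_mem hq hq₀) (sub_ne_zero.2 hne.symm) b) hfne 1
    rw [one_smul] at h1
    have he : q₀ + a • r + (q - q₀ + b • r') = q + (a • r + b • r') := by abel
    rwa [he] at h1
  have hr'r : f r' r = -1 := by rw [hf.skew, hrr]
  have hpure : r ∈ centres hf M ∧ r' ∈ centres hf M := by
    have hone : (1 : F) ≠ 0 := one_ne_zero
    have h0 : (0 : Vec) + ((1 : F) • r + (1 : F) • r') ∈ centres hf M :=
      hAB 0 W.zero_mem 1 1 hone hone
    constructor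
    · have hne : f (p + ((1 : F) • r + (1 : F) • r')) (-p + (-(1 : F)) • r') ≠ 0 := by
        rw [hf.bilinear.add_left, hf.bilinear.add_right, hf.bilinear.add_right, neg_right hf,
          neg_right hf, hf.alternating, neg_zero, hf.bilinear.smul_right, hf.bilinear.smul_right,
          hf.bilinear.add_left, hf.bilinear.add_left, hf.bilinear.smul_left, hf.bilinear.smul_left,
          hf.bilinear.smul_left, hf.bilinear.smul_left, swap_zero hf (hr' p hp), hr p hp, hr' p hp,
          hrr, hf.alternating]
        simpa using hone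
      have h1 := centres_line hf hle (hAB p hp 1 1 hone hone)
        (hB (-p) (W.neg_mem hp) (neg_ne_zero.2 hp0) (-1)) hne 1
      have he : p + ((1 : F) • r + (1 : F) • r') + (1 : F) • (-p + (-(1 : F)) • r') = r := by
        simp
        abel
      rwa [he] at h1
    · have hne : f (p + ((1 : F) • r + (1 : F) • r')) (-p + (-(1 : F)) • r) ≠ 0 := by
        rw [hf.bilinear.add_left, hf.bilinear.add_right, hf.bilinear.add_right, neg_right hf,
          neg_right hf, hf.alternating, neg_zero, hf.bilinear.smul_right, hf.bilinear.smul_right,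
          hf.bilinear.add_left, hf.bilinear.add_left, hf.bilinear.smul_left, hf.bilinear.smul_left,
          hf.bilinear.smul_left, hf.bilinear.smul_left, swap_zero hf (hr p hp), hr' p hp, hr p hp,
          hr'r, hf.alternating]
        simpa using hone
      have h1 := centres_line hf hle (hAB p hp 1 1 hone hone)
        (hA (-p) (W.neg_mem hp) (neg_ne_zero.2 hp0) (-1)) hne 1
      have he : p + ((1 : F) • r + (1 : F) • r') + (1 : F) • (-p + (-(1 : F)) • r) = r' := by
        simp
        abel
      rwa [he] at h1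
  intro v hv
  obtain ⟨q, hq, s, hs, rfl⟩ := Submodule.mem_sup.1 hv
  obtain ⟨a, b, rfl⟩ := Submodule.mem_span_pair.1 hs
  by_cases ha : a = 0
  · subst ha
    rw [zero_smul, zero_add]
    by_cases hq0 : q = 0
    · rw [hq0, zero_add]; exact centres_smul hf hpure.2 b
    · exact hB q hq hq0 b
  by_cases hb : b = 0
  · subst hb
    rw [zero_smul, add_zero]
    by_cases hq0 : q = 0
    · rw [hq0, zero_add]; exact centres_smul hf hpure.1 a
    · exact hA q hq hq0 a
  exact hAB q hq a b ha hb

/-- all vectors are centres -/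
theorem sp_centres_all [Fintype F] {N : Type*} (x : N → Vec) (hx : ∀ i, x i ∈ centres hf M)
    (hspan : Submodule.span F (Set.range x) = ⊤)
    (hconn : ∀ P : N → Prop, (∀ i j, P i → f (x i) (x j) ≠ 0 → P j) → ∀ i j, P i → P j)
    {W : Submodule F Vec} (hW : IsNondegenerateOn f W) (hW0 : W ≠ ⊥)
    (hWC : ∀ w ∈ W, w ∈ centres hf M)
    (hbig : 3 ≤ Fintype.card F ∨ 3 ≤ Module.finrank F W) : ∀ v, v ∈ centres hf M := by
  classical
  induction hk : Fintype.card ι - Module.finrank F W using Nat.strong_induction_on generalizing W with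
  | _ k ih =>
  by_cases htop : W = ⊤
  · exact fun v => hWC v (htop ▸ Submodule.mem_top)
  -- an element of the family meeting both `W` and its orthogonal
  obtain ⟨i, hi, hi'⟩ : ∃ i, x i ∉ W ∧ x i ∉ perp hf W := by
    by_contra hcon
    push Not at hcon
    have hclosed : ∀ i j, x i ∈ W → f (x i) (x j) ≠ 0 → x j ∈ W := fun i j hi hne => by
      by_contra hj
      exact hne (swap_zero hf ((hcon j hj) _ hi))
    by_cases hex : ∃ i, x i ∈ W
    · obtain ⟨i, hi⟩ := hex
      refine htop (eq_top_iff.2 ?_)
      rw [← hspan, Submodule.span_le]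
      rintro _ ⟨j, rfl⟩
      exact hconn (fun i => x i ∈ W) hclosed i j hi
    · push Not at hex
      have hall : (⊤ : Submodule F Vec) ≤ perp hf W := by
        rw [← hspan, Submodule.span_le]
        rintro _ ⟨j, rfl⟩
        exact hcon j (hex j)
      refine hW0 (eq_bot_iff.2 fun w hw => ?_)
      exact (Submodule.mem_bot F).2 (disjoint_perp hf hW hw (hall Submodule.mem_top))
  obtain ⟨p, hp, hpr⟩ := exists_decomp hf hW (x i)
  set r := x i - p with hr
  have hp0 : p ≠ 0 := fun h => hi' (by rw [hr, h, sub_zero] at hpr; exact hpr)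
  have hr0 : r ≠ 0 := fun h => hi (by rw [sub_eq_zero.1 h]; exact hp)
  have hprC : p + r ∈ centres hf M := by rw [hr, add_sub_cancel]; exact hx i
  obtain ⟨j, hj⟩ : ∃ j, f r (x j) ≠ 0 := by
    by_contra hcon
    push Not at hcon
    obtain ⟨y, hy⟩ := (hf.nondegenerate r hr0).2
    suffices hall : ∀ z ∈ Submodule.span F (Set.range x), f r z = 0 from
      hy (hall y (hspan ▸ Submodule.mem_top))
    intro z hz
    clear hy
    induction hz using Submodule.span_induction with
    | mem z hz => obtain ⟨k, rfl⟩ := hz; exact hcon k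
    | zero => exact zero_right hf r
    | add a b _ _ ha hb => rw [hf.bilinear.add_right, ha, hb, add_zero]
    | smul a b _ hb => rw [hf.bilinear.smul_right, hb, mul_zero]
  obtain ⟨y, hyC, hy1, hy⟩ : ∃ y ∈ centres hf M, f r y = 1 ∧ y ∉ perp hf W := by
    set c := f r (x j) with hc
    have hyC : c⁻¹ • x j ∈ centres hf M := centres_smul hf (hx j) _
    have hy1 : f r (c⁻¹ • x j) = 1 := by rw [hf.bilinear.smul_right, inv_mul_cancel₀ hj]
    by_cases hy : c⁻¹ • x j ∈ perp hf W
    · refine ⟨c⁻¹ • x j + (1 : F) • (p + r), centres_line hf hle hyC hprC ?_ 1, ?_, ?_⟩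
      · rw [hf.bilinear.add_right, hy p hp, zero_add]
        exact swap_ne hf (by rw [hy1]; exact one_ne_zero)
      · rw [one_smul, hf.bilinear.add_right, hy1, hf.bilinear.add_right, hpr p hp, hf.alternating,
          add_zero, add_zero]
      · intro hcon
        have h1 := (perp hf W).sub_mem ((perp hf W).sub_mem hcon hy) hpr
        rw [one_smul, show c⁻¹ • x j + (p + r) - c⁻¹ • x j - r = p by abel] at h1
        exact hp0 (disjoint_perp hf hW hp h1)
    · exact ⟨_, hyC, hy1, hy⟩
  obtain ⟨p', hp', hpr'⟩ := exists_decomp hf hW y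
  set r' := y - p' with hr'
  have hp0' : p' ≠ 0 := fun h => hy (by rw [hr', h, sub_zero] at hpr'; exact hpr')
  have hrr : f r r' = 1 := by rw [hr', sub_right hf, hy1, hpr p' hp', sub_zero]
  have hC' := sp_extend hf hle hW hWC hbig hp hp' hp0 hp0' hpr hpr' hrr hprC
    (by rw [hr', add_sub_cancel]; exact hyC)
  have hpairperp : ∀ z ∈ Submodule.span F ({r, r'} : Set Vec), z ∈ perp hf W :=
    fun z hz => (Submodule.span_le.2 (by
      rintro w (rfl | rfl)
      · exact hpr
      · exact hpr')) hz
  have hW' : IsNondegenerateOn f (W ⊔ Submodule.span F {r, r'}) :=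
    isNondegenerateOn_sup hf hW (isNondegenerateOn_pair hf hrr)
      (fun w hw z hz => swap_zero hf (hpairperp z hz w hw))
  have hlt : W < W ⊔ Submodule.span F {r, r'} := by
    refine lt_of_le_of_ne le_sup_left fun h => hr0 ?_
    refine disjoint_perp hf hW ?_ hpr
    rw [h]
    exact Submodule.mem_sup_right (Submodule.subset_span (Set.mem_insert _ _))
  have h1 := Submodule.finrank_lt_finrank_of_lt hlt
  have h2 : Module.finrank F ↥(W ⊔ Submodule.span F {r, r'}) ≤ Fintype.card ι := by
    rw [← Module.finrank_fintype_fun_eq_card F]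
    exact Submodule.finrank_le _
  refine ih _ (by omega) hW' (fun h => hW0 (eq_bot_iff.2 (h ▸ le_sup_left))) hC'
    (hbig.imp id fun h => by omega) rfl

end CfsgLib.RegUnip
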