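import Cfsg.Agent.Lib.RegUnip.SpPair
import Cfsg.Agent.Lib.RegUnip.SpSpread
import Cfsg.Agent.Lib.RegUnip.Fill
import Cfsg.Agent.Lib.Perm.Trans.SympGen
import Cfsg.Agent.Lib.Classical.PSpSimple

/-!
The orbit of the cyclic vector, its transvections, and the criterion for generating the whole
symplectic group.
-/

set_option autoImplicit false

namespace CfsgLib.RegUnip

open Matrix CfsgLib.Perm.Trans CfsgLib.Perm.Trans.Symp

/-- powers of a nilpotent map applied to a vector not killed early are independent -/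
theorem linearIndependent_nilpotent {F : Type*} [Field F] {ι : Type} [Fintype ι] [DecidableEq ι]
    (M : Matrix ι ι F) (v : ι → F) (N : ℕ) (h0 : M ^ (N - 1) *ᵥ v ≠ 0) (h1 : M ^ N *ᵥ v = 0) :
    LinearIndependent F (fun i : Fin N => M ^ (i : ℕ) *ᵥ v) := by
  classical
  rw [Fintype.linearIndependent_iff]
  intro g hg
  have hkill : ∀ k, N ≤ k → M ^ k *ᵥ v = 0 := fun k hk => by
    rw [show k = (k - N) + N by omega, pow_add, ← Matrix.mulVec_mulVec, h1, Matrix.mulVec_zero]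
  have key : ∀ k : ℕ, ∀ i : Fin N, i.val < k → g i = 0 := by
    intro k
    induction k with
    | zero => exact fun i hi => absurd hi (Nat.not_lt_zero _)
    | succ k ih =>
      intro i hi
      rcases Nat.lt_or_ge i.val k with h | h
      · exact ih i h
      have hik : i.val = k := by omega
      have := congrArg (fun w => M ^ (N - 1 - k) *ᵥ w) hg
      simp only [Matrix.mulVec_sum, Matrix.mulVec_smul, Matrix.mulVec_mulVec, ← pow_add,
        Matrix.mulVec_zero] at this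
      rw [Finset.sum_eq_single i] at this
      · rw [show N - 1 - k + i.val = N - 1 by omega] at this
        exact (smul_eq_zero.1 this).resolve_right h0
      · intro j _ hj
        rcases Nat.lt_or_ge j.val k with hjk | hjk
        · rw [ih j hjk, zero_smul]
        · have : j.val ≠ k := fun e => hj (Fin.ext (e.trans hik.symm))
          rw [hkill _ (by omega), smul_zero]
      · simp
  exact fun i => key (i.val + 1) i (Nat.lt_succ_self _)

variable {F : Type*} [Field F] {n : ℕ} (β γ : F)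

local notation "Sp2n" => Matrix.symplecticGroup (Fin n) F

/-- the orbit of the cyclic vector -/
noncomputable def spXk (β γ : F) (k : ℤ) : Fin n ⊕ Fin n → F :=
  ((spU n β γ ^ k : Matrix.symplecticGroup (Fin n) F)).1 *ᵥ spX n F

/-- the form along the orbit -/
noncomputable def spCor (β γ : F) (k : ℤ) : F :=
  CfsgLib.Sp.sf (spXk (n := n) β γ k) (spXk β γ 0)

theorem spXk_shift (j k : ℤ) :
    ((spU n β γ ^ j : Sp2n)).1 *ᵥ spXk β γ k = spXk β γ (j + k) := by
  rw [spXk, spXk, Matrix.mulVec_mulVec, _root_.zpow_add]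
  rfl

theorem spXk_zero : spXk (n := n) β γ 0 = spX n F := by
  rw [spXk, _root_.zpow_zero]
  exact Matrix.one_mulVec _

theorem spU_pow_val (k : ℕ) : ((spU n β γ ^ k : Sp2n)).1 = spMat n β γ ^ k := by
  induction k with
  | zero => rfl
  | succ k ih => rw [pow_succ, pow_succ, ← ih]; rfl

theorem spXk_nat (k : ℕ) : spXk (n := n) β γ k = spMat n β γ ^ k *ᵥ spX n F := by
  rw [spXk, zpow_natCast, spU_pow_val]

theorem sf_spXk (i j : ℤ) :
    CfsgLib.Sp.sf (spXk (n := n) β γ i) (spXk β γ j) = spCor (n := n) β γ (i - j) := by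
  rw [spCor, show spXk (n := n) β γ i = ((spU n β γ ^ j : Sp2n)).1 *ᵥ spXk β γ (i - j) by
    rw [spXk_shift, add_sub_cancel], show spXk (n := n) β γ j = ((spU n β γ ^ j : Sp2n)).1 *ᵥ spXk β γ 0 by
    rw [spXk_shift, add_zero], CfsgLib.Sp.sf_sp]

theorem spCor_neg (k : ℤ) : spCor (n := n) β γ (-k) = -spCor (n := n) β γ k := by
  rw [← zero_sub, ← sf_spXk, CfsgLib.Sp.sf_swap, sf_spXk, sub_zero]

theorem spCor_nat (k : ℕ) : spCor (n := n) β γ k = spVal (n := n) β γ k := by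
  rw [spCor, spVal, spXk_nat, spXk_zero]

theorem spCor_zero : spCor (n := n) β γ 0 = 0 := CfsgLib.Sp.sf_self _

theorem span_spXk (hn : 2 ≤ n) (hβ : β ≠ 0) :
    Submodule.span F (Set.range fun i : Fin (2 * n) => spXk (n := n) β γ (i : ℕ)) = ⊤ := by
  classical
  obtain ⟨h0, h1⟩ := spN_top β γ hn hβ
  have hli := linearIndependent_nilpotent (spMat n β γ - 1) (spX n F) (2 * n) h0 h1
  haveI : Nonempty (Fin (2 * n)) := ⟨⟨0, by omega⟩⟩
  have htop := hli.span_eq_top_of_card_eq_finrank (by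
    rw [Module.finrank_fintype_fun_eq_card, Fintype.card_sum, Fintype.card_fin, Fintype.card_fin]
    omega)
  refine eq_top_iff.2 ?_
  rw [← htop, Submodule.span_le]
  rintro _ ⟨i, rfl⟩
  have h2 := span_iterates (Matrix.toLinAlgEquiv' (spMat n β γ - 1)) (spX n F) i.val
  rw [← map_pow, Matrix.toLinAlgEquiv'_apply] at h2
  refine Submodule.span_mono ?_ h2
  rintro _ ⟨k, hk, rfl⟩
  have hki : k ≤ i.val := hk
  refine ⟨⟨k, by omega⟩, ?_⟩
  show spXk β γ ((k : ℕ) : ℤ) = ((1 + Matrix.toLinAlgEquiv' (spMat n β γ - 1)) ^ k) (spX n F)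
  rw [show (1 : Module.End F (Fin n ⊕ Fin n → F)) + Matrix.toLinAlgEquiv' (spMat n β γ - 1) =
    Matrix.toLinAlgEquiv' (spMat n β γ) by rw [map_sub, map_one, add_sub_cancel],
    ← map_pow, Matrix.toLinAlgEquiv'_apply, spXk_nat]

theorem spU_regular (hn : 2 ≤ n) (hβ : β ≠ 0) :
    IsNilpotent ((spU n β γ : Matrix (Fin n ⊕ Fin n) (Fin n ⊕ Fin n) F) - 1) ∧
      ((spU n β γ : Matrix (Fin n ⊕ Fin n) (Fin n ⊕ Fin n) F) - 1) ^ (2 * n - 1) ≠ 0 := by
  classical
  obtain ⟨h0, h1⟩ := spN_top β γ hn hβ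
  refine ⟨⟨2 * n, ?_⟩, fun h => h0 ?_⟩
  · change (spMat n β γ - 1) ^ (2 * n) = 0
    have hli := linearIndependent_nilpotent (spMat n β γ - 1) (spX n F) (2 * n) h0 h1
    haveI : Nonempty (Fin (2 * n)) := ⟨⟨0, by omega⟩⟩
    have htop := hli.span_eq_top_of_card_eq_finrank (by
      rw [Module.finrank_fintype_fun_eq_card, Fintype.card_sum, Fintype.card_fin, Fintype.card_fin]
      omega)
    apply Matrix.toLin'.injective
    rw [map_zero]
    refine LinearMap.ext_on_range htop fun i => ?_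
    rw [Matrix.toLin'_apply, Matrix.mulVec_mulVec, ← pow_add, add_comm, pow_add,
      ← Matrix.mulVec_mulVec, h1, Matrix.mulVec_zero, LinearMap.zero_apply]
  · change (spMat n β γ - 1) ^ (2 * n - 1) = 0 at h
    rw [h, Matrix.zero_mulVec]

/-- the transvection at the `k`-th orbit vector -/
noncomputable def spT (β γ : F) (k : ℤ) (s : F) : Matrix.symplecticGroup (Fin n) F :=
  CfsgLib.Sp.tv (spXk β γ k) s

theorem spT_shift (j k : ℤ) (s : F) :
    spU n β γ ^ j * spT β γ k s * (spU n β γ ^ j)⁻¹ = spT (n := n) β γ (j + k) s := by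
  rw [spT, CfsgLib.Sp.tv_conj, spXk_shift, spT]

theorem spT_inv (k : ℤ) (s : F) : (spT (n := n) β γ k s)⁻¹ = spT β γ k (-s) :=
  inv_eq_of_mul_eq_one_right (by rw [spT, spT, CfsgLib.Sp.tv_mul, add_neg_cancel, CfsgLib.Sp.tv_zero])

theorem spT_commute {i j : ℤ} (h : spCor (n := n) β γ (i - j) = 0) (a b : F) :
    Commute (spT (n := n) β γ i a) (spT β γ j b) :=
  CfsgLib.Sp.tv_commute (by rw [sf_spXk, h]) a b

/-- the product of neighbouring transvections contained in the group -/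
theorem spT_pair_mem {G : Subgroup Sp2n} (hu : spU n β γ ∈ G) {s : F}
    (hs : spT β γ 0 s * spU n β γ * (spT β γ 0 s)⁻¹ ∈ G) (j : ℤ) :
    spT β γ j s * spT β γ (j + 1) (-s) ∈ G := by
  have h1 := G.mul_mem hs (G.inv_mem hu)
  have h2 : spT β γ 0 s * spT β γ 1 (-s) ∈ G := by
    have he : spT β γ 0 s * spU n β γ * (spT β γ 0 s)⁻¹ * (spU n β γ)⁻¹ =
        spT β γ 0 s * spT β γ 1 (-s) := by
      rw [show (1 : ℤ) = 1 + 0 from rfl, ← spT_shift, _root_.zpow_one, spT_inv]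
      group
    rwa [he] at h1
  have h3 := G.mul_mem (G.mul_mem (G.zpow_mem hu j) h2) (G.inv_mem (G.zpow_mem hu j))
  have he : spU n β γ ^ j * (spT β γ 0 s * spT β γ 1 (-s)) * (spU n β γ ^ j)⁻¹ =
      spT β γ j s * spT β γ (j + 1) (-s) := by
    rw [show spU n β γ ^ j * (spT β γ 0 s * spT β γ 1 (-s)) * (spU n β γ ^ j)⁻¹ =
      (spU n β γ ^ j * spT β γ 0 s * (spU n β γ ^ j)⁻¹) *
        (spU n β γ ^ j * spT β γ 1 (-s) * (spU n β γ ^ j)⁻¹) by group, spT_shift, spT_shift, add_zero]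
  rwa [he] at h3

/-- adjacency by two consecutive gaps -/
theorem conn_gaps {d N : ℕ} (hd : 2 * d + 1 ≤ N) (A : ℕ → ℕ → Prop)
    (h1 : ∀ i, i + d < N → A i (i + d) ∧ A (i + d) i)
    (h2 : ∀ i, i + (d + 1) < N → A i (i + (d + 1)) ∧ A (i + (d + 1)) i)
    (P : ℕ → Prop) (hP : ∀ i j, i < N → j < N → P i → A i j → P j) :
    ∀ i j, i < N → j < N → P i → P j := by
  have step : ∀ i, i + 1 < N → (P i ↔ P (i + 1)) := by
    intro i hi
    by_cases hc : i + (d + 1) < N
    · have a1 := h2 i hc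
      have a2 := h1 (i + 1) (by omega)
      rw [show i + 1 + d = i + (d + 1) by omega] at a2
      exact ⟨fun h => hP _ _ hc hi (hP _ _ (by omega) hc h a1.1) a2.2,
        fun h => hP _ _ hc (by omega) (hP _ _ hi hc h a2.1) a1.2⟩
    · have a1 := h1 (i - d) (by omega)
      have a2 := h2 (i - d) (by omega)
      rw [show i - d + d = i by omega] at a1
      rw [show i - d + (d + 1) = i + 1 by omega] at a2
      exact ⟨fun h => hP _ _ (by omega) hi (hP _ _ (by omega) (by omega) h a1.2) a2.1,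
        fun h => hP _ _ (by omega) (by omega) (hP _ _ hi (by omega) h a2.2) a1.1⟩
  have h0 : ∀ i, i < N → (P i ↔ P 0) := by
    intro i
    induction i with
    | zero => exact fun _ => Iff.rfl
    | succ i ih => exact fun hi => (step i hi).symm.trans (ih (by omega))
  exact fun i j hi hj h => (h0 j hj).2 ((h0 i hi).1 h)

/-- the orbit family is connected -/
def SpConn (n : ℕ) {F : Type*} [Field F] (β γ : F) : Prop :=
  ∀ P : Fin (2 * n) → Prop, (∀ i j : Fin (2 * n), P i →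
    spCor (n := n) β γ ((i : ℕ) - (j : ℕ)) ≠ 0 → P j) → ∀ i j, P i → P j

theorem spConn_of_gaps (d : ℕ) (hd : 2 * d + 1 ≤ 2 * n) (h1 : spCor (n := n) β γ (d : ℤ) ≠ 0)
    (h2 : spCor (n := n) β γ ((d + 1 : ℕ) : ℤ) ≠ 0) : SpConn n β γ := by
  intro P hP i j hi
  have both : ∀ (e : ℕ), spCor (n := n) β γ (e : ℤ) ≠ 0 → ∀ a : ℕ,
      spCor (n := n) β γ ((a : ℤ) - ((a + e : ℕ) : ℤ)) ≠ 0 ∧
        spCor (n := n) β γ (((a + e : ℕ) : ℤ) - (a : ℤ)) ≠ 0 := by
    intro e he a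
    constructor
    · rw [show (a : ℤ) - ((a + e : ℕ) : ℤ) = -(e : ℤ) by push_cast; ring, spCor_neg]
      exact neg_ne_zero.2 he
    · rwa [show ((a + e : ℕ) : ℤ) - (a : ℤ) = (e : ℤ) by push_cast; ring]
  obtain ⟨h, hP'⟩ := conn_gaps hd (fun a b => spCor (n := n) β γ ((a : ℤ) - (b : ℤ)) ≠ 0)
    (fun a _ => both d h1 a) (fun a _ => both (d + 1) h2 a)
    (fun a => ∃ h : a < 2 * n, P ⟨a, h⟩)
    (fun a b _ hb ⟨h, hPa⟩ hA => ⟨hb, hP ⟨a, h⟩ ⟨b, hb⟩ hPa hA⟩) i j i.2 j.2 ⟨i.2, hi⟩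
  exact hP'

/-- One full orbit vector, and the form graph connected: everything. -/
theorem sp_top_of_full [Fintype F] (hn : 2 ≤ n) (hβ : β ≠ 0) (hF : 3 ≤ Fintype.card F)
    (hconn : SpConn n β γ) {G : Subgroup Sp2n} (hu : spU n β γ ∈ G)
    (h0 : ∀ s, spT β γ 0 s ∈ G) : G = ⊤ := by
  classical
  have hall : ∀ k s, spT β γ k s ∈ G := fun k s => by
    rw [show k = k + 0 from (add_zero k).symm, ← spT_shift]
    exact G.mul_mem (G.mul_mem (G.zpow_mem hu k) (h0 s)) (G.inv_mem (G.zpow_mem hu k))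
  set M := G.map CfsgLib.Perm.Trans.Symp.toGL with hM
  have hle : M ≤ isoSub (Cfsg.sympForm n F) := by
    rintro _ ⟨A, -, rfl⟩; exact toGL_mem_iso A
  have hf := isSymplecticForm_sympForm (F := F) (m := n)
  have hx : ∀ i : Fin (2 * n), spXk (n := n) β γ (i : ℕ) ∈ centres hf M := fun i c =>
    ⟨spT β γ (i : ℕ) c, hall _ c, toGL_tv _ c⟩
  obtain ⟨j, hj⟩ : ∃ j : Fin (2 * n), spCor (n := n) β γ ((j : ℕ) - (0 : ℕ)) ≠ 0 := by
    by_contra hcon
    push Not at hcon
    have hne : (⟨1, by omega⟩ : Fin (2 * n)) ≠ ⟨0, by omega⟩ := by simp [Fin.ext_iff]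
    refine hne (hconn (fun i => i = ⟨0, by omega⟩) (fun i l hi hne' => absurd ?_ hne') ⟨0, by omega⟩
      ⟨1, by omega⟩ rfl)
    subst hi
    rw [show ((((⟨0, by omega⟩ : Fin (2 * n)) : ℕ) : ℤ)) - ((l : ℕ) : ℤ) = -(((l : ℕ) : ℤ) - ((0 : ℕ) : ℤ)) by
      simp, spCor_neg, hcon l, neg_zero]
  set e := spXk (n := n) β γ ((0 : ℕ) : ℤ) with he
  set c := spCor (n := n) β γ ((j : ℕ) - (0 : ℕ)) with hc
  have hh : Cfsg.sympForm n F (spXk β γ (j : ℕ)) e = c := sf_spXk β γ _ _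
  have heC : e ∈ centres hf M := hx ⟨0, by omega⟩
  have hhC : (-c⁻¹) • spXk (n := n) β γ (j : ℕ) ∈ centres hf M := centres_smul hf (hx j) _
  have h1 : Cfsg.sympForm n F e ((-c⁻¹) • spXk β γ (j : ℕ)) = 1 := by
    rw [hf.bilinear.smul_right, hf.skew, hh, neg_mul_neg, inv_mul_cancel₀ hj]
  have hCall := sp_centres_all hf hle (fun i : Fin (2 * n) => spXk (n := n) β γ (i : ℕ)) hx
    (span_spXk β γ hn hβ) (fun P hP => hconn P (fun a b ha hab => hP a b ha (by
      show CfsgLib.Sp.sf _ _ ≠ 0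
      rwa [sf_spXk])))
    (W := Submodule.span F {e, (-c⁻¹) • spXk β γ (j : ℕ)}) (isNondegenerateOn_pair hf h1)
    (fun hbot => by
      have : e ∈ (⊥ : Submodule F _) := hbot ▸ Submodule.subset_span (Set.mem_insert _ _)
      rw [Submodule.mem_bot] at this
      rw [this, zero_left hf] at h1
      exact zero_ne_one h1)
    (fun w hw => sp_plane_full hf hle heC hhC (by rw [h1]; exact one_ne_zero) hw) (Or.inl hF)
  have hMeq := eq_isoSub_of_centres hf hle hCall
  refine eq_top_iff.2 fun A _ => ?_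
  obtain ⟨B, hB, hBA⟩ : toGL A ∈ M := hMeq ▸ toGL_mem_iso A
  exact toGL_injective hBA ▸ hB

/-- a normal subgroup with a non-central element is everything -/
theorem sp_top_of_normal [Fintype F] (hn : 2 ≤ n) (h22 : n = 2 → 3 ≤ Fintype.card F)
    (N : Subgroup Sp2n) [N.Normal] {a : Sp2n} (ha : a ∈ N) (hac : a ∉ Subgroup.center Sp2n) :
    N = ⊤ := by
  haveI := CfsgLib.Classical.psp_isSimple (F := F) hn h22
  let π : Sp2n →* Cfsg.PSp n F := QuotientGroup.mk' _
  rcases (Subgroup.Normal.map inferInstance π (QuotientGroup.mk'_surjective _) :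
    (N.map π).Normal).eq_bot_or_eq_top with h | h
  · exact absurd ((QuotientGroup.eq_one_iff a).1
      ((Subgroup.eq_bot_iff_forall _).1 h _ (Subgroup.mem_map_of_mem π ha))) hac
  refine eq_top_iff.2 ?_
  rw [← CfsgLib.Classical.commutator_symplectic (F := F) (m := n) (by
    rcases Nat.lt_or_ge n 3 with h3 | h3
    · exact Or.inr (Or.inl ⟨by omega, h22 (by omega)⟩)
    · exact Or.inl h3), commutator_def, Subgroup.commutator_le]
  intro x _ y _
  obtain ⟨x', hx', ex⟩ : π x ∈ N.map π := h ▸ Subgroup.mem_top _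
  have hz : x'⁻¹ * x ∈ Subgroup.center Sp2n := QuotientGroup.eq.1 ex
  rw [commutatorElement_def]
  have he : x * y * x⁻¹ * y⁻¹ = x' * (y * x'⁻¹ * y⁻¹) := by
    have hx : x = x' * (x'⁻¹ * x) := by group
    have hc := Subgroup.mem_center_iff.1 hz
    rw [hx]
    calc x' * (x'⁻¹ * x) * y * (x' * (x'⁻¹ * x))⁻¹ * y⁻¹
        = x' * ((x'⁻¹ * x) * y) * (x'⁻¹ * x)⁻¹ * x'⁻¹ * y⁻¹ := by group
      _ = x' * (y * (x'⁻¹ * x)) * (x'⁻¹ * x)⁻¹ * x'⁻¹ * y⁻¹ := by rw [hc y]
      _ = x' * (y * x'⁻¹ * y⁻¹) := by group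
  rw [he]
  exact N.mul_mem hx' (Subgroup.Normal.conj_mem inferInstance _ (N.inv_mem hx') y)

end CfsgLib.RegUnip
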