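import Cfsg.Agent.Lib.RegUnip.Nonclosed

/-!
# Only one line below the regular elements
-/

set_option autoImplicit false
set_option linter.style.haveILetI false

open Finset
open scoped Classical

namespace CfsgLib.RegUnip

variable {p w : ℕ} [Fact p.Prime] {X Q : Subgroup (GLw p w)} {s : GLw p w} {d : ℕ}

theorem mem_normalizer_zpowers {g : GLw p w} (h : g * s * g⁻¹ ∈ Subgroup.zpowers s) :
    g ∈ Subgroup.normalizer (Subgroup.zpowers s : Set (GLw p w)) := by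
  have hmap : (Subgroup.zpowers s).map (MulAut.conj g).toMonoidHom = Subgroup.zpowers s :=
    Subgroup.eq_of_le_of_card_ge (by
        rw [MonoidHom.map_zpowers, Subgroup.zpowers_le]
        simpa [MulAut.conj_apply] using h)
      (by rw [Subgroup.card_map_of_injective (MulAut.conj g).injective])
  refine Subgroup.mem_normalizer_iff.2 fun a => ⟨fun ha => ?_, fun ha => ?_⟩
  · exact hmap.le (Subgroup.mem_map.2 ⟨a, ha, by simp [MulAut.conj_apply]⟩)
  · obtain ⟨b, hb, hba⟩ := hmap.ge ha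
    have : b = a := by simpa [MulAut.conj_apply] using hba
    rwa [← this]

theorem pow_sub_one_of_sq (hS : ((s : M2 p w) - 1) * ((s : M2 p w) - 1) = 0) :
    ∀ j : ℕ, ((s ^ j : GLw p w) : M2 p w) - 1 = (j : ZMod p) • ((s : M2 p w) - 1) := by
  intro j
  induction j with
  | zero => simp
  | succ j ih =>
    rw [pow_succ, Units.val_mul, show ((s ^ j : GLw p w) : M2 p w) * (s : M2 p w) - 1
        = (((s ^ j : GLw p w) : M2 p w) - 1) * ((s : M2 p w) - 1)
          + (((s ^ j : GLw p w) : M2 p w) - 1) + ((s : M2 p w) - 1) by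
      simp only [sub_mul, mul_sub, one_mul, mul_one]; abel,
      ih, Matrix.smul_mul, hS, smul_zero, zero_add, Nat.cast_succ, add_smul, one_smul]

/-- The data when the part with trivial first subdiagonal has order `p`. -/
theorem Reg.pair_data (hR : Reg X Q) (hc : Ctr X Q s d) (hwp : w ≤ p)
    (hsingle : ∀ γ ∈ Gam Q, γ ∈ Subgroup.zpowers s) :
    ∃ x ∈ Q, (x : M2 p w) = 1 + shiftN (ZMod p) w ∧ orderOf s = p ∧
      Nat.card (Q.subgroupOf X) = p ^ 2 ∧
      (∀ q ∈ Q, ∃ i j, i < p ∧ j < p ∧ q = x ^ i * s ^ j) ∧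
      (∀ q ∈ Q, Commute (q : M2 p w) (shiftN (ZMod p) w)) ∧
      X ⊓ Low p w ≤ X ⊓ Subgroup.normalizer (Subgroup.zpowers s : Set (GLw p w)) ∧
      ∀ g ∈ X, g ∉ X ⊓ Subgroup.normalizer (Subgroup.zpowers s : Set (GLw p w)) → ∀ q ∈ Q,
        g⁻¹ * q * g ∈ X ⊓ Subgroup.normalizer (Subgroup.zpowers s : Set (GLw p w)) → q = 1 := by
  obtain ⟨x, hxQ, hx⟩ := hR.shift
  have hw : 1 < w := by have := hc.two_le; have := hc.lt; omega
  obtain ⟨hsQ, hs0⟩ := hR.mem_Gam.1 hc.mem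
  have hord : orderOf s = p := orderOf_eq_prime (pow_p_eq_one hwp (hR.uni hsQ)) hc.ne
  have hgen : ∀ q ∈ Q, ∃ i j, i < p ∧ j < p ∧ q = x ^ i * s ^ j := by
    intro q hq
    obtain ⟨i, hi, hiG⟩ := hR.exists_pow_mul hw hx hxQ hq
    obtain ⟨j, hj, hje⟩ := Finset.mem_image.1 (mem_zpowers_iff_mem_range_orderOf.1 (hsingle _ hiG))
    rw [Finset.mem_range, hord] at hj
    exact ⟨i, j, hi, hj, by rw [hje, mul_inv_cancel_left]⟩
  have hcard : Nat.card (Q.subgroupOf X) = p ^ 2 := by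
    rw [Nat.card_congr (Subgroup.subgroupOfEquivOfLe hR.le).toEquiv]
    have hbij : Function.Bijective fun ij : Fin p × Fin p =>
        (⟨x ^ (ij.1 : ℕ) * s ^ (ij.2 : ℕ), Q.mul_mem (Q.pow_mem hxQ _) (Q.pow_mem hsQ _)⟩ : Q) := by
      refine ⟨?_, fun q => ?_⟩
      · rintro ⟨i, j⟩ ⟨i', j'⟩ h
        have h1 : x ^ (i : ℕ) * s ^ (j : ℕ) = x ^ (i' : ℕ) * s ^ (j' : ℕ) := congrArg Subtype.val h
        have hz : ∀ a b : ℕ, ent ((x ^ a * s ^ b : GLw p w) : M2 p w) 1 0 = (a : ZMod p) := fun a b => by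
          have h2 := ent_mul_sub ((Uni p w).pow_mem (uni_shift hx) a) (hR.uni (Q.pow_mem hsQ b)) 0
          simp only [zero_add] at h2
          rw [h2, ent_shift_pow hx hw, (hR.mem_Gam.1 ((Gam Q).pow_mem hc.mem b)).2, add_zero]
        have h3 := congrArg ZMod.val ((hz i j).symm.trans ((congrArg (fun z : GLw p w => ent (z : M2 p w) 1 0) h1).trans (hz i' j')))
        rw [ZMod.val_natCast, ZMod.val_natCast, Nat.mod_eq_of_lt i.2, Nat.mod_eq_of_lt i'.2] at h3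
        obtain rfl := Fin.ext h3
        have h4 := mul_left_cancel h1
        obtain rfl := Fin.ext (pow_injOn_Iio_orderOf (by rw [hord]; exact j.2) (by rw [hord]; exact j'.2) h4)
        rfl
      · obtain ⟨i, j, hi, hj, h⟩ := hgen q q.2
        exact ⟨(⟨i, hi⟩, ⟨j, hj⟩), Subtype.ext h.symm⟩
    rw [← Nat.card_congr (Equiv.ofBijective _ hbij), Nat.card_prod, Nat.card_fin, sq]
  have hN : ∀ q ∈ Q, Commute (q : M2 p w) (shiftN (ZMod p) w) := fun q hq => by
    refine (hR.commute_shift hx).2 ?_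
    obtain ⟨i, j, -, -, rfl⟩ := hgen q hq
    exact ((Commute.pow_left (Commute.refl x) i).mul_left
      (Commute.pow_left (hc.comm x hxQ).symm j)).eq
  have hLH : X ⊓ Low p w ≤ X ⊓ Subgroup.normalizer (Subgroup.zpowers s : Set (GLw p w)) := by
    intro g hg
    obtain ⟨hgX, hgL⟩ := Subgroup.mem_inf.1 hg
    refine Subgroup.mem_inf.2 ⟨hgX, mem_normalizer_zpowers (hsingle _ ?_)⟩
    refine hR.mem_Gam.2 ⟨hR.conj_mem hgX hgL hsQ, ?_⟩
    have h := (mem_Dg.1 (dg_conj hgL hc.deg)).ent_eq (i := 1) (j := 0) (by have := hc.two_le; push_cast; omega)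
    rwa [ent_sub, ent_one hw, if_neg one_ne_zero, sub_zero] at h
  refine ⟨x, hxQ, hx, hord, hcard, hgen, hN, hLH, fun g hg hgH q hq hr => ?_⟩
  by_contra hq1
  have hQH : Q ≤ X ⊓ Subgroup.normalizer (Subgroup.zpowers s : Set (GLw p w)) :=
    fun a ha => hLH (Subgroup.mem_inf.2 ⟨hR.le ha, uni_le_low (hR.uni ha)⟩)
  set H := X ⊓ Subgroup.normalizer (Subgroup.zpowers s : Set (GLw p w)) with hH
  have hrp : IsPGroup p (Subgroup.zpowers (g⁻¹ * q * g)) := by
    refine IsPGroup.of_card (n := 1) ?_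
    rw [Nat.card_zpowers, pow_one, show g⁻¹ * q * g = MulAut.conj g⁻¹ q by simp [MulAut.conj_apply],
      MulEquiv.orderOf_eq]
    exact orderOf_eq_prime (pow_p_eq_one hwp (hR.uni hq)) hq1
  obtain ⟨z, hz, hconj⟩ := exists_conj_le hR.isP hQH (fun hd => hR.sylow (dvd_trans hd
    (Dvd.intro _ (Subgroup.relIndex_mul_relIndex Q H X hQH inf_le_left)))) hrp
    (Subgroup.zpowers_le.2 hr)
  set g' := g * z⁻¹
  have hg' : g' ∈ X := X.mul_mem hg (X.inv_mem (Subgroup.mem_inf.1 hz).1)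
  have hg'H : g' ∉ H := fun h => hgH (by simpa [g'] using H.mul_mem h hz)
  set q' := g'⁻¹ * q * g'
  have hq'Q : q' ∈ Q := by
    have h1 := hconj _ (Subgroup.mem_zpowers (g⁻¹ * q * g))
    simpa [q', g', mul_assoc] using h1
  have hlow : ∀ {a : GLw p w}, a ∈ X → a ∈ Low p w → a ∈ H := fun ha hl => hLH (Subgroup.mem_inf.2 ⟨ha, hl⟩)
  by_cases h1 : ent (q' : M2 p w) 1 0 ≠ 0
  · exact hg'H (hlow hg' (hR.low_of_regular hq'Q h1 (by simpa [q', mul_assoc] using hR.uni hq)))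
  by_cases h2 : ent (q : M2 p w) 1 0 ≠ 0
  · have hl := hR.low_of_regular (g := g'⁻¹) hq h2 (by simpa [q', mul_assoc] using hR.uni hq'Q)
    exact hg'H (hlow hg' (by simpa using (Low p w).inv_mem hl))
  push Not at h1 h2
  refine hg'H (Subgroup.mem_inf.2 ⟨hg', mem_normalizer_zpowers ?_⟩)
  have hq'1 : q' ≠ 1 := fun h => hq1 (by simpa [q', mul_assoc] using congrArg (fun a => g' * a * g'⁻¹) h)
  have hsq' : s ∈ Subgroup.zpowers q' := by
    have hle : Subgroup.zpowers q' ≤ Subgroup.zpowers s :=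
      Subgroup.zpowers_le.2 (hsingle _ (hR.mem_Gam.2 ⟨hq'Q, h1⟩))
    rw [Subgroup.eq_of_le_of_card_ge hle (by
      rw [Nat.card_zpowers, Nat.card_zpowers, hord, orderOf_eq_prime (pow_p_eq_one hwp (hR.uni hq'Q)) hq'1])]
    exact Subgroup.mem_zpowers s
  obtain ⟨k, hk⟩ := Subgroup.mem_zpowers_iff.1 hsq'
  rw [← hk, ← MulAut.conj_apply, map_zpow, MulAut.conj_apply]
  refine Subgroup.zpow_mem _ ?_ k
  rw [hk]
  simpa [q', mul_assoc] using hsingle _ (hR.mem_Gam.2 ⟨hq, h2⟩)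

/-- No group whose part with trivial first subdiagonal has order `p`. -/
theorem Reg.case_single (hR : Reg X Q) (hirr : Irr X) (hp5 : 5 ≤ p) (hwp : w ≤ p - 1) (hind : Small p w)
    (hc : Ctr X Q s d) (hA : 2 * d ≤ w + 1) (hsingle : ∀ γ ∈ Gam Q, γ ∈ Subgroup.zpowers s) : False := by
  have hdw := hc.lt
  have hd2 := hc.two_le
  have hw : 1 < w := by omega
  obtain ⟨x, hxQ, hx, hord, hcard, hgen, hN, hLH, hfree⟩ := hR.pair_data hc (by omega) hsingle
  obtain ⟨hsQ, -⟩ := hR.mem_Gam.1 hc.mem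
  set H := X ⊓ Subgroup.normalizer (Subgroup.zpowers s : Set (GLw p w)) with hH
  have hQH : Q ≤ H := fun a ha => hLH (Subgroup.mem_inf.2 ⟨hR.le ha, uni_le_low (hR.uni ha)⟩)
  set D : ℤ := ((p - 1 : ℕ) : ℤ) * (d : ℤ) + ((p - 1 : ℕ) : ℤ) * 1 with hD
  have hgain : ∀ q, Gains (kronRep (nat₀ X) q) (kronRep (nat₀ X) q) (dsum (dg w)) (dsum (dg w))
      (Q.subgroupOf X) D := fun q => by
    have h1 : Deg (dg w) (dg w) (nat₀ X ⟨x, hR.le hxQ⟩ - 1) 1 := mem_Uni.1 (uni_shift hx)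
    have h2 : Deg (dg w) (dg w) (nat₀ X ⟨s, hR.le hsQ⟩ - 1) (d : ℤ) := mem_Dg.1 hc.deg
    exact gains_two hcard (x := (⟨x, hR.le hxQ⟩ : X)) (s := (⟨s, hR.le hsQ⟩ : X)) hxQ hsQ
      (fun a ha => by
        obtain ⟨i, j, hi, hj, h⟩ := hgen a ha
        exact ⟨i, j, hi, hj, Subtype.ext h⟩) zero_le_one (by omega)
      (deg_kron_sub_one le_rfl h1) (deg_kron_sub_one le_rfl h1)
      (deg_kron_sub_one (by omega) h2) (deg_kron_sub_one (by omega) h2)
  have hconjs : ∀ h ∈ H, ∃ j < p, h * s * h⁻¹ = s ^ j := by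
    intro h hh
    have h1 : h * s * h⁻¹ ∈ Subgroup.zpowers s :=
      (Subgroup.mem_normalizer_iff.1 (Subgroup.mem_inf.1 hh).2 s).1 (Subgroup.mem_zpowers s)
    obtain ⟨j, hj, hje⟩ := Finset.mem_image.1 (mem_zpowers_iff_mem_range_orderOf.1 h1)
    rw [Finset.mem_range, hord] at hj
    exact ⟨j, hj, hje.symm⟩
  have hfix : ∀ h ∈ H, ∀ q ∈ Q, h * q * h⁻¹ ∈ Cs X s := by
    intro h hh q hq
    have hX := (Subgroup.mem_inf.1 hh).1
    refine mem_Cs.2 ⟨X.mul_mem (X.mul_mem hX (hR.le hq)) (X.inv_mem hX), ?_⟩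
    obtain ⟨j, -, hje⟩ := hconjs h⁻¹ (H.inv_mem hh)
    rw [inv_inv] at hje
    have : s = h * s ^ j * h⁻¹ := by rw [← hje]; group
    rw [this, show h * q * h⁻¹ * (h * s ^ j * h⁻¹) = h * (q * s ^ j) * h⁻¹ by group,
      show h * s ^ j * h⁻¹ * (h * q * h⁻¹) = h * (s ^ j * q) * h⁻¹ by group,
      ((show Commute q s from hc.comm q hq).pow_right j).eq]
  by_cases hclosed : Cs X s ≤ Low p w
  · have hHL : H ≤ X ⊓ Low p w := by
      intro g hg
      refine Subgroup.mem_inf.2 ⟨(Subgroup.mem_inf.1 hg).1, low_of_conj hx ?_⟩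
      have h1 := hfix g hg x hxQ
      refine mem_Uni_of_pow (hclosed h1) (k := 1) ?_
      rw [pow_one, ← MulAut.conj_apply, ← map_pow, pow_p_eq_one (by omega) (uni_shift hx), map_one]
    refine hR.eigen_contra hirr hw hN hHL hQH hfree hgain rfl ?_ (Or.inr ?_)
    · have : ((p - 1 : ℕ) : ℤ) * 2 ≤ ((p - 1 : ℕ) : ℤ) * (d : ℤ) :=
        mul_le_mul_of_nonneg_left (by omega) (by omega)
      rw [hD]; omega
    · have : ((p - 1 : ℕ) : ℤ) * 2 ≤ ((p - 1 : ℕ) : ℤ) * (d : ℤ) :=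
        mul_le_mul_of_nonneg_left (by omega) (by omega)
      have ho := Nat.le_of_dvd (by omega)
        (valOrd_dvd ((hR.torus hw).comp (Subgroup.inclusion hHL)) (n := p - 1) (by rw [card_zmod_units]))
      rw [hD]; omega
  have h2d := hR.nonclosed_val hp5 hwp hind hc hA hclosed
  set S := (s : M2 p w) - 1 with hS
  have hSS : S * S = 0 := eq_zero_of_deg (Deg.mul (mem_Dg.1 hc.deg) (mem_Dg.1 hc.deg)) (by omega)
  have hval : ∀ h ∈ H, ∃ j : ZMod p, j ^ 2 = 1 ∧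
      (h : M2 p w) * S * ((h⁻¹ : GLw p w) : M2 p w) = j • S ∧
      ∃ b ∈ X ⊓ Low p w, ratio b ^ d = j := by
    intro h hh
    obtain ⟨j, -, hje⟩ := hconjs h hh
    have h1 : (h : M2 p w) * S * ((h⁻¹ : GLw p w) : M2 p w) = (j : ZMod p) • S := by
      rw [← conj_sub_one h s, hje, pow_sub_one_of_sq hSS]
    obtain ⟨z, hz, hconj⟩ := exists_conj_le hR.isP (hc.le_Cs hR) (fun hd => hR.sylow (dvd_trans hd
      (Dvd.intro _ (Subgroup.relIndex_mul_relIndex Q (Cs X s) X (hc.le_Cs hR) inf_le_left))))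
      (hR.isP.map (MulAut.conj h).toMonoidHom) (by
        rintro _ ⟨q, hq, rfl⟩
        simpa [MulAut.conj_apply] using hfix h hh q hq)
    have hbl : z * h ∈ Low p w := by
      refine low_of_conj hx (hR.uni ?_)
      have := hconj _ ⟨x, hxQ, rfl⟩
      simpa [MulAut.conj_apply, mul_assoc] using this
    have hbX : z * h ∈ X := X.mul_mem (mem_Cs.1 hz).1 (Subgroup.mem_inf.1 hh).1
    have hbs : ((z * h : GLw p w) : M2 p w) * S * (((z * h)⁻¹ : GLw p w) : M2 p w) = (j : ZMod p) • S := by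
      rw [mul_inv_rev, Units.val_mul, Units.val_mul, show (z : M2 p w) * (h : M2 p w) * S
          * (((h⁻¹ : GLw p w) : M2 p w) * ((z⁻¹ : GLw p w) : M2 p w))
        = (z : M2 p w) * ((h : M2 p w) * S * ((h⁻¹ : GLw p w) : M2 p w)) * ((z⁻¹ : GLw p w) : M2 p w) by
          simp only [mul_assoc], h1, Matrix.mul_smul, Matrix.smul_mul, commute_sub_one (mem_Cs.1 hz).2,
        mul_assoc, ← Units.val_mul, mul_inv_cancel, Units.val_one, mul_one]
    have h3 := hR.conj_top hw hbX hbl (mem_Dg.1 hc.deg) 0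
    rw [hbs, ent_smul, zero_add] at h3
    have hj : (j : ZMod p) = ratio (z * h) ^ d := mul_right_cancel₀ hc.top_ne h3
    refine ⟨j, ?_, h1, z * h, Subgroup.mem_inf.2 ⟨hbX, hbl⟩, hj.symm⟩
    rw [hj, ← pow_mul, Nat.mul_comm, h2d, ZMod.pow_card_sub_one_eq_one (hR.ratio_ne_zero hw hbX hbl)]
  choose! jf hj2 hjS hjb using hval
  obtain ⟨q, hq1, hq2, hqj, hqb⟩ : ∃ q, 1 ≤ q ∧ q ≤ 2 ∧ (∀ h ∈ H, jf h ^ q = 1) ∧
      (q = 2 → ∃ b ∈ X ⊓ Low p w, ratio b ^ d = -1) := by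
    by_cases hall : ∀ h ∈ H, jf h = 1
    · exact ⟨1, le_rfl, by omega, fun h hh => by rw [hall h hh, one_pow], fun h => absurd h (by omega)⟩
    · push Not at hall
      obtain ⟨h, hh, hne⟩ := hall
      refine ⟨2, by omega, le_rfl, hj2, fun _ => ?_⟩
      obtain ⟨b, hb, hbj⟩ := hjb h hh
      exact ⟨b, hb, hbj.trans ((sq_eq_one_iff.1 (hj2 h hh)).resolve_left hne)⟩
  set W := kron (fun _ : Fin q => S) with hW
  have hWfix : ∀ h ∈ H.subgroupOf X, conjRep (kronRep (nat₀ X) q) (kronRep (nat₀ X) q) 1 h W = W := by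
    intro h hh
    have hh' : (h : GLw p w) ∈ H := hh
    rw [kronRep_conj, funext fun t => show nat₀ X h * S * nat₀ X h⁻¹ = jf (h : GLw p w) • S from hjS _ hh',
      kron_smul, Finset.prod_const, Finset.card_univ, Fintype.card_fin, hqj _ hh', one_smul]
  have hall := fixed_of_gain (H := H.subgroupOf X) (H' := (X ⊓ Low p w).subgroupOf X) (Q := Q.subgroupOf X)
    (fun g hg => hQH hg) (fun g hg r hr h => Subtype.ext (hfree g g.2 hg r hr h)) (hgain q)
    (m := -((q : ℤ) * ((w - 1 : ℕ) : ℤ))) (M := (q : ℤ) * ((w - 1 : ℕ) : ℤ))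
    (fun a b => by have := dsum_bound a; have := dsum_bound b; omega)
    (fun a b => by have := dsum_bound a; have := dsum_bound b; omega)
    (fun g hg => hLH hg) (hR.kron_weights hw le_rfl q) (fun z hz hz' => ?_) hWfix
  · refine irr_semicomm (A := S) hirr (fun h => hc.ne (Units.ext (sub_eq_zero.1 h)))
      ((mem_Dg.1 hc.deg).mono (by omega))
      (((hR.commute_shift hx).2 (hc.comm x hxQ).symm).sub_left (Commute.one_left _)) fun g hg => ?_
    have h3 := hall ⟨g, hg⟩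
    rw [kronRep_conj] at h3
    obtain ⟨c, hc0, hcc⟩ := kron_proportional h3 (fun _ h => hc.ne (Units.ext (sub_eq_zero.1 h))) ⟨0, hq1⟩
    simp only [nat₀_apply, InvMemClass.coe_inv] at hcc
    refine ⟨c⁻¹, ?_⟩
    have h4 := congrArg (fun A => A * (g : M2 p w)) hcc
    rw [mul_assoc _ ((g⁻¹ : GLw p w) : M2 p w), ← Units.val_mul, inv_mul_cancel, Units.val_one, mul_one,
      Matrix.smul_mul] at h4
    rw [h4, smul_smul, inv_mul_cancel₀ hc0, one_smul]
  · have hdd : (d : ℤ) * 2 ≤ (d : ℤ) * (d : ℤ) := mul_le_mul_of_nonneg_left (by omega) (by omega)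
    have hp1 : ((p - 1 : ℕ) : ℤ) = 2 * (d : ℤ) := by omega
    rw [hD, hp1, show 2 * (d : ℤ) * (d : ℤ) = 2 * ((d : ℤ) * d) by ring] at hz
    have hw2 : w ≤ 2 * d := by omega
    rcases Nat.lt_or_ge q 2 with hq | hq
    · obtain rfl : q = 1 := by omega
      omega
    obtain rfl : q = 2 := by omega
    by_cases hd : d = 2
    · subst hd
      obtain ⟨b, hb, hb2⟩ := hqb rfl
      have hbX := (Subgroup.mem_inf.1 hb).1
      refine ⟨⟨b, hbX⟩, hb, fun h1 => ?_⟩
      have hz6 : z = ((6 : ℕ) : ℤ) := by omega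
      simp only [hz6, zpow_natCast] at h1
      rw [show (6 : ℕ) = 2 * 3 from rfl, pow_mul, hb2] at h1
      have h2 : ((2 : ℕ) : ZMod p) = 0 := by push_cast; linear_combination -h1
      have := Nat.le_of_dvd (by norm_num) ((ZMod.natCast_eq_zero_iff 2 p).1 h2)
      omega
    · exfalso
      have : (d : ℤ) * 3 ≤ (d : ℤ) * (d : ℤ) := mul_le_mul_of_nonneg_left (by omega) (by omega)
      omega

end CfsgLib.RegUnip
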