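import Cfsg.Agent.Lib.SLGen.Three
import Cfsg.Agent.Lib.Sp.Basic

/-!
A regular unipotent symplectic matrix and the values of the form on the orbit of a cyclic vector.
-/

set_option autoImplicit false

namespace CfsgLib.RegUnip

open Matrix CfsgLib.AutPSL CfsgLib.SLGen

variable {F : Type*} [Field F] {n : ℕ}

/-- the Jordan block -/
noncomputable def spA (n : ℕ) (F : Type*) [Field F] : GL (Fin n) F :=
  Matrix.SpecialLinearGroup.toGL ⟨1 + jN n F, det_one_add_jN⟩

theorem spA_val : (spA n F).1 = 1 + jN n F := rfl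

/-- the symmetric corner -/
def spS (n : ℕ) {F : Type*} [Field F] (β γ : F) : Matrix (Fin n) (Fin n) F :=
  Matrix.of fun i j => if i.val + j.val + 2 = 2 * n then β else
    if i.val + j.val + 3 = 2 * n then γ else 0

/-- the symplectic matrix -/
noncomputable def spMat (n : ℕ) {F : Type*} [Field F] (β γ : F) :
    Matrix (Fin n ⊕ Fin n) (Fin n ⊕ Fin n) F :=
  fromBlocks (spA n F).1 ((spA n F).1 * spS n β γ) 0 ((spA n F)⁻¹ : GL (Fin n) F).1ᵀ

theorem spS_transpose (β γ : F) : (spS n β γ)ᵀ = spS n β γ := by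
  ext i j
  simp [spS, add_comm i.val]

theorem spMat_mem (β γ : F) : spMat n β γ ∈ Matrix.symplecticGroup (Fin n) F := by
  rw [SymplecticGroup.mem_iff, spMat, Matrix.J, fromBlocks_transpose, fromBlocks_multiply,
    fromBlocks_multiply]
  simp only [Matrix.mul_zero, Matrix.zero_mul, add_zero, zero_add, Matrix.mul_one, Matrix.mul_neg,
    Matrix.transpose_zero, Matrix.transpose_transpose, Matrix.transpose_mul, spS_transpose,
    Matrix.neg_mul]
  rw [Matrix.fromBlocks_inj]
  refine ⟨?_, ?_, ?_, neg_zero⟩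
  · rw [Matrix.mul_assoc, add_comm, add_eq_zero_iff_eq_neg]
  · rw [← Units.val_mul, mul_inv_cancel, Units.val_one]
  · rw [← Matrix.transpose_mul, ← Units.val_mul, mul_inv_cancel, Units.val_one, Matrix.transpose_one, neg_zero,
      add_zero]

/-- the regular unipotent element -/
noncomputable def spU (n : ℕ) {F : Type*} [Field F] (β γ : F) : Matrix.symplecticGroup (Fin n) F :=
  ⟨spMat n β γ, spMat_mem β γ⟩

/-- the cyclic vector -/
def spX (n : ℕ) (F : Type*) [Field F] : Fin n ⊕ Fin n → F :=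
  Sum.elim (fun _ => 0) fun i => if i.val = 0 then 1 else 0

/-- the upper half of `U ^ k x` -/
noncomputable def spTop (β γ : F) (k : ℕ) : Fin n → F :=
  fun i => (spMat n β γ ^ k *ᵥ spX n F) (.inl i)

/-- the lower half of `U ^ k x` -/
noncomputable def spBot (β γ : F) (k : ℕ) : Fin n → F :=
  fun i => (spMat n β γ ^ k *ᵥ spX n F) (.inr i)

variable (β γ : F)

theorem spTop_succ (k : ℕ) :
    spTop (n := n) β γ (k + 1) = (spA n F).1 *ᵥ (spTop β γ k + spS n β γ *ᵥ spBot β γ k) := by
  funext i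
  rw [spTop, pow_succ', ← Matrix.mulVec_mulVec, spMat, Matrix.fromBlocks_mulVec, Sum.elim_inl,
    Matrix.mulVec_add, Matrix.mulVec_mulVec]
  rfl

theorem spBot_succ (k : ℕ) :
    spBot (n := n) β γ (k + 1) = spBot β γ k ᵥ* ((spA n F)⁻¹ : GL (Fin n) F).1 := by
  funext i
  rw [spBot, pow_succ', ← Matrix.mulVec_mulVec, spMat, Matrix.fromBlocks_mulVec, Sum.elim_inr,
    Matrix.zero_mulVec, zero_add, Matrix.mulVec_transpose]
  rfl

theorem spTop_zero : spTop (n := n) β γ 0 = 0 := by
  funext i; simp [spTop, spX]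

theorem spBot_zero : spBot (n := n) β γ 0 = fun i => if i.val = 0 then 1 else 0 := by
  funext i; simp [spBot, spX]

theorem vecMul_spA_apply (v : Fin n → F) (i : Fin n) :
    (v ᵥ* (spA n F).1) i = v i + if h : 0 < i.val then v ⟨i.val - 1, by omega⟩ else 0 := by
  rw [spA_val, Matrix.vecMul_add, Matrix.vecMul_one, Pi.add_apply]
  congr 1
  rw [Matrix.vecMul, dotProduct]
  split_ifs with h
  · rw [Finset.sum_eq_single ⟨i.val - 1, by omega⟩]
    · simp [jN, Nat.sub_add_cancel h]
    · intro j _ hj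
      have : i.val ≠ j.val + 1 := fun e => hj (Fin.ext (by simp only; omega))
      simp [jN, this]
    · simp
  · refine Finset.sum_eq_zero fun j _ => ?_
    have : i.val ≠ j.val + 1 := by omega
    simp [jN, this]

theorem mulVec_spA_apply (v : Fin n → F) (i : Fin n) :
    ((spA n F).1 *ᵥ v) i = v i + if h : i.val + 1 < n then v ⟨i.val + 1, h⟩ else 0 := by
  rw [spA_val, Matrix.add_mulVec, Matrix.one_mulVec, Pi.add_apply]
  congr 1
  rw [Matrix.mulVec, dotProduct]
  split_ifs with h
  · rw [Finset.sum_eq_single ⟨i.val + 1, h⟩]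
    · simp [jN]
    · intro j _ hj
      have : j.val ≠ i.val + 1 := fun e => hj (Fin.ext e)
      simp [jN, this]
    · simp
  · refine Finset.sum_eq_zero fun j _ => ?_
    have : j.val ≠ i.val + 1 := by omega
    simp [jN, this]

theorem vecMul_spA_inv {v w : Fin n → F} (h : w ᵥ* (spA n F).1 = v) :
    v ᵥ* ((spA n F)⁻¹ : GL (Fin n) F).1 = w := by
  rw [← h, Matrix.vecMul_vecMul, ← Units.val_mul, mul_inv_cancel, Units.val_one, Matrix.vecMul_one]

theorem spBot_one : spBot (n := n) β γ 1 = fun i => (-1) ^ i.val := by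
  rw [spBot_succ, spBot_zero]
  refine vecMul_spA_inv (funext fun i => ?_)
  rw [vecMul_spA_apply]
  split_ifs with h h'
  · omega
  · try simp only
    conv_lhs => rw [show (i.val) = i.val - 1 + 1 by omega, pow_succ]
    simp
  · rw [show (i.val) = 0 by omega]; simp
  · omega

theorem spBot_two : spBot (n := n) β γ 2 = fun i => (-1) ^ i.val * ((i.val + 1 : ℕ) : F) := by
  rw [spBot_succ, spBot_one]
  refine vecMul_spA_inv (funext fun i => ?_)
  rw [vecMul_spA_apply]
  obtain ⟨i, hi⟩ := i
  rcases i with _ | i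
  · simp
  · simp only [Nat.succ_pos, dite_true, Nat.add_sub_cancel, pow_succ]
    push_cast
    ring

theorem spS_mulVec (v : Fin n → F) (i : Fin n) : (spS n β γ *ᵥ v) i =
    if i.val + 1 = n then β * v i + (if h : 2 ≤ n then γ * v ⟨n - 2, by omega⟩ else 0)
    else if h : i.val + 2 = n then γ * v ⟨n - 1, by omega⟩ else 0 := by
  classical
  rw [Matrix.mulVec, dotProduct]
  split_ifs with h1 h2 h3
  · rw [Finset.sum_eq_add i ⟨n - 2, by omega⟩ (fun e => by simp [Fin.ext_iff] at e; omega)]
    · simp only [spS, Matrix.of_apply]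
      rw [if_pos (by omega), if_neg (by omega), if_pos (by omega)]
    · intro j _ hj
      have a1 : j.val ≠ i.val := fun e => hj.1 (Fin.ext e)
      have a2 : j.val ≠ n - 2 := fun e => hj.2 (Fin.ext e)
      simp only [spS, Matrix.of_apply]
      rw [if_neg (by omega), if_neg (by omega), zero_mul]
    · simp
    · simp
  · rw [Finset.sum_eq_single i]
    · simp only [spS, Matrix.of_apply]
      rw [if_pos (by omega), add_zero]
    · intro j _ hj
      have a1 : j.val ≠ i.val := fun e => hj (Fin.ext e)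
      exact absurd a1 (by omega)
    · simp
  · rw [Finset.sum_eq_single ⟨n - 1, by omega⟩]
    · simp only [spS, Matrix.of_apply]
      rw [if_neg (by omega), if_pos (by omega)]
    · intro j _ hj
      have a1 : j.val ≠ n - 1 := fun e => hj (Fin.ext e)
      simp only [spS, Matrix.of_apply]
      rw [if_neg (by omega), if_neg (by omega), zero_mul]
    · simp
  · refine Finset.sum_eq_zero fun j _ => ?_
    simp only [spS, Matrix.of_apply]
    rw [if_neg (by omega), if_neg (by omega), zero_mul]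

theorem spTop_one (hn : 3 ≤ n) : spTop (n := n) β γ 1 = 0 := by
  rw [spTop_succ, spTop_zero, spBot_zero, zero_add]
  have : spS n β γ *ᵥ (fun i : Fin n => if i.val = 0 then (1 : F) else 0) = 0 := by
    funext i
    rw [spS_mulVec]
    simp only [Pi.zero_apply]
    split_ifs <;> first | omega | simp
  rw [this, Matrix.mulVec_zero]

/-- the leading coefficients -/
theorem spTop_lead (hn : 3 ≤ n) (k : ℕ) : 3 ≤ k →
    (∀ i : Fin n, i.val + k + 1 < n → spTop β γ k i = 0) ∧
    (∀ i : Fin n, i.val + k + 1 = n → spTop β γ k i = γ * (-1) ^ (n - 1)) ∧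
    (∀ i : Fin n, i.val + k = n →
      spTop β γ k i = (-1) ^ (n - 1) * (β + γ * ((n + 1 : ℕ) : F) + γ * ((k - 3 : ℕ) : F))) := by
  intro hk
  induction k, hk using Nat.le_induction with
  | base =>
    have h2 : ∀ i : Fin n, spTop β γ 2 i =
        ((spA n F).1 *ᵥ (spS n β γ *ᵥ fun j : Fin n => (-1) ^ j.val)) i := fun i => by
      rw [spTop_succ, spTop_one β γ hn, spBot_one, zero_add]
    have hS : ∀ j : Fin n, j.val + 2 < n → (spS n β γ *ᵥ fun j : Fin n => (-1 : F) ^ j.val) j = 0 :=
      fun j hj => by rw [spS_mulVec, if_neg (by omega), dif_neg (by omega)]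
    have hT : ∀ i : Fin n, i.val + 3 < n → spTop β γ 2 i = 0 := fun i hi => by
      rw [h2, mulVec_spA_apply, hS _ (by omega), dif_pos (by omega), hS _ (by simp only; omega),
        add_zero]
    have hS2 : ∀ j : Fin n, j.val + 2 = n →
        (spS n β γ *ᵥ fun j : Fin n => (-1 : F) ^ j.val) j = γ * (-1) ^ (n - 1) := fun j hj => by
      rw [spS_mulVec, if_neg (by omega), dif_pos hj]
    have hT3 : ∀ i : Fin n, i.val + 3 = n → spTop β γ 2 i = γ * (-1) ^ (n - 1) := fun i hi => by
      rw [h2, mulVec_spA_apply, hS _ (by omega), dif_pos (by omega), hS2 _ (by simp only; omega),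
        zero_add]
    have hT2 : ∀ i : Fin n, i.val + 2 = n → spTop β γ 2 i = β * (-1) ^ (n - 1) := fun i hi => by
      rw [h2, mulVec_spA_apply, hS2 _ hi, dif_pos (by omega), spS_mulVec]
      simp only
      rw [if_pos (by omega), dif_pos (by omega), show i.val + 1 = n - 1 by omega]
      conv_lhs => rw [show n - 1 = n - 2 + 1 by omega, pow_succ]
      rw [show n - 1 = n - 2 + 1 by omega, pow_succ]
      ring
    have hstep : ∀ i : Fin n, spTop β γ 3 i = ((spA n F).1 *ᵥ (spTop β γ 2 +
        spS n β γ *ᵥ fun j : Fin n => (-1) ^ j.val * ((j.val + 1 : ℕ) : F))) i := fun i => by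
      rw [spTop_succ, spBot_two]
    refine ⟨fun i hi => ?_, fun i hi => ?_, fun i hi => ?_⟩
    · rw [hstep, mulVec_spA_apply, dif_pos (by omega), Pi.add_apply, Pi.add_apply, spS_mulVec,
        spS_mulVec, if_neg (by omega), dif_neg (by omega), if_neg (by simp only; omega),
        dif_neg (by simp only; omega), hT _ (by omega), hT _ (by simp only; omega)]
      simp
    · rw [hstep, mulVec_spA_apply, dif_pos (by omega), Pi.add_apply, Pi.add_apply, spS_mulVec,
        spS_mulVec, if_neg (by omega), dif_neg (by omega), if_neg (by simp only; omega),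
        dif_neg (by simp only; omega), hT _ (by omega), hT3 _ (by simp only; omega)]
      simp
    · rw [hstep, mulVec_spA_apply, dif_pos (by omega), Pi.add_apply, Pi.add_apply, spS_mulVec,
        spS_mulVec, if_neg (by omega), dif_neg (by omega), if_neg (by simp only; omega),
        dif_pos (by simp only; omega), hT3 _ (by omega), hT2 _ (by simp only; omega)]
      simp only [show n - 1 + 1 = n by omega, Nat.sub_self]
      push_cast
      ring
  | succ k hk ih =>
    obtain ⟨h0, h1, h2⟩ := ih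
    have hsucc : ∀ i : Fin n, ∀ _hi : i.val + (k + 1) ≤ n,
        spTop β γ (k + 1) i = spTop β γ k i + spTop β γ k ⟨i.val + 1, (by omega : i.val + 1 < n)⟩ := by
      intro i hi
      have hi1 : i.val + 1 < n := by omega
      rw [spTop_succ, mulVec_spA_apply, dif_pos hi1, Pi.add_apply, Pi.add_apply, spS_mulVec,
        spS_mulVec, if_neg (show ¬ i.val + 1 = n by omega), dif_neg (show ¬ i.val + 2 = n by omega),
        if_neg (by simp only; omega), dif_neg (by simp only; omega), add_zero, add_zero]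
    refine ⟨fun i hi => ?_, fun i hi => ?_, fun i hi => ?_⟩
    · rw [hsucc i (by omega), h0 _ (by omega), h0 _ (by simp only; omega), add_zero]
    · rw [hsucc i (by omega), h0 _ (by omega), h1 _ (by simp only; omega), zero_add]
    · rw [hsucc i (by omega), h1 _ (by omega), h2 _ (by simp only; omega),
        show k + 1 - 3 = k - 3 + 1 by omega]
      push_cast
      ring

/-- the values `f (U ^ k x) x` -/
noncomputable def spVal (k : ℕ) : F :=
  CfsgLib.Sp.sf (spMat n β γ ^ k *ᵥ spX n F) (spX n F)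

theorem spVal_eq (hn : 0 < n) (k : ℕ) : spVal (n := n) β γ k = -spTop β γ k ⟨0, hn⟩ := by
  rw [spVal, CfsgLib.Sp.sf_eq, Finset.sum_eq_single ⟨0, hn⟩]
  · simp [spX, spTop]
  · intro j _ hj
    have : j.val ≠ 0 := fun e => hj (Fin.ext e)
    simp [spX, this]
  · simp

theorem spVal_small (hn : 3 ≤ n) {k : ℕ} (hk : k + 1 < n) : spVal (n := n) β γ k = 0 := by
  rw [spVal_eq β γ (by omega), neg_eq_zero]
  rcases Nat.lt_or_ge k 3 with h | h
  · obtain rfl | rfl | rfl : k = 0 ∨ k = 1 ∨ k = 2 := by omega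
    · rw [spTop_zero]; rfl
    · rw [spTop_one β γ hn]; rfl
    · rw [spTop_succ, spTop_one β γ hn, spBot_one, zero_add, mulVec_spA_apply, spS_mulVec,
        if_neg (by simp only; omega), dif_neg (by simp only; omega), dif_pos (by simp only; omega),
        spS_mulVec, if_neg (by simp only; omega), dif_neg (by simp only; omega), add_zero]
  · exact (spTop_lead β γ hn k h).1 _ (by simp only; omega)

theorem spVal_pred (hn : 3 ≤ n) : spVal (n := n) β γ (n - 1) = -(γ * (-1) ^ (n - 1)) := by
  rw [spVal_eq β γ (by omega), neg_inj]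
  rcases Nat.lt_or_ge n 4 with h | h
  · obtain rfl : n = 3 := by omega
    rw [spTop_succ, spTop_one β γ hn, spBot_one, zero_add, mulVec_spA_apply, spS_mulVec,
      if_neg (by simp), dif_neg (by simp), dif_pos (by simp), spS_mulVec, if_neg (by simp),
      dif_pos (by simp), zero_add]
  · exact (spTop_lead β γ hn (n - 1) (by omega)).2.1 _ (by simp only; omega)

theorem spVal_n (hn : 3 ≤ n) :
    spVal (n := n) β γ n = -((-1) ^ (n - 1) * (β + 2 * γ * ((n : F) - 1))) := by
  rw [spVal_eq β γ (by omega), neg_inj, (spTop_lead β γ hn n hn).2.2 _ (by simp only; omega),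
    Nat.cast_sub hn]
  push_cast
  ring

theorem spA_two (v : Fin 2 → F) : (spA 2 F).1 *ᵥ v = ![v 0 + v 1, v 1] := by
  funext i
  rw [mulVec_spA_apply]
  fin_cases i <;> simp

theorem spS_two (v : Fin 2 → F) : spS 2 β γ *ᵥ v = ![γ * v 1, β * v 1 + γ * v 0] := by
  funext i
  rw [spS_mulVec]
  fin_cases i <;> simp

theorem spVal_two_one (n2 : n = 2) : spVal (n := n) β γ 1 = -γ := by
  subst n2
  rw [spVal_eq β γ (by norm_num), spTop_succ, spTop_zero, spBot_zero, zero_add, spS_two, spA_two]
  simp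

theorem spVal_two_two (n2 : n = 2) : spVal (n := n) β γ 2 = β - 2 * γ := by
  subst n2
  rw [spVal_eq β γ (by norm_num), spTop_succ, spTop_succ, spTop_zero, spBot_one, spBot_zero, zero_add]
  simp only [spS_two, spA_two]
  simp
  ring

theorem spVal_two_three (n2 : n = 2) : spVal (n := n) β γ 3 = 4 * β - 3 * γ := by
  subst n2
  rw [spVal_eq β γ (by norm_num), spTop_succ, spTop_succ, spTop_succ, spTop_zero, spBot_two,
    spBot_one, spBot_zero, zero_add]
  simp only [spS_two, spA_two]
  simp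
  ring

theorem spMat_sub_one : spMat n β γ - 1 = fromBlocks (jN n F) ((spA n F).1 * spS n β γ) 0
    (((spA n F)⁻¹ : GL (Fin n) F).1ᵀ - 1) := by
  rw [spMat, ← fromBlocks_one, sub_eq_add_neg, Matrix.fromBlocks_neg, Matrix.fromBlocks_add, spA_val]
  simp [sub_eq_add_neg]

theorem spA_last_fixed (hn : 0 < n) :
    (ev ⟨n - 1, by omega⟩ : Fin n → F) ᵥ* (spA n F).1 = ev ⟨n - 1, by omega⟩ := by
  rw [spA_val, Matrix.vecMul_add, Matrix.vecMul_one, ev_vecMul_jN, dif_neg (by simp; omega), add_zero]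

theorem spA_inv_sub : ((spA n F)⁻¹ : GL (Fin n) F).1 - 1 =
    -(jN n F * ((spA n F)⁻¹ : GL (Fin n) F).1) := by
  have h : (1 + jN n F) * ((spA n F)⁻¹ : GL (Fin n) F).1 = 1 := by
    rw [← spA_val, ← Units.val_mul, mul_inv_cancel, Units.val_one]
  rw [Matrix.add_mul, Matrix.one_mul] at h
  rw [sub_eq_iff_eq_add, eq_comm, neg_add_eq_iff_eq_add]
  rw [add_comm] at h
  exact h.symm

theorem jN_comm_inv : Commute (jN n F) ((spA n F)⁻¹ : GL (Fin n) F).1 := by
  refine Commute.units_inv_right ?_
  show Commute (jN n F) (1 + jN n F)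
  exact (Commute.one_right _).add_right (Commute.refl _)

theorem spR_pow (k : ℕ) : (((spA n F)⁻¹ : GL (Fin n) F).1 - 1) ^ k =
    (-1 : F) ^ k • (jN n F ^ k * ((spA n F)⁻¹ : GL (Fin n) F).1 ^ k) := by
  rw [spA_inv_sub, ← neg_one_smul F (jN n F * _), smul_pow, jN_comm_inv.mul_pow]

theorem spN_pow_inr (k : ℕ) :
    (fun i => ((spMat n β γ - 1) ^ k *ᵥ spX n F) (.inr i)) =
      (fun i : Fin n => if i.val = 0 then (1 : F) else 0) ᵥ*
        (((spA n F)⁻¹ : GL (Fin n) F).1 - 1) ^ k := by
  induction k with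
  | zero => funext i; simp [spX]
  | succ k ih =>
    funext i
    rw [pow_succ', ← Matrix.mulVec_mulVec, pow_succ, ← Matrix.vecMul_vecMul, ← ih, spMat_sub_one,
      Matrix.fromBlocks_mulVec, Sum.elim_inr, Matrix.zero_mulVec, zero_add, Matrix.sub_mulVec,
      Matrix.one_mulVec, Matrix.mulVec_transpose, Matrix.vecMul_sub, Matrix.vecMul_one]
    rfl

theorem spN_pow_inl_last (hn : 2 ≤ n) (k : ℕ) :
    ((spMat n β γ - 1) ^ (k + 1) *ᵥ spX n F) (.inl ⟨n - 1, by omega⟩) =
      (spS n β γ *ᵥ ((fun i : Fin n => if i.val = 0 then (1 : F) else 0) ᵥ*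
        (((spA n F)⁻¹ : GL (Fin n) F).1 - 1) ^ k)) ⟨n - 1, by omega⟩ := by
  rw [pow_succ', ← Matrix.mulVec_mulVec, ← spN_pow_inr β γ k, spMat_sub_one,
    Matrix.fromBlocks_mulVec, Sum.elim_inl, Pi.add_apply,
    spA_val, ← Matrix.mulVec_mulVec, Matrix.add_mulVec, Pi.add_apply, Matrix.one_mulVec]
  have h0 : ∀ v : Fin n → F, (jN n F *ᵥ v) ⟨n - 1, by omega⟩ = 0 := fun v => by
    rw [Matrix.mulVec, dotProduct]
    refine Finset.sum_eq_zero fun j _ => ?_
    have : ¬ j.val = n - 1 + 1 := by omega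
    simp [jN, this]
  rw [h0, h0, zero_add, add_zero]
  rfl

theorem spN_pow_inl (k j : ℕ) (h : ∀ i, ((spMat n β γ - 1) ^ k *ᵥ spX n F) (.inr i) = 0) (i : Fin n) :
    ((spMat n β γ - 1) ^ (k + j) *ᵥ spX n F) (.inl i) =
      (jN n F ^ j *ᵥ fun l => ((spMat n β γ - 1) ^ k *ᵥ spX n F) (.inl l)) i ∧
    ∀ i, ((spMat n β γ - 1) ^ (k + j) *ᵥ spX n F) (.inr i) = 0 := by
  induction j generalizing i with
  | zero => exact ⟨by simp, h⟩
  | succ j ih =>
    rw [← add_assoc, pow_succ', ← Matrix.mulVec_mulVec, spMat_sub_one, Matrix.fromBlocks_mulVec]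
    rw [← spMat_sub_one β γ]
    have h0 : ((spMat n β γ - 1) ^ (k + j) *ᵥ spX n F) ∘ Sum.inr = 0 := funext (ih i).2
    refine ⟨?_, fun l => ?_⟩
    · rw [Sum.elim_inl, h0, Matrix.mulVec_zero, add_zero, pow_succ', ← Matrix.mulVec_mulVec]
      congr 2
      funext l
      exact (ih l).1
    · rw [Sum.elim_inr, h0]
      simp

/-- the top power of `U - 1` moves the cyclic vector -/
theorem spN_top (hn : 2 ≤ n) (hβ : β ≠ 0) :
    (spMat n β γ - 1) ^ (2 * n - 1) *ᵥ spX n F ≠ 0 ∧
      (spMat n β γ - 1) ^ (2 * n) *ᵥ spX n F = 0 := by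
  have hev : (fun i : Fin n => if i.val = 0 then (1 : F) else 0) = ev ⟨0, by omega⟩ := by
    funext i; simp [ev, Pi.single_apply, Fin.ext_iff]
  have hzero : ∀ i, ((spMat n β γ - 1) ^ n *ᵥ spX n F) (.inr i) = 0 := fun i => by
    have h := congrFun (spN_pow_inr β γ n) i
    rw [spR_pow, jN_pow_card, Matrix.zero_mul, smul_zero, Matrix.vecMul_zero] at h
    exact h
  have hlast : ((spMat n β γ - 1) ^ n *ᵥ spX n F) (.inl ⟨n - 1, by omega⟩) = β * (-1) ^ (n - 1) := by
    have h := spN_pow_inl_last β γ hn (n - 1)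
    rw [spR_pow, hev] at h
    have hv : ∀ k : ℕ, (ev ⟨0, by omega⟩ : Fin n → F) ᵥ* jN n F ^ k =
        if h : k < n then ev ⟨k, h⟩ else 0 := by
      intro k
      induction k with
      | zero => simp [show 0 < n by omega]
      | succ k ih =>
        rw [pow_succ, ← Matrix.vecMul_vecMul, ih]
        by_cases hk : k + 1 < n
        · rw [dif_pos hk, dif_pos (by omega), ev_vecMul_jN, dif_pos (by simpa using hk)]
        · rw [dif_neg hk]
          by_cases hk' : k < n
          · rw [dif_pos hk', ev_vecMul_jN, dif_neg (by simpa using hk)]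
          · rw [dif_neg hk', Matrix.zero_vecMul]
    have hfix : ∀ k : ℕ, (ev ⟨n - 1, by omega⟩ : Fin n → F) ᵥ* ((spA n F)⁻¹ : GL (Fin n) F).1 ^ k =
        ev ⟨n - 1, by omega⟩ := by
      intro k
      induction k with
      | zero => rw [pow_zero, Matrix.vecMul_one]
      | succ k ih =>
        rw [pow_succ, ← Matrix.vecMul_vecMul, ih, vecMul_spA_inv (spA_last_fixed (by omega))]
    rw [Matrix.vecMul_smul, ← Matrix.vecMul_vecMul, hv, dif_pos (by omega), hfix, Matrix.mulVec_smul,
      Pi.smul_apply, spS_mulVec] at h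
    rw [Nat.sub_add_cancel (show 1 ≤ n by omega)] at h
    rw [h]
    simp [ev, hn, Fin.ext_iff, show n - 2 ≠ n - 1 by omega]
    ring
  constructor
  · intro h0
    have h1 := (spN_pow_inl β γ n (n - 1) hzero ⟨0, by omega⟩).1
    rw [show n + (n - 1) = 2 * n - 1 by omega, h0, Pi.zero_apply] at h1
    set w : Fin n → F := fun l => ((spMat n β γ - 1) ^ n *ᵥ spX n F) (.inl l) with hw
    have h2 : (jN n F ^ (n - 1) *ᵥ w) ⟨0, by omega⟩ = w ⟨n - 1, by omega⟩ := by
      conv_lhs => rw [pi_eq_sum_univ' w]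
      rw [Matrix.mulVec_sum, Finset.sum_apply, Finset.sum_eq_single ⟨n - 1, by omega⟩]
      · rw [Matrix.mulVec_smul, show (Pi.single (⟨n - 1, by omega⟩ : Fin n) 1 : Fin n → F) =
          ev ⟨n - 1, by omega⟩ from rfl, jN_pow_mulVec_ev, if_pos le_rfl]
        simp [ev, Fin.ext_iff]
      · intro j _ hj
        have hj' : j.val ≠ n - 1 := fun e => hj (Fin.ext e)
        rw [Matrix.mulVec_smul, show (Pi.single j 1 : Fin n → F) = ev j from rfl, jN_pow_mulVec_ev,
          if_neg (by omega), smul_zero]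
        rfl
      · simp
    rw [h2, hw] at h1
    simp only [hlast] at h1
    exact mul_ne_zero hβ (pow_ne_zero _ (neg_ne_zero.2 one_ne_zero)) h1.symm
  · funext i
    rcases i with i | i
    · have h1 := (spN_pow_inl β γ n n hzero i).1
      rw [← two_mul, jN_pow_card, Matrix.zero_mulVec] at h1
      exact h1
    · have h1 := (spN_pow_inl β γ n n hzero i).2 i
      rwa [← two_mul] at h1

end CfsgLib.RegUnip
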