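import Cfsg.Agent.Lib.RegUnip.SympRegular
import Mathlib.LinearAlgebra.SymplecticGroup

/-!
# Regular unipotent elements of the standard symplectic group
-/

set_option autoImplicit false
set_option linter.all false

namespace CfsgLib.RegUnip.SympStd

open Matrix CfsgLib.GLClass CfsgLib.RegUnip.Symp

variable {F : Type*} [Field F] {m : ℕ}

/-- the ordering `e₁ … e_m f_m … f₁` -/
def ordr (m : ℕ) : Fin m ⊕ Fin m ≃ Fin (2 * m) where
  toFun := Sum.elim (fun i => ⟨i, by omega⟩) (fun i => ⟨2 * m - 1 - i, by omega⟩)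
  invFun i := if h : (i : ℕ) < m then .inl ⟨i, h⟩ else .inr ⟨2 * m - 1 - i, by omega⟩
  left_inv := by
    rintro (i | i)
    · simp
    · refine (dif_neg ?_).trans (congrArg Sum.inr (Fin.ext ?_))
      · show ¬ (2 * m - 1 - (i : ℕ)) < m
        omega
      · show 2 * m - 1 - (2 * m - 1 - (i : ℕ)) = i
        omega
  right_inv i := by
    by_cases h : (i : ℕ) < m
    · simp [h]
    · simp [h]; ext; simp; omega

/-- the change of indices -/
def tr (m : ℕ) (F : Type*) [Field F] :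
    Matrix (Fin m ⊕ Fin m) (Fin m ⊕ Fin m) F ≃ₐ[F] Matrix (Fin (2 * m)) (Fin (2 * m)) F :=
  Matrix.reindexAlgEquiv F F (ordr m)

/-- the form in the new ordering -/
def jn (m : ℕ) (F : Type*) [Field F] : Matrix (Fin (2 * m)) (Fin (2 * m)) F := tr m F (Matrix.J (Fin m) F)

theorem tr_transpose (A : Matrix (Fin m ⊕ Fin m) (Fin m ⊕ Fin m) F) : tr m F Aᵀ = (tr m F A)ᵀ := rfl

theorem isJ : IsJ (jn m F) := by
  refine ⟨?_, ?_⟩
  · rw [jn, ← map_mul, Matrix.J_squared, map_neg, map_one]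
  · rw [jn, ← tr_transpose, Matrix.J_transpose, map_neg]

theorem adj_tr (A : Matrix (Fin m ⊕ Fin m) (Fin m ⊕ Fin m) F) :
    adj (jn m F) (tr m F A) = tr m F (-(Matrix.J (Fin m) F * Aᵀ * Matrix.J (Fin m) F)) := by
  rw [adj, jn, ← tr_transpose, ← map_mul, ← map_mul, ← map_neg]

theorem mem_iff (A : Matrix (Fin m ⊕ Fin m) (Fin m ⊕ Fin m) F) :
    A ∈ Matrix.symplecticGroup (Fin m) F ↔ adj (jn m F) (tr m F A) * tr m F A = 1 := by
  rw [adj_tr, ← map_mul, ← map_one (tr m F), (tr m F).injective.eq_iff, SymplecticGroup.mem_iff', neg_mul, mul_assoc,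
    mul_assoc]
  simp only [mul_assoc]
  constructor
  · intro h
    rw [h, Matrix.J_squared, neg_neg]
  · intro h
    have h' := congrArg (Matrix.J (Fin m) F * ·) h
    simp only [mul_neg, ← mul_assoc, Matrix.J_squared, neg_mul, one_mul, neg_neg, mul_one] at h'
    rwa [← mul_assoc]

theorem isBlock_tr {A : Matrix (Fin m ⊕ Fin m) (Fin m ⊕ Fin m) F} :
    ((A - 1) ^ (2 * m) = 0 ∧ (A - 1).rank = 2 * m - 1) ↔ IsBlock (tr m F A - 1) := by
  have h1 : tr m F A - 1 = tr m F (A - 1) := by rw [map_sub, map_one]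
  have h2 : (tr m F (A - 1)).rank = (A - 1).rank := Matrix.rank_reindex _ _ _
  rw [h1]
  refine ⟨fun ⟨a, b⟩ => ⟨by rw [← map_pow, a, map_zero], h2.trans b⟩, fun h => ⟨?_, h2 ▸ h.rank_eq⟩⟩
  exact (tr m F).injective (by rw [map_pow, h.nil, map_zero])

/-- the centraliser, transported -/
noncomputable def centEquiv (u : Matrix.symplecticGroup (Fin m) F) :
    Subgroup.centralizer ({u} : Set (Matrix.symplecticGroup (Fin m) F)) ≃
      {g : Matrix (Fin (2 * m)) (Fin (2 * m)) F // adj (jn m F) g * g = 1 ∧ Commute (tr m F u.1) g} where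
  toFun g := ⟨tr m F g.1.1, (mem_iff _).1 g.1.2, by
    have := congrArg (fun x : Matrix.symplecticGroup (Fin m) F => tr m F x.1) (Subgroup.mem_centralizer_singleton_iff.1 g.2)
    simp only [Submonoid.coe_mul] at this
    rw [Commute, SemiconjBy, ← map_mul, ← map_mul]
    exact this.symm⟩
  invFun g := ⟨⟨(tr m F).symm g.1, (mem_iff _).2 (by rw [AlgEquiv.apply_symm_apply]; exact g.2.1)⟩,
    Subgroup.mem_centralizer_singleton_iff.2 (Subtype.ext ((tr m F).injective (by
      show tr m F ((tr m F).symm g.1 * u.1) = tr m F (u.1 * (tr m F).symm g.1)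
      rw [map_mul, map_mul, AlgEquiv.apply_symm_apply]
      exact g.2.2.symm.eq)))⟩
  left_inv g := Subtype.ext (Subtype.ext (AlgEquiv.symm_apply_apply _ _))
  right_inv g := Subtype.ext (AlgEquiv.apply_symm_apply _ _)

/-- a skew block -/
def skw (m : ℕ) (F : Type*) [Field F] : Matrix (Fin (2 * m)) (Fin (2 * m)) F :=
  Matrix.diagonal (fun i : Fin (2 * m) => if (i : ℕ) < m then (1 : F) else -1) * shiftMat (2 * m) F

theorem jn_apply (i j : Fin (2 * m)) :
    jn m F i j = if (i : ℕ) + j = 2 * m - 1 then (if (i : ℕ) < m then -1 else 1) else 0 := by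
  obtain ⟨a, rfl⟩ := (ordr m).surjective i
  obtain ⟨b, rfl⟩ := (ordr m).surjective j
  show Matrix.J (Fin m) F ((ordr m).symm (ordr m a)) ((ordr m).symm (ordr m b)) = _
  rw [Equiv.symm_apply_apply, Equiv.symm_apply_apply]
  rcases a with a | a <;> rcases b with b | b
  · show (0 : F) = _
    rw [if_neg (by simp [ordr]; omega)]
  · show (-(1 : Matrix (Fin m) (Fin m) F)) a b = _
    rw [Matrix.neg_apply, Matrix.one_apply]
    by_cases h : a = b
    · subst h; rw [if_pos rfl, if_pos (by simp [ordr]; omega), if_pos (by simp [ordr])]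
    · rw [if_neg h, if_neg (by simp [ordr, Fin.ext_iff] at h ⊢; omega), neg_zero]
  · show (1 : Matrix (Fin m) (Fin m) F) a b = _
    rw [Matrix.one_apply]
    by_cases h : a = b
    · subst h; rw [if_pos rfl, if_pos (by simp [ordr]; omega), if_neg (by simp [ordr]; omega)]
    · rw [if_neg h, if_neg (by simp [ordr, Fin.ext_iff] at h ⊢; omega)]
  · show (0 : F) = _
    rw [if_neg (by simp [ordr]; omega)]

theorem skw_apply (i j : Fin (2 * m)) :
    skw m F i j = if (j : ℕ) = i + 1 then (if (i : ℕ) < m then 1 else -1) else 0 := by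
  rw [skw, Matrix.diagonal_mul, shiftMat, Matrix.of_apply]
  split_ifs <;> simp

theorem skw_skew : adj (jn m F) (skw m F) = -skw m F := by
  have key : (skw m F)ᵀ * jn m F = -(jn m F * skw m F) := by
    ext i j
    rw [Matrix.neg_apply]
    by_cases h : (i : ℕ) + j = 2 * m
    · rw [Matrix.mul_apply, Matrix.mul_apply,
        Finset.sum_eq_single (⟨(i : ℕ) - 1, by omega⟩ : Fin (2 * m)) (fun x _ hx => by
          rw [Matrix.transpose_apply, skw_apply, if_neg (fun e => hx (Fin.ext (by simp; omega))), zero_mul]) (by simp),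
        Finset.sum_eq_single (⟨(j : ℕ) - 1, by omega⟩ : Fin (2 * m)) (fun x _ hx => by
          rw [skw_apply, if_neg (fun e => hx (Fin.ext (by simp; omega))), mul_zero]) (by simp)]
      simp only [Matrix.transpose_apply, skw_apply, jn_apply]
      rw [if_pos (show (i : ℕ) = (i : ℕ) - 1 + 1 by omega), if_pos (show (j : ℕ) = (j : ℕ) - 1 + 1 by omega),
        if_pos (show (i : ℕ) - 1 + j = 2 * m - 1 by omega), if_pos (show (i : ℕ) + ((j : ℕ) - 1) = 2 * m - 1 by omega)]
      split_ifs <;> first | ring1 | (exfalso; omega)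
    · rw [Matrix.mul_apply, Matrix.mul_apply, Finset.sum_eq_zero (fun x _ => ?_), Finset.sum_eq_zero (fun x _ => ?_),
        neg_zero]
      · rw [skw_apply, jn_apply]
        by_cases hx : (j : ℕ) = x + 1
        · rw [if_neg (show ¬ (i : ℕ) + x = 2 * m - 1 by omega), zero_mul]
        · rw [if_neg hx, mul_zero]
      · rw [Matrix.transpose_apply, skw_apply, jn_apply]
        by_cases hx : (i : ℕ) = x + 1
        · rw [if_neg (show ¬ (x : ℕ) + j = 2 * m - 1 by omega), mul_zero]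
        · rw [if_neg hx, zero_mul]
  rw [adj, mul_assoc, key, mul_neg, ← mul_assoc, isJ.sq, neg_mul, one_mul, neg_neg]

theorem skw_block (h2 : (2 : F) ≠ 0) : IsBlock (skw m F) := by
  have hz : ∀ k (i j : Fin (2 * m)), (j : ℕ) ≠ i + k → (skw m F ^ k) i j = 0 := by
    intro k
    induction k with
    | zero => intro i j h; rw [pow_zero, Matrix.one_apply_ne (fun e => h (by rw [e]; rfl))]
    | succ k ih =>
      intro i j h
      rw [pow_succ, Matrix.mul_apply]
      refine Finset.sum_eq_zero fun x _ => ?_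
      by_cases hx : (x : ℕ) = i + k
      · rw [skw_apply, if_neg (by omega), mul_zero]
      · rw [ih i x hx, zero_mul]
  refine ⟨Matrix.ext fun i j => hz _ i j (by omega), ?_⟩
  rw [skw, Matrix.rank_mul_eq_right_of_isUnit_det, isBlock_shiftMat.rank_eq]
  rw [Matrix.det_diagonal, isUnit_iff_ne_zero, Finset.prod_ne_zero_iff]
  intro i _
  split_ifs <;> simp

variable [Fintype F]

/-- a regular unipotent element of the symplectic group -/
theorem exists_regular (h2 : (2 : F) ≠ 0) (hm : 1 ≤ m) :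
    ∃ u : Matrix (Fin (2 * m)) (Fin (2 * m)) F, adj (jn m F) u * u = 1 ∧ IsBlock (u - 1) := by
  obtain ⟨T, hT⟩ : ∃ T, T = skw m F := ⟨_, rfl⟩
  have hb : IsBlock T := hT ▸ skw_block h2
  have hnil : IsNilpotent T := ⟨2 * m, hb.nil⟩
  obtain ⟨W, hW⟩ := hnil.isUnit_one_add
  obtain ⟨w, hw⟩ : ∃ w, w = ((W⁻¹ : (Matrix (Fin (2 * m)) (Fin (2 * m)) F)ˣ) : Matrix (Fin (2 * m)) (Fin (2 * m)) F) :=
    ⟨_, rfl⟩
  have hwT : w * (1 + T) = 1 := by rw [hw, ← hW]; exact Units.inv_mul _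
  have hTw : (1 + T) * w = 1 := mul_eq_one_comm.1 hwT
  have hs : adj (jn m F) T = -T := by rw [hT, skw_skew]
  have hw2 : adj (jn m F) w * (1 - T) = 1 := by
    have e := congrArg (adj (jn m F)) hwT
    rw [adj_mul isJ, adj_add isJ, adj_one isJ, hs, ← sub_eq_add_neg] at e
    exact mul_eq_one_comm.1 e
  refine ⟨(1 - T) * w, ?_, ?_⟩
  · rw [adj_mul isJ, adj_sub isJ, adj_one isJ, hs, sub_neg_eq_add]
    rw [show adj (jn m F) w * (1 + T) * ((1 - T) * w) = adj (jn m F) w * ((1 + T) * (1 - T)) * w by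
      simp only [mul_assoc]]
    rw [(show Commute (1 + T) (1 - T) from ((Commute.one_left _).add_left
      ((Commute.one_right T).sub_right (Commute.refl T)))).eq, ← mul_assoc, hw2, one_mul, hTw]
  · have hc : Commute T w := hw ▸ Commute.units_inv_right (hW.symm ▸ (Commute.one_right T).add_right (Commute.refl T))
    have e : (1 - T) * w - 1 = T * ((-2 : F) • w) := by
      nth_rewrite 2 [← hTw]
      rw [← sub_mul, mul_smul_comm, show (1 - T) - (1 + T) = (-2 : F) • T by rw [neg_smul, two_smul]; abel,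
        smul_mul_assoc]
    rw [e]
    refine ⟨?_, ?_⟩
    · rw [(hc.smul_right _).mul_pow, hb.nil, zero_mul]
    · rw [Matrix.rank_mul_eq_left_of_isUnit_det, hb.rank_eq]
      rw [← Matrix.isUnit_iff_isUnit_det]
      exact isUnit_of_scalar (a := -2) (by
        have h0 : IsNilpotent (w - 1) := by
          rw [show w - 1 = -(T * w) by
            rw [eq_neg_iff_add_eq_zero, sub_add_eq_add_sub, sub_eq_zero, ← hTw, add_mul, one_mul]]
          exact (hc.isNilpotent_mul_right hnil).neg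
        rw [← smul_sub]
        exact h0.smul _) (neg_ne_zero.2 h2)

theorem card_classes (h2 : (2 : F) ≠ 0) (hm : 1 ≤ m) :
    Nat.card {C : ConjClasses ↥(Matrix.symplecticGroup (Fin m) F) // ∃ u : Matrix.symplecticGroup (Fin m) F,
      ConjClasses.mk u = C ∧ (u.1 - 1) ^ (2 * m) = 0 ∧ (u.1 - 1).rank = 2 * m - 1} = 2 := by
  obtain ⟨u, hu, hb⟩ := exists_regular (F := F) h2 hm
  have hn : 1 ≤ 2 * m := by omega
  have hcast : ∀ g, adj (jn m F) g * g = 1 → (tr m F).symm g ∈ Matrix.symplecticGroup (Fin m) F := fun g hg =>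
    (mem_iff _).2 (by rw [AlgEquiv.apply_symm_apply]; exact hg)
  obtain ⟨μ, hμ⟩ : ∃ μ : F, ¬ IsSquare μ := FiniteField.exists_nonsquare fun h => h2 (by
    haveI : CharP F 2 := ringChar.of_eq h
    exact CharTwo.two_eq_zero)
  have hμ0 : μ ≠ 0 := fun h => hμ (h ▸ IsSquare.zero)
  obtain ⟨D, hD⟩ : ∃ D, D = tr m F (Matrix.fromBlocks (1 : Matrix (Fin m) (Fin m) F) 0 0 (μ • (1 : Matrix (Fin m) (Fin m) F))) :=
    ⟨_, rfl⟩
  have hDD : adj (jn m F) D * D = μ • 1 := by
    rw [hD, adj_tr, ← map_mul, ← map_one (tr m F), ← map_smul]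
    congr 1
    rw [Matrix.J, ← Matrix.fromBlocks_one, Matrix.fromBlocks_smul]
    simp [Matrix.fromBlocks_transpose, Matrix.fromBlocks_multiply, Matrix.fromBlocks_neg]
  obtain ⟨d, hd⟩ : IsUnit D := IsUnit.of_mul_eq_one_right (μ⁻¹ • adj (jn m F) D) (by
    rw [smul_mul_assoc, hDD, smul_smul, inv_mul_cancel₀ hμ0, one_smul])
  obtain ⟨di, hdi⟩ : ∃ di, di = ((d⁻¹ : (Matrix (Fin (2 * m)) (Fin (2 * m)) F)ˣ) : Matrix (Fin (2 * m)) (Fin (2 * m)) F) :=
    ⟨_, rfl⟩
  have hDi : D * di = 1 := by rw [hdi, ← hd]; exact Units.mul_inv _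
  have hiD : di * D = 1 := mul_eq_one_comm.1 hDi
  have hadi : adj (jn m F) di = μ⁻¹ • D := by
    have e : adj (jn m F) D = μ • di := by
      rw [← mul_one (adj (jn m F) D), ← hDi, ← mul_assoc, hDD, smul_mul_assoc, one_mul]
    have e2 := congrArg (adj (jn m F)) e
    rw [adj_adj isJ, adj_smul isJ] at e2
    conv_rhs => rw [e2]
    rw [smul_smul, inv_mul_cancel₀ hμ0, one_smul]
  obtain ⟨v, hv⟩ : ∃ v, v = D * u * di := ⟨_, rfl⟩
  have hvS : adj (jn m F) v * v = 1 := by
    rw [hv, adj_mul isJ, adj_mul isJ, hadi, show μ⁻¹ • D * (adj (jn m F) u * adj (jn m F) D) * (D * u * di) =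
      μ⁻¹ • (D * (adj (jn m F) u * (adj (jn m F) D * D) * u) * di) by simp only [smul_mul_assoc, mul_assoc], hDD,
      mul_smul_comm, mul_one, smul_mul_assoc, hu, mul_smul_comm, mul_one, smul_mul_assoc, hDi, smul_smul,
      inv_mul_cancel₀ hμ0, one_smul]
  have hvb : IsBlock (v - 1) := by
    have e : v - 1 = D * (u - 1) * di := by rw [hv, mul_sub, sub_mul, mul_one, hDi]
    have hdet : ∀ M N : Matrix (Fin (2 * m)) (Fin (2 * m)) F, M * N = 1 → IsUnit M.det := fun M N h =>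
      (Matrix.isUnit_iff_isUnit_det _).1 (IsUnit.of_mul_eq_one _ h)
    refine ⟨?_, ?_⟩
    · rw [e, hdi, ← hd, Units.conj_pow, hb.nil, mul_zero, zero_mul]
    · rw [e, Matrix.rank_mul_eq_left_of_isUnit_det _ _ (hdet _ _ hiD),
        Matrix.rank_mul_eq_right_of_isUnit_det _ _ (hdet _ _ hDi), hb.rank_eq]
  have hDu : D * u = v * D := by rw [hv, mul_assoc, hiD, mul_one]
  have huv : Cls (jn m F) u v μ := ⟨d, by rw [hd, hDu], by rw [hd, hDD, sub_self]; exact IsNilpotent.zero⟩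
  obtain ⟨U, hU⟩ : ∃ U : Matrix.symplecticGroup (Fin m) F, tr m F U.1 = u :=
    ⟨⟨(tr m F).symm u, hcast _ hu⟩, AlgEquiv.apply_symm_apply _ _⟩
  obtain ⟨V, hV⟩ : ∃ V : Matrix.symplecticGroup (Fin m) F, tr m F V.1 = v :=
    ⟨⟨(tr m F).symm v, hcast _ hvS⟩, AlgEquiv.apply_symm_apply _ _⟩
  have hconj : ∀ A B : Matrix.symplecticGroup (Fin m) F, IsConj A B ↔
      ∃ y, adj (jn m F) y * y = 1 ∧ y * tr m F A.1 = tr m F B.1 * y := by
    intro A B
    rw [isConj_iff]
    constructor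
    · rintro ⟨c, rfl⟩
      refine ⟨tr m F c.1, (mem_iff _).1 c.2, ?_⟩
      rw [← map_mul, ← map_mul]
      exact congrArg (fun x : Matrix.symplecticGroup (Fin m) F => tr m F x.1)
        (show c * A = c * A * c⁻¹ * c by rw [inv_mul_cancel_right])
    · rintro ⟨y, hy, he⟩
      refine ⟨⟨(tr m F).symm y, hcast _ hy⟩, mul_inv_eq_iff_eq_mul.2 (Subtype.ext ((tr m F).injective ?_))⟩
      show tr m F ((tr m F).symm y * A.1) = tr m F (B.1 * (tr m F).symm y)
      rw [map_mul, map_mul, AlgEquiv.apply_symm_apply, he]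
  rw [Nat.card_eq_two_iff]
  refine ⟨⟨ConjClasses.mk U, U, rfl, isBlock_tr.2 (hU.symm ▸ hb)⟩, ⟨ConjClasses.mk V, V, rfl, isBlock_tr.2 (hV.symm ▸ hvb)⟩,
    fun h => ?_, ?_⟩
  · obtain ⟨y, hy, he⟩ := (hconj U V).1 (ConjClasses.mk_eq_mk_iff_isConj.1 (congrArg Subtype.val h))
    rw [hU, hV] at he
    obtain ⟨Y, hY⟩ : IsUnit y := IsUnit.of_mul_eq_one_right _ hy
    obtain ⟨b, hb'⟩ := cls_unique hn isJ h2 hu hb hvS (⟨Y, by rw [hY, he], by rw [hY, hy, one_smul, sub_self]; exact IsNilpotent.zero⟩ : Cls (jn m F) u v 1) huv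
    exact hμ ⟨b, by rw [hb', mul_one]⟩
  · refine Set.eq_univ_of_forall ?_
    rintro ⟨C, W, rfl, hW⟩
    have hwb : IsBlock (tr m F W.1 - 1) := isBlock_tr.1 hW
    have hwS := (mem_iff _).1 W.2
    obtain ⟨δ, hδ0, hδ⟩ := exists_cls hn isJ h2 hu hb hwS hwb
    by_cases hs : IsSquare δ
    · obtain ⟨r, rfl⟩ := hs
      obtain ⟨y, hy, he⟩ := isConj_of_cls hn isJ h2 hu hb hwS (fun h => hδ0 (by simp [h])) hδ
      refine Or.inl (Subtype.ext (ConjClasses.mk_eq_mk_iff_isConj.2 ((hconj U W).2 ⟨y, hy, by rw [hU, he]⟩).symm))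
    · have h' := cls_trans_similitude hn isJ h2 hμ0 (d := d) (by rw [hd, hDD]) (by rw [hd, hDu]) hδ
      have hsq : IsSquare (δ / μ) := by
        classical
        rw [← quadraticChar_one_iff_isSquare (div_ne_zero hδ0 hμ0), div_eq_mul_inv, map_mul,
          quadraticChar_neg_one_iff_not_isSquare.2 hs,
          quadraticChar_neg_one_iff_not_isSquare.2 (fun h => hμ (by simpa using h.inv))]
        norm_num
      obtain ⟨r, hr⟩ := hsq
      rw [hr] at h'
      obtain ⟨y, hy, he⟩ := isConj_of_cls hn isJ h2 hvS hvb hwS (fun h => div_ne_zero hδ0 hμ0 (by rw [hr, h, mul_zero])) h'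
      refine Or.inr (Subtype.ext (ConjClasses.mk_eq_mk_iff_isConj.2 ((hconj V W).2 ⟨y, hy, by rw [hV, he]⟩).symm))

end CfsgLib.RegUnip.SympStd
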