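import Cfsg.Agent.Lib.RegUnip.Tri
import Mathlib.GroupTheory.GroupAction.Quotient
import Mathlib.Algebra.Field.ZMod
import Mathlib.Algebra.Polynomial.AlgebraMap

/-!
# Relative traces with free orbits, and the gain of degree
-/

set_option autoImplicit false

open Finset
open scoped Classical

namespace CfsgLib.RegUnip

section Abstract

variable {X M k : Type*} [Group X] [CommRing k] [AddCommGroup M] [Module k M]
  (ρ : X →* Module.End k M) {H : Subgroup X}

theorem act_out {w : M} (hw : ∀ h ∈ H, ρ h w = w) (g : X) :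
    ρ (Quotient.out (g : X ⧸ H)) w = ρ g w := by
  have h1 : g⁻¹ * Quotient.out (g : X ⧸ H) ∈ H :=
    QuotientGroup.eq.1 (Quotient.out_eq (g : X ⧸ H)).symm
  calc ρ (Quotient.out (g : X ⧸ H)) w
      = ρ (g * (g⁻¹ * Quotient.out (g : X ⧸ H))) w := by rw [mul_inv_cancel_left]
    _ = ρ g w := by rw [map_mul, Module.End.mul_apply, hw _ h1]

variable [Finite X] [Fintype (X ⧸ H)]

theorem act_sum_out {w : M} (hw : ∀ h ∈ H, ρ h w = w) (g : X) :
    ρ g (∑ c : X ⧸ H, ρ c.out w) = ∑ c : X ⧸ H, ρ c.out w := by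
  rw [map_sum]
  refine Fintype.sum_equiv (MulAction.toPerm g) _ _ fun c => ?_
  induction c using QuotientGroup.induction_on with
  | H a =>
    rw [MulAction.toPerm_apply, MulAction.Quotient.smul_coe, smul_eq_mul, act_out ρ hw, act_out ρ hw,
      map_mul, Module.End.mul_apply]

/-- The sum over the cosets differs from the base term by sums over free orbits of `Q`. -/
theorem sum_out_sub_mem {Q : Subgroup X} [Fintype Q] (hQH : Q ≤ H)
    (hfree : ∀ g : X, g ∉ H → ∀ q ∈ Q, g⁻¹ * q * g ∈ H → q = 1) {P : AddSubgroup M}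
    (hP : ∀ A : M, ∑ q : Q, ρ (q : X) A ∈ P) {w : M} (hw : ∀ h ∈ H, ρ h w = w) :
    (∑ c : X ⧸ H, ρ c.out w) - w ∈ P := by
  set b : X ⧸ H := ((1 : X) : X ⧸ H) with hb
  rw [← Finset.sum_erase_add _ _ (Finset.mem_univ b), hb, act_out ρ hw, map_one, Module.End.one_apply,
    add_sub_cancel_right]
  rw [← Finset.sum_fiberwise_of_maps_to
    (g := fun c : X ⧸ H => (Quotient.mk (MulAction.orbitRel Q (X ⧸ H)) c))
    (t := (Finset.univ.erase ((1 : X) : X ⧸ H)).image
      fun c : X ⧸ H => (Quotient.mk (MulAction.orbitRel Q (X ⧸ H)) c))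
    (fun c hc => Finset.mem_image_of_mem _ hc)]
  refine AddSubgroup.sum_mem _ fun o ho => ?_
  obtain ⟨c, hc, rfl⟩ := Finset.mem_image.1 ho
  obtain ⟨g, rfl⟩ := QuotientGroup.mk_surjective c
  have hg : g ∉ H := fun hg => (Finset.mem_erase.1 hc).1 (QuotientGroup.eq.2 (by simpa using hg))
  have hinj : Function.Injective fun q : Q => q • (g : X ⧸ H) := by
    intro q r h
    have h1 : ((q : X) * g : X ⧸ H) = (((r : X) * g : X) : X ⧸ H) := h
    have h2 := QuotientGroup.eq.1 h1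
    have h3 := hfree g hg ((q : X)⁻¹ * r) (Q.mul_mem (Q.inv_mem q.2) r.2)
      (by simpa [mul_assoc] using h2)
    exact Subtype.ext (inv_mul_eq_one.1 h3)
  have hfib : (Finset.univ.erase ((1 : X) : X ⧸ H)).filter (fun c =>
      Quotient.mk (MulAction.orbitRel Q (X ⧸ H)) c = Quotient.mk (MulAction.orbitRel Q (X ⧸ H)) (g : X ⧸ H))
      = Finset.univ.image fun q : Q => q • (g : X ⧸ H) := by
    ext c
    simp only [Finset.mem_filter, Finset.mem_erase, Finset.mem_univ, and_true, Finset.mem_image,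
      true_and, Quotient.eq, MulAction.orbitRel_apply, MulAction.mem_orbit_iff]
    refine ⟨fun h => h.2, ?_⟩
    rintro ⟨q, rfl⟩
    refine ⟨fun h => hg ?_, q, rfl⟩
    have h1 : ((q : X) * g : X) ∈ H := by
      have := QuotientGroup.eq.1 (show (((q : X) * g : X) : X ⧸ H) = ((1 : X) : X ⧸ H) from h)
      simpa using H.inv_mem this
    have h2 := H.mul_mem (H.inv_mem (hQH q.2)) h1
    simpa using h2
  rw [hfib, Finset.sum_image fun q _ r _ h => hinj h]
  convert hP (ρ g w) using 1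
  refine Finset.sum_congr rfl fun q _ => ?_
  rw [show q • (g : X ⧸ H) = (((q : X) * g : X) : X ⧸ H) from rfl, act_out ρ hw, map_mul,
    Module.End.mul_apply]

/-- A fixed vector of `H` is fixed by `X` when no error is possible. -/
theorem fixed_of_free {Q : Subgroup X} [Fintype Q] (hQH : Q ≤ H)
    (hfree : ∀ g : X, g ∉ H → ∀ q ∈ Q, g⁻¹ * q * g ∈ H → q = 1) {P : AddSubgroup M}
    (hP : ∀ A : M, ∑ q : Q, ρ (q : X) A ∈ P) (hzero : ∀ A ∈ P, (∀ h ∈ H, ρ h A = A) → A = 0)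
    {w : M} (hw : ∀ h ∈ H, ρ h w = w) (g : X) : ρ g w = w := by
  have h1 := sum_out_sub_mem ρ hQH hfree hP hw
  have h2 := hzero _ h1 fun h hh => by rw [map_sub, act_sum_out ρ hw, hw h hh]
  have h3 := act_sum_out ρ hw g
  rwa [sub_eq_zero.1 h2] at h3

end Abstract

section Conj

variable {ι κ k : Type*} [Fintype ι] [Fintype κ] [DecidableEq ι] [DecidableEq κ] [CommRing k]
  {X : Type*} [Group X]

/-- `A ↦ χ g • ρ₁ g * A * ρ₂ g⁻¹`. -/
def conjRep (ρ₁ : X →* Matrix ι ι k) (ρ₂ : X →* Matrix κ κ k) (χ : X →* k) :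
    X →* Module.End k (Matrix ι κ k) where
  toFun g :=
    { toFun := fun A => χ g • (ρ₁ g * A * ρ₂ g⁻¹)
      map_add' := fun A B => by rw [Matrix.mul_add, Matrix.add_mul, smul_add]
      map_smul' := fun c A => by
        rw [Matrix.mul_smul, Matrix.smul_mul, RingHom.id_apply, smul_comm] }
  map_one' := LinearMap.ext fun A => by simp
  map_mul' g h := LinearMap.ext fun A => by
    simp only [Module.End.mul_apply, LinearMap.coe_mk, AddHom.coe_mk, map_mul, mul_inv_rev,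
      Matrix.mul_smul, Matrix.smul_mul, smul_smul, Matrix.mul_assoc]

theorem conjRep_apply (ρ₁ : X →* Matrix ι ι k) (ρ₂ : X →* Matrix κ κ k) (χ : X →* k) (g : X)
    (A : Matrix ι κ k) : conjRep ρ₁ ρ₂ χ g A = χ g • (ρ₁ g * A * ρ₂ g⁻¹) := rfl

theorem conjRep_one_apply (ρ₁ : X →* Matrix ι ι k) (ρ₂ : X →* Matrix κ κ k) (g : X)
    (A : Matrix ι κ k) : conjRep ρ₁ ρ₂ 1 g A = ρ₁ g * A * ρ₂ g⁻¹ := by
  rw [conjRep_apply, MonoidHom.one_apply, one_smul]

variable (di : ι → ℤ) (dj : κ → ℤ)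

/-- The matrices of degree at least `e`. -/
def degAdd (e : ℤ) : AddSubgroup (Matrix ι κ k) where
  carrier := {A | Deg di dj A e}
  add_mem' := Deg.add
  zero_mem' := deg_zero
  neg_mem' := Deg.neg

theorem mem_degAdd {e : ℤ} {A : Matrix ι κ k} : A ∈ degAdd di dj e ↔ Deg di dj A e := Iff.rfl

theorem deg_pow_sub_one {A : Matrix ι ι k} {d : ℤ} (hd : 0 ≤ d) (h : Deg di di (A - 1) d) :
    ∀ n : ℕ, Deg di di (A ^ n - 1) d
  | 0 => by rw [pow_zero, sub_self]; exact deg_zero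
  | n + 1 => by
    have hA : Deg di di A 0 := by
      simpa using (h.mono hd).add (deg_one (di := di))
    rw [show A ^ (n + 1) - 1 = (A ^ n - 1) * A + (A - 1) by rw [pow_succ, sub_mul, one_mul]; abel]
    exact ((deg_pow_sub_one hd h n).mul' hA (by omega)).add h

theorem deg_inv_sub_one [Finite X] (ρ₁ : X →* Matrix ι ι k) {x : X} {d : ℤ} (hd : 0 ≤ d)
    (h : Deg di di (ρ₁ x - 1) d) : Deg di di (ρ₁ x⁻¹ - 1) d := by
  obtain ⟨n, hn⟩ : ∃ n : ℕ, x⁻¹ = x ^ n := ⟨orderOf x - 1, by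
    rw [inv_eq_iff_mul_eq_one, ← pow_succ', Nat.sub_add_cancel (orderOf_pos x), pow_orderOf_eq_one]⟩
  rw [hn, map_pow]
  exact deg_pow_sub_one di hd h n

/-- Conjugating by a unipotent element of degree `d` gains `d`. -/
theorem conjRep_sub_deg [Finite X] {ρ₁ : X →* Matrix ι ι k} {ρ₂ : X →* Matrix κ κ k} {x : X} {d : ℤ}
    (hd : 0 ≤ d) (h1 : Deg di di (ρ₁ x - 1) d) (h2 : Deg dj dj (ρ₂ x - 1) d) {e : ℤ}
    {A : Matrix ι κ k} (hA : Deg di dj A e) : Deg di dj (conjRep ρ₁ ρ₂ 1 x A - A) (e + d) := by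
  have h3 := deg_inv_sub_one dj ρ₂ hd h2
  have h4 : Deg dj dj (ρ₂ x⁻¹) 0 := by simpa using (h3.mono hd).add (deg_one (di := dj))
  rw [conjRep_one_apply, show ρ₁ x * A * ρ₂ x⁻¹ - A
      = (ρ₁ x - 1) * A * ρ₂ x⁻¹ + A * (ρ₂ x⁻¹ - 1) by
    rw [Matrix.sub_mul, Matrix.sub_mul, Matrix.one_mul, Matrix.mul_sub, Matrix.mul_one]; abel]
  exact (((h1.mul hA).mul' h4 (le_refl _)).mono (by omega)).add ((hA.mul h3).mono (by omega))

end Conj

section Gain

open Polynomial

variable {p : ℕ} [Fact p.Prime] {M : Type*} [AddCommGroup M] [Module (ZMod p) M]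

theorem sum_pow_eq (T : Module.End (ZMod p) M) :
    ∑ i ∈ Finset.range p, T ^ i = (T - 1) ^ (p - 1) := by
  have hne : (Polynomial.X - 1 : (ZMod p)[X]) ≠ 0 := by simpa using X_sub_C_ne_zero (1 : ZMod p)
  have h : (∑ i ∈ Finset.range p, (Polynomial.X : (ZMod p)[X]) ^ i) = (Polynomial.X - 1) ^ (p - 1) := by
    refine mul_left_cancel₀ hne ?_
    rw [mul_geom_sum, ← pow_succ', Nat.sub_add_cancel (Fact.out : p.Prime).one_le, sub_pow_char, one_pow]
  have h' := congrArg (aeval T) h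
  simpa using h'

/-- `∑_{i<p} T^i` gains `(p - 1) d` when `T - 1` gains `d`. -/
theorem sum_pow_gain {T : Module.End (ZMod p) M} (P : ℤ → AddSubgroup M) {d : ℤ}
    (hT : ∀ e, ∀ A ∈ P e, T A - A ∈ P (e + d)) {e : ℤ} {A : M} (hA : A ∈ P e) :
    ∑ i ∈ Finset.range p, (T ^ i) A ∈ P (e + ((p - 1 : ℕ) : ℤ) * d) := by
  have h : ∀ n : ℕ, ((T - 1) ^ n) A ∈ P (e + (n : ℤ) * d) := by
    intro n
    induction n with
    | zero => simpa using hA
    | succ n ih =>
      rw [pow_succ', Module.End.mul_apply, LinearMap.sub_apply, Module.End.one_apply,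
        show e + ((n + 1 : ℕ) : ℤ) * d = e + (n : ℤ) * d + d by push_cast; ring]
      exact hT _ _ ih
  have := h (p - 1)
  rw [← sum_pow_eq, LinearMap.sum_apply] at this
  exact this

end Gain

end CfsgLib.RegUnip
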