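import Mathlib.LinearAlgebra.Matrix.Charpoly.Basic
import Mathlib.GroupTheory.Perm.Cycle.Type
import Mathlib.GroupTheory.PGroup
import Mathlib.Algebra.CharP.Basic
import Mathlib.Algebra.CharP.Lemmas

/-!
# Matrices filtered by the distance below the diagonal

`Deg di dj A e` says that the entries of `A` of degree `< e` vanish, the degree of the entry
`(i, j)` being `di i - dj j`.
-/

set_option autoImplicit false

open Finset
open scoped Classical

namespace CfsgLib.RegUnip

section General

variable {ι κ μ R : Type*} [CommRing R]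

/-- The entries of degree less than `e` vanish. -/
def Deg (di : ι → ℤ) (dj : κ → ℤ) (A : Matrix ι κ R) (e : ℤ) : Prop :=
  ∀ i j, di i - dj j < e → A i j = 0

variable {di : ι → ℤ} {dj : κ → ℤ} {dk : μ → ℤ} {A B : Matrix ι κ R} {e f : ℤ}

theorem Deg.mono (h : Deg di dj A e) (hf : f ≤ e) : Deg di dj A f :=
  fun i j hij => h i j (lt_of_lt_of_le hij hf)

theorem deg_zero : Deg di dj (0 : Matrix ι κ R) e := fun _ _ _ => rfl

theorem Deg.add (hA : Deg di dj A e) (hB : Deg di dj B e) : Deg di dj (A + B) e :=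
  fun i j h => by rw [Matrix.add_apply, hA i j h, hB i j h, add_zero]

theorem Deg.neg (hA : Deg di dj A e) : Deg di dj (-A) e :=
  fun i j h => by rw [Matrix.neg_apply, hA i j h, neg_zero]

theorem Deg.sub (hA : Deg di dj A e) (hB : Deg di dj B e) : Deg di dj (A - B) e :=
  fun i j h => by rw [Matrix.sub_apply, hA i j h, hB i j h, sub_zero]

theorem Deg.smul (c : R) (hA : Deg di dj A e) : Deg di dj (c • A) e :=
  fun i j h => by rw [Matrix.smul_apply, hA i j h, smul_zero]

theorem Deg.sum {α : Type*} {s : Finset α} {F : α → Matrix ι κ R}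
    (h : ∀ a ∈ s, Deg di dj (F a) e) : Deg di dj (∑ a ∈ s, F a) e :=
  fun i j hij => by
    rw [Matrix.sum_apply]
    exact Finset.sum_eq_zero fun a ha => h a ha i j hij

theorem Deg.eq_zero (h : Deg di dj A e) (hlt : ∀ i j, di i - dj j < e) : A = 0 :=
  Matrix.ext fun i j => h i j (hlt i j)

theorem deg_one [DecidableEq ι] : Deg di di (1 : Matrix ι ι R) 0 := fun i j h => by
  rw [Matrix.one_apply, if_neg]
  rintro rfl
  omega

theorem Deg.mul [Fintype κ] {C : Matrix κ μ R} (hA : Deg di dj A e) (hC : Deg dj dk C f) :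
    Deg di dk (A * C) (e + f) := fun i k h => by
  rw [Matrix.mul_apply]
  refine Finset.sum_eq_zero fun j _ => ?_
  by_cases h1 : di i - dj j < e
  · rw [hA i j h1, zero_mul]
  · rw [hC j k (by omega), mul_zero]

theorem Deg.mul' [Fintype κ] {C : Matrix κ μ R} {g : ℤ} (hA : Deg di dj A e) (hC : Deg dj dk C f)
    (hg : g ≤ e + f) : Deg di dk (A * C) g :=
  (hA.mul hC).mono hg

theorem Deg.pow [Fintype ι] [DecidableEq ι] {C : Matrix ι ι R} (hC : Deg di di C e) :
    ∀ n : ℕ, Deg di di (C ^ n) (n * e)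
  | 0 => by rw [pow_zero]; exact deg_one.mono (by simp)
  | n + 1 => by
      rw [pow_succ]
      exact (hC.pow n).mul' hC (by push_cast; rw [add_mul, one_mul])

end General

section Square

variable {w : ℕ} {R : Type*} [CommRing R] {A B : Matrix (Fin w) (Fin w) R} {e f i j : ℕ}

/-- The degree of a coordinate. -/
def dg (w : ℕ) : Fin w → ℤ := fun i => (i : ℕ)

/-- The entries with natural indices, `0` outside. -/
noncomputable def ent (A : Matrix (Fin w) (Fin w) R) (i j : ℕ) : R :=
  if h : i < w ∧ j < w then A ⟨i, h.1⟩ ⟨j, h.2⟩ else 0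

theorem ent_fin (A : Matrix (Fin w) (Fin w) R) (i j : Fin w) : ent A i j = A i j := by
  rw [ent, dif_pos ⟨i.2, j.2⟩]

theorem ent_of_le (h : w ≤ i ∨ w ≤ j) : ent A i j = 0 := by
  rw [ent, dif_neg]
  omega

theorem ext_ent (h : ∀ i j, i < w → j < w → ent A i j = ent B i j) : A = B :=
  Matrix.ext fun i j => by
    have := h i j i.2 j.2
    rwa [ent_fin, ent_fin] at this

theorem ent_add : ent (A + B) i j = ent A i j + ent B i j := by
  unfold ent
  split_ifs <;> simp

theorem ent_sub : ent (A - B) i j = ent A i j - ent B i j := by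
  unfold ent
  split_ifs <;> simp

theorem ent_neg : ent (-A) i j = -ent A i j := by
  unfold ent
  split_ifs <;> simp

theorem ent_smul (c : R) : ent (c • A) i j = c * ent A i j := by
  unfold ent
  split_ifs <;> simp

theorem ent_zero : ent (0 : Matrix (Fin w) (Fin w) R) i j = 0 := by
  unfold ent
  split_ifs <;> simp

theorem ent_sum {α : Type*} (s : Finset α) (F : α → Matrix (Fin w) (Fin w) R) :
    ent (∑ a ∈ s, F a) i j = ∑ a ∈ s, ent (F a) i j := by
  unfold ent
  split_ifs with h
  · rw [Matrix.sum_apply]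
  · rw [Finset.sum_const_zero]

theorem ent_one (hi : i < w) : ent (1 : Matrix (Fin w) (Fin w) R) i j = if i = j then 1 else 0 := by
  by_cases hj : j < w
  · rw [ent, dif_pos ⟨hi, hj⟩, Matrix.one_apply]
    simp [Fin.ext_iff]
  · rw [ent_of_le (Or.inr (by omega)), if_neg (by omega)]

theorem ent_mul (hi : i < w) : ent (A * B) i j = ∑ k : Fin w, ent A i k * ent B k j := by
  by_cases hj : j < w
  · rw [ent, dif_pos ⟨hi, hj⟩, Matrix.mul_apply]
    refine Finset.sum_congr rfl fun k _ => ?_
    rw [ent, dif_pos ⟨hi, k.2⟩, ent, dif_pos ⟨k.2, hj⟩]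
  · rw [ent_of_le (Or.inr (by omega))]
    exact (Finset.sum_eq_zero fun k _ => by rw [ent_of_le (i := (k : ℕ)) (Or.inr (by omega)), mul_zero]).symm

theorem deg_iff {z : ℤ} : Deg (dg w) (dg w) A z ↔ ∀ i j : ℕ, (i : ℤ) - j < z → ent A i j = 0 := by
  refine ⟨fun h i j hij => ?_, fun h i j hij => ?_⟩
  · by_cases hlt : i < w ∧ j < w
    · rw [ent, dif_pos hlt]
      exact h _ _ hij
    · exact dif_neg hlt
  · have := h i j hij
    rwa [ent_fin] at this

theorem Deg.ent_eq {z : ℤ} (h : Deg (dg w) (dg w) A z) (hij : (i : ℤ) - j < z) : ent A i j = 0 :=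
  deg_iff.1 h i j hij

/-- The top component of a product. -/
theorem ent_mul_top (hA : Deg (dg w) (dg w) A e) (hB : Deg (dg w) (dg w) B f) :
    ent (A * B) (i + e + f) i = ent A (i + e + f) (i + f) * ent B (i + f) i := by
  by_cases hi : i + e + f < w
  · rw [ent_mul hi, Finset.sum_eq_single (⟨i + f, by omega⟩ : Fin w)]
    · intro k _ hk
      have hk' : (k : ℕ) ≠ i + f := fun h => hk (Fin.ext h)
      rcases Nat.lt_or_gt_of_ne hk' with h | h
      · rw [hB.ent_eq (by push_cast; omega), mul_zero]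
      · rw [hA.ent_eq (by push_cast; omega), zero_mul]
    · exact fun h => absurd (Finset.mem_univ _) h
  · rw [ent_of_le (Or.inl (by omega)), ent_of_le (A := A) (Or.inl (by omega)), zero_mul]

theorem deg_succ (hA : Deg (dg w) (dg w) A e) (h : ∀ i, ent A (i + e) i = 0) :
    Deg (dg w) (dg w) A (e + 1 : ℕ) :=
  deg_iff.2 fun i j hij => by
    by_cases hlt : (i : ℤ) - j < e
    · exact hA.ent_eq hlt
    · have : i = j + e := by omega
      subst this
      exact h j

theorem eq_zero_of_deg {z : ℤ} (h : Deg (dg w) (dg w) A z) (hz : (w : ℤ) ≤ z) : A = 0 :=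
  h.eq_zero fun i j => by simp only [dg]; omega

theorem ent_diag_mul (hA : Deg (dg w) (dg w) A 0) (hB : Deg (dg w) (dg w) B 0) (i : ℕ) :
    ent (A * B) i i = ent A i i * ent B i i := by
  have := ent_mul_top (i := i) (e := 0) (f := 0) (by exact_mod_cast hA) (by exact_mod_cast hB)
  simpa using this

/-- The shift matrix. -/
def shiftN (R : Type*) [CommRing R] (w : ℕ) : Matrix (Fin w) (Fin w) R :=
  Matrix.of fun i j => if (i : ℕ) = (j : ℕ) + 1 then 1 else 0

theorem ent_shiftN : ent (shiftN R w) i j = if i = j + 1 ∧ i < w then 1 else 0 := by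
  unfold ent shiftN
  split_ifs with h1 h2 h3 <;> simp_all <;> omega

theorem deg_shiftN : Deg (dg w) (dg w) (shiftN R w) 1 :=
  deg_iff.2 fun i j h => by rw [ent_shiftN, if_neg]; omega

theorem ent_shiftN_mul (hi : i + 1 < w) : ent (shiftN R w * A) (i + 1) j = ent A i j := by
  rw [ent_mul hi, Finset.sum_eq_single (⟨i, by omega⟩ : Fin w)]
  · rw [ent_shiftN, if_pos ⟨rfl, hi⟩, one_mul]
  · intro k _ hk
    have hk' : (k : ℕ) ≠ i := fun h => hk (Fin.ext h)
    rw [ent_shiftN, if_neg (by omega), zero_mul]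
  · exact fun h => absurd (Finset.mem_univ _) h

theorem ent_shiftN_mul_zero (hw : 0 < w) : ent (shiftN R w * A) 0 j = 0 := by
  rw [ent_mul hw]
  exact Finset.sum_eq_zero fun k _ => by rw [ent_shiftN, if_neg (by omega), zero_mul]

theorem ent_mul_shiftN (hi : i < w) (hj : j + 1 < w) : ent (A * shiftN R w) i j = ent A i (j + 1) := by
  rw [ent_mul hi, Finset.sum_eq_single (⟨j + 1, hj⟩ : Fin w)]
  · rw [ent_shiftN, if_pos ⟨rfl, hj⟩, mul_one]
  · intro k _ hk
    have hk' : (k : ℕ) ≠ j + 1 := fun h => hk (Fin.ext h)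
    rw [ent_shiftN, if_neg (by omega), mul_zero]
  · exact fun h => absurd (Finset.mem_univ _) h

theorem ent_mul_shiftN_last (hi : i < w) (hj : w ≤ j + 1) : ent (A * shiftN R w) i j = 0 := by
  rw [ent_mul hi]
  exact Finset.sum_eq_zero fun k _ => by rw [ent_shiftN, if_neg (by omega), mul_zero]

/-- Matrices commuting with the shift are constant along diagonals. -/
theorem ent_of_commute_shift (h : Commute A (shiftN R w)) : ∀ {i j : ℕ}, i < w → j < w →
    ent A i j = if j ≤ i then ent A (i - j) 0 else 0 := by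
  have hstep : ∀ i j, i + 1 < w → j + 1 < w → ent A (i + 1) (j + 1) = ent A i j := fun i j hi hj => by
    rw [← ent_mul_shiftN (A := A) hi hj, h.eq, ent_shiftN_mul hi]
  intro i j hi hj
  induction j generalizing i with
  | zero => simp
  | succ j ih =>
    rcases Nat.eq_zero_or_pos i with rfl | hi0
    · rw [if_neg (by omega), ← ent_mul_shiftN (A := A) hi hj, h.eq, ent_shiftN_mul_zero hi]
    · obtain ⟨i, rfl⟩ : ∃ k, i = k + 1 := ⟨i - 1, by omega⟩
      rw [hstep i j hi hj, ih (by omega) (by omega)]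
      simp [Nat.succ_sub_succ]

theorem ent_shiftN_pow : ∀ (n : ℕ) {i j : ℕ},
    ent ((shiftN R w) ^ n) i j = if i = j + n ∧ i < w then 1 else 0
  | 0, i, j => by
    rw [pow_zero]
    by_cases hi : i < w
    · rw [ent_one hi]; simp [hi]
    · rw [ent_of_le (Or.inl (by omega)), if_neg (by omega)]
  | n + 1, i, j => by
    by_cases hi : i < w
    · rw [pow_succ']
      rcases Nat.eq_zero_or_pos i with rfl | hi0
      · rw [ent_shiftN_mul_zero hi, if_neg (by omega)]
      · obtain ⟨i, rfl⟩ : ∃ k, i = k + 1 := ⟨i - 1, by omega⟩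
        rw [ent_shiftN_mul hi, ent_shiftN_pow n]
        exact if_congr (by omega) rfl rfl
    · rw [ent_of_le (Or.inl (by omega)), if_neg (by omega)]

end Square

end CfsgLib.RegUnip
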